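import Cfsg.Prelude.Def_Transfer
import Cfsg.Agent.Lib.Grp.Frattini

/-!
# A central product of a cyclic group of order four and an extraspecial group of order 32
-/

set_option autoImplicit false

namespace Cfsg.Agent.Grp.HSCent

universe u

variable {G : Type u} [Group G] [Finite G] {Cy E R : Subgroup G}

/-- The facts about the product. -/
theorem central_product (hCy : IsCyclic Cy) (hCyc : Nat.card Cy = 4)
    (hCyle : Cy ≤ R ⊓ Subgroup.centralizer (R : Set G)) (hEle : E ≤ R) (hEex : Cfsg.IsExtraspecial 2 E)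
    (hEcard : Nat.card E = 32) (hprod : Cy ⊔ E = R) (hmeet : Cy ⊓ E = E ⊓ Subgroup.centralizer (E : Set G))
    {t : G} (htt : t * t = 1) (ht1 : t ≠ 1) (htR : t ∈ R) (htZ : ∀ x ∈ R, x * t = t * x) :
    Nat.card R = 64 ∧ (∀ x ∈ R, x * x = 1 ∨ x * x = t) ∧
      ∃ c ∈ R, c * c = t ∧ (∀ x ∈ R, x * c = c * x) ∧
        ∀ x ∈ R, (∀ y ∈ R, x * y = y * x) → x = 1 ∨ x = c ∨ x = t ∨ x = c * t := by
  haveI : Fact (Nat.Prime 2) := ⟨Nat.prime_two⟩
  have hcomm : ∀ c ∈ Cy, ∀ x ∈ R, x * c = c * x := fun c hc x hx =>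
    Subgroup.mem_centralizer_iff.1 (hCyle hc).2 x hx
  obtain ⟨hEp, hEf, hEc⟩ := hEex.1
  let φ : Cy × E →* G :=
    { toFun := fun p => (p.1 : G) * p.2
      map_one' := by simp
      map_mul' := fun p q => by
        have := hcomm q.1 q.1.2 p.2 (hEle p.2.2)
        simp only [Prod.fst_mul, Prod.snd_mul, Subgroup.coe_mul, mul_assoc]
        rw [← mul_assoc (p.2 : G) (q.1 : G), this, mul_assoc] }
  have hrange : φ.range = R := by
    refine le_antisymm ?_ ?_
    · rintro _ ⟨p, rfl⟩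
      exact mul_mem (hCyle p.1.2).1 (hEle p.2.2)
    · rw [← hprod, sup_le_iff]
      exact ⟨fun c hc => ⟨(⟨c, hc⟩, 1), by simp [φ]⟩, fun e he => ⟨(1, ⟨e, he⟩), by simp [φ]⟩⟩
  have hZ : Nat.card ↥(Cy ⊓ E) = 2 := by
    rw [hmeet, ← hEex.2]
    refine Nat.card_congr
      { toFun := fun x => ⟨⟨x.1, x.2.1⟩, Subgroup.mem_center_iff.2 fun y =>
          Subtype.ext (Subgroup.mem_centralizer_iff.1 x.2.2 y y.2)⟩
        invFun := fun x => ⟨(x.1 : G), x.1.2, Subgroup.mem_centralizer_iff.2 fun y hy =>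
          congrArg Subtype.val (Subgroup.mem_center_iff.1 x.2 ⟨y, hy⟩)⟩
        left_inv := fun _ => rfl
        right_inv := fun _ => rfl }
  obtain ⟨⟨c, hc⟩, hgen⟩ := hCy.exists_generator
  have hco : orderOf c = 4 := by
    rw [← hCyc, ← orderOf_eq_card_of_forall_mem_zpowers hgen, Subgroup.orderOf_coe ⟨c, hc⟩]
  have hcases : ∀ x ∈ Cy, x = 1 ∨ x = c ∨ x = c * c ∨ x = c * (c * c) := by
    intro x hx
    obtain ⟨n, hn⟩ := Subgroup.mem_zpowers_iff.1 (hgen ⟨x, hx⟩)
    have hn' : c ^ n = x := congrArg Subtype.val hn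
    rw [← zpow_mod_orderOf, hco] at hn'
    have : n % 4 = 0 ∨ n % 4 = 1 ∨ n % 4 = 2 ∨ n % 4 = 3 := by omega
    rcases this with e | e | e | e <;> rw [show ((4 : ℕ) : ℤ) = 4 from rfl, e] at hn' <;> subst hn'
    · exact Or.inl (by simp)
    · exact Or.inr (Or.inl (by simp))
    · exact Or.inr (Or.inr (Or.inl (by rw [show (2 : ℤ) = ((2 : ℕ) : ℤ) from rfl, zpow_natCast, pow_two])))
    · exact Or.inr (Or.inr (Or.inr (by
        rw [show (3 : ℤ) = ((3 : ℕ) : ℤ) from rfl, zpow_natCast, pow_succ', pow_two])))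
  have hc4 : c * c * (c * c) = 1 := by
    rw [← pow_two (c * c), ← pow_two c, ← pow_mul, show 2 * 2 = 4 from rfl, ← hco]; exact (pow_orderOf_eq_one c)
  have hc2 : c * c ≠ 1 := fun e => by
    have := orderOf_dvd_of_pow_eq_one (show c ^ 2 = 1 by rw [pow_two, e])
    rw [hco] at this
    norm_num at this
  have inv2 : ∀ x ∈ Cy, x * x = 1 → x = 1 ∨ x = c * c := by
    intro x hx h
    rcases hcases x hx with rfl | rfl | rfl | rfl
    · exact Or.inl rfl
    · exact absurd h hc2
    · exact Or.inr rfl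
    · exfalso; apply hc2
      calc c * c = c * c * ((c * c) * (c * c)) := by rw [hc4, mul_one]
        _ = c * (c * c) * (c * (c * c)) := by group
        _ = 1 := h
  have hzc : ∀ x ∈ R, (∀ y ∈ R, x * y = y * x) → x ∈ Cy := by
    intro x hx hcen
    rw [← hrange] at hx
    obtain ⟨⟨a, e⟩, rfl⟩ := hx
    have he : (e : G) ∈ Cy ⊓ E := by
      rw [hmeet]
      refine ⟨e.2, Subgroup.mem_centralizer_iff.2 fun y hy => ?_⟩
      have h1 := hcen y (hEle hy)
      have h2 := hcomm a a.2 y (hEle hy)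
      show y * (e : G) = e * y
      refine mul_left_cancel (a := (a : G)) ?_
      calc (a : G) * (y * e) = y * ((a : G) * e) := by rw [← mul_assoc, ← h2, mul_assoc]
        _ = (a : G) * (e * y) := by
          have h1' : (a : G) * e * y = y * ((a : G) * e) := h1
          rw [← h1', mul_assoc]
    exact mul_mem a.2 he.1
  have htc : t = c * c := (inv2 t (hzc t htR fun y hy => (htZ y hy).symm) htt).resolve_left ht1
  have hmeet2 : ∀ x ∈ Cy ⊓ E, x = 1 ∨ x = t := by
    intro x hx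
    rw [htc]
    refine inv2 x hx.1 ?_
    have := orderOf_dvd_natCard (⟨x, hx⟩ : ↥(Cy ⊓ E))
    rw [hZ, orderOf_dvd_iff_pow_eq_one, pow_two] at this
    exact congrArg Subtype.val this
  have hsq : ∀ e : E, (e : G) * e = 1 ∨ (e : G) * e = t := by
    intro e
    have := pGroup_pow_mem_frattini hEp e
    rw [hEf, pow_two] at this
    refine hmeet2 _ ?_
    rw [hmeet]
    exact ⟨mul_mem e.2 e.2, Subgroup.mem_centralizer_iff.2 fun y hy =>
      congrArg Subtype.val (Subgroup.mem_center_iff.1 this ⟨y, hy⟩)⟩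
  refine ⟨?_, ?_, c, (hCyle hc).1, htc.symm, hcomm c hc, fun x hx h => ?_⟩
  · have hk : Nat.card φ.ker = 2 := by
      rw [← hZ]
      refine Nat.card_congr
        { toFun := fun p => ⟨(p.1.1 : G), p.1.1.2, ?_⟩
          invFun := fun x => ⟨(⟨x.1, x.2.1⟩, ⟨(x.1)⁻¹, inv_mem x.2.2⟩), by simp [φ, MonoidHom.mem_ker]⟩
          left_inv := fun p => ?_
          right_inv := fun _ => rfl }
      · have : (p.1.1 : G) * p.1.2 = 1 := p.2
        show (p.1.1 : G) ∈ E
        rw [eq_inv_of_mul_eq_one_left this]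
        exact E.inv_mem p.1.2.2
      · have : (p.1.1 : G) * p.1.2 = 1 := p.2
        refine Subtype.ext (Prod.ext rfl (Subtype.ext ?_))
        exact (eq_inv_of_mul_eq_one_right this).symm
    have h := φ.ker.card_mul_index
    rw [hk, Subgroup.index_ker, hrange, Nat.card_prod, hCyc, hEcard] at h
    omega
  · intro x hx
    rw [← hrange] at hx
    obtain ⟨⟨a, e⟩, rfl⟩ := hx
    show (a : G) * e * ((a : G) * e) = 1 ∨ (a : G) * e * ((a : G) * e) = t
    rw [show (a : G) * e * ((a : G) * e) = (a : G) * a * ((e : G) * e) by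
      rw [mul_assoc, ← mul_assoc (e : G), hcomm a a.2 e (hEle e.2)]; group]
    have ha : (a : G) * a = 1 ∨ (a : G) * a = t := by
      rw [htc]
      rcases hcases a a.2 with h | h | h | h <;> rw [h]
      · exact Or.inl (mul_one 1)
      · exact Or.inr rfl
      · exact Or.inl hc4
      · refine Or.inr ?_
        calc c * (c * c) * (c * (c * c)) = c * c * (c * c * (c * c)) := by group
          _ = c * c := by rw [hc4, mul_one]
    rcases ha with ha | ha <;> rcases hsq e with he | he <;> rw [ha, he] <;> simp [htt]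
  · rw [htc]
    exact hcases x (hzc x hx h)

end Cfsg.Agent.Grp.HSCent
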