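import Cfsg.Prelude.Def_Solvable
import Cfsg.Agent.Lib.Grp.Cores
import Cfsg.Agent.Lib.Lie.EightSubgroupsBase
import Cfsg.Agent.Lib.Grp.HSCent.Central

/-!
# The first facts about the centraliser and the two-local subgroup
-/

set_option autoImplicit false
set_option linter.style.haveILetI false

namespace Cfsg.Agent.Grp.HSCent

universe u

variable {G : Type u} [Group G]

/-- Three elements generating a group of order eight without relations. -/
def Ind (x y z : G) : Prop :=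
  ∀ i j l : Fin 2, x ^ (i : ℕ) * y ^ (j : ℕ) * z ^ (l : ℕ) = 1 → i = 0 ∧ j = 0 ∧ l = 0

/-- The configuration. -/
structure Hyp (t : G) (H R V M K : Subgroup G) : Prop where
  memH : ∀ x, x ∈ H ↔ x * t = t * x
  tt : t * t = 1
  tne : t ≠ 1
  cardH : Nat.card H = 7680
  cardR : Nat.card R = 64
  RH : R ≤ H
  Rn : ∀ h ∈ H, ∀ r ∈ R, h⁻¹ * r * h ∈ R
  Rsq : ∀ x ∈ R, x * x = 1 ∨ x * x = t
  Rc : ∃ c ∈ R, c * c = t ∧ (∀ x ∈ R, x * c = c * x) ∧
    ∀ x ∈ R, (∀ y ∈ R, x * y = y * x) → x = 1 ∨ x = c ∨ x = t ∨ x = c * t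
  VR : V ≤ R
  tV : t ∈ V
  Vsq : ∀ v ∈ V, v * v = 1
  Vcomm : ∀ v ∈ V, ∀ w ∈ V, v * w = w * v
  cardV : Nat.card V = 8
  MV : ∀ m, m ∈ M ↔ ∀ v, v ∈ V ↔ m⁻¹ * v * m ∈ V
  cardM : Nat.card M = 10752
  KM : K ≤ M
  cardK : Nat.card K = 64
  Kcomm : ∀ x ∈ K, ∀ y ∈ K, x * y = y * x
  Kexp : ∀ x ∈ K, x ^ 4 = 1
  Knormal : ∀ m ∈ M, ∀ x ∈ K, m⁻¹ * x * m ∈ K
  Ksq : ∀ x ∈ K, x * x = 1 → x ∈ V
  Vroot : ∀ v ∈ V, ∃ x ∈ K, x * x = v
  cen : ∀ m ∈ M, (∀ v ∈ V, m⁻¹ * v * m = v) → m ∈ K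
  aut : ∀ {x y z x' y' z' : G}, x ∈ V → y ∈ V → z ∈ V → x' ∈ V → y' ∈ V → z' ∈ V → Ind x y z → Ind x' y' z' →
    ∃ m ∈ M, m⁻¹ * x * m = x' ∧ m⁻¹ * y * m = y' ∧ m⁻¹ * z * m = z'

theorem conj_fix_mul {m x y : G} (hx : m⁻¹ * x * m = x) (hy : m⁻¹ * y * m = y) : m⁻¹ * (x * y) * m = x * y := by
  conv_rhs => rw [← hx, ← hy]
  group

/-- The product of powers of three elements. -/
def tri (x y z : G) (p : Fin 2 × Fin 2 × Fin 2) : G := x ^ (p.1 : ℕ) * y ^ (p.2.1 : ℕ) * z ^ (p.2.2 : ℕ)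

theorem tri_mem {V : Subgroup G} {x y z : G} (hx : x ∈ V) (hy : y ∈ V) (hz : z ∈ V) (p : Fin 2 × Fin 2 × Fin 2) :
    tri x y z p ∈ V := mul_mem (mul_mem (pow_mem hx _) (pow_mem hy _)) (pow_mem hz _)

theorem pow_fin_two {x : G} (hx : x * x = 1) : ∀ i j : Fin 2, x ^ (i : ℕ) * x ^ (j : ℕ) = x ^ ((i + j : Fin 2) : ℕ) := by
  intro i j
  fin_cases i <;> fin_cases j <;> simp [hx]

theorem tri_mul {V : Subgroup G} (hsq : ∀ v ∈ V, v * v = 1) (hc : ∀ v ∈ V, ∀ w ∈ V, v * w = w * v)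
    {x y z : G} (hx : x ∈ V) (hy : y ∈ V) (hz : z ∈ V) (i j l i' j' l' : Fin 2) :
    tri x y z (i, j, l) * tri x y z (i', j', l') = tri x y z (i + i', j + j', l + l') := by
  simp only [tri, ← pow_fin_two (hsq x hx), ← pow_fin_two (hsq y hy), ← pow_fin_two (hsq z hz)]
  have e1 := hc _ (mul_mem (pow_mem hy (j : ℕ)) (pow_mem hz (l : ℕ))) _ (pow_mem hx (i' : ℕ))
  have e2 := hc _ (pow_mem hz (l : ℕ)) _ (pow_mem hy (j' : ℕ))
  calc x ^ (i : ℕ) * y ^ (j : ℕ) * z ^ (l : ℕ) * (x ^ (i' : ℕ) * y ^ (j' : ℕ) * z ^ (l' : ℕ))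
      = x ^ (i : ℕ) * (y ^ (j : ℕ) * z ^ (l : ℕ) * x ^ (i' : ℕ)) * y ^ (j' : ℕ) * z ^ (l' : ℕ) := by
        simp only [mul_assoc]
    _ = x ^ (i : ℕ) * x ^ (i' : ℕ) * y ^ (j : ℕ) * (z ^ (l : ℕ) * y ^ (j' : ℕ)) * z ^ (l' : ℕ) := by
        rw [e1]; simp only [mul_assoc]
    _ = x ^ (i : ℕ) * x ^ (i' : ℕ) * (y ^ (j : ℕ) * y ^ (j' : ℕ)) * (z ^ (l : ℕ) * z ^ (l' : ℕ)) := by
        rw [e2]; simp only [mul_assoc]

theorem tri_bij {V : Subgroup G} (hsq : ∀ v ∈ V, v * v = 1) (hc : ∀ v ∈ V, ∀ w ∈ V, v * w = w * v)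
    (hV : Nat.card V = 8) {x y z : G} (hx : x ∈ V) (hy : y ∈ V) (hz : z ∈ V) (h : Ind x y z) :
    Function.Bijective fun p => (⟨tri x y z p, tri_mem hx hy hz p⟩ : V) := by
  haveI : Finite V := Nat.finite_of_card_ne_zero (by rw [hV]; norm_num)
  refine Function.Injective.bijective_of_nat_card_le ?_ (by rw [hV]; simp [Nat.card_prod])
  rintro ⟨i, j, l⟩ ⟨i', j', l'⟩ e
  have e' : tri x y z (i, j, l) = tri x y z (i', j', l') := congrArg Subtype.val e
  have key := tri_mul hsq hc hx hy hz i j l i' j' l'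
  rw [e', hsq _ (tri_mem hx hy hz _)] at key
  obtain ⟨a, b, c⟩ := h _ _ _ key.symm
  have two : ∀ a b : Fin 2, a + b = 0 → a = b := by decide
  rw [two _ _ a, two _ _ b, two _ _ c]

theorem conj_tri {m x y z x' y' z' : G} (hx : m⁻¹ * x * m = x') (hy : m⁻¹ * y * m = y') (hz : m⁻¹ * z * m = z')
    (p : Fin 2 × Fin 2 × Fin 2) : m⁻¹ * tri x y z p * m = tri x' y' z' p := by
  have hp : ∀ (k : G) (n : ℕ), (m⁻¹ * k * m) ^ n = m⁻¹ * k ^ n * m := fun k n => by
    simpa using conj_pow (a := m⁻¹) (b := k) (i := n)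
  simp only [tri, ← hx, ← hy, ← hz, hp]
  group

/-- Extend a fixed triple. -/
theorem fix_of_basis {V : Subgroup G} (hsq : ∀ v ∈ V, v * v = 1) (hc : ∀ v ∈ V, ∀ w ∈ V, v * w = w * v)
    (hV : Nat.card V = 8) {x y z : G} (hx : x ∈ V) (hy : y ∈ V) (hz : z ∈ V) (h : Ind x y z) {m : G}
    (hmx : m⁻¹ * x * m = x) (hmy : m⁻¹ * y * m = y) (hmz : m⁻¹ * z * m = z) : ∀ v ∈ V, m⁻¹ * v * m = v := by
  intro v hv
  obtain ⟨p, hp⟩ := (tri_bij hsq hc hV hx hy hz h).2 ⟨v, hv⟩
  have e : tri x y z p = v := congrArg Subtype.val hp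
  rw [← e, conj_tri hmx hmy hmz]

theorem ind_of {V : Subgroup G} (hsq : ∀ v ∈ V, v * v = 1) {w x y : G} (hx : x ∈ V) (hy : y ∈ V) (hw : w ∈ V)
    (hx1 : x ≠ 1) (hy1 : y ≠ 1) (hxy : x ≠ y) (n1 : w ≠ 1) (n2 : w ≠ x) (n3 : w ≠ y) (n4 : w ≠ x * y) :
    Ind w x y := by
  intro i j l e
  have iw : ∀ v ∈ V, ∀ u : G, v * u = 1 → u = v := fun v hv u h => by
    calc u = v * v * u := by rw [hsq v hv, one_mul]
      _ = v * (v * u) := mul_assoc _ _ _
      _ = v := by rw [h, mul_one]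
  fin_cases i <;> fin_cases j <;> fin_cases l <;> simp only [Fin.val_zero, Fin.val_one, Fin.zero_eta, Fin.isValue,
    Fin.mk_one, pow_zero, pow_one, one_mul, mul_one] at e
  · exact ⟨rfl, rfl, rfl⟩
  · exact absurd e hy1
  · exact absurd e hx1
  · exact absurd (iw x hx y e).symm hxy
  · exact absurd e n1
  · exact absurd (iw w hw y e).symm n3
  · exact absurd (iw w hw x e).symm n2
  · exact absurd (iw w hw (x * y) (by rw [← mul_assoc]; exact e)).symm n4

theorem exists_ind {V : Subgroup G} (hsq : ∀ v ∈ V, v * v = 1) (hc : ∀ v ∈ V, ∀ w ∈ V, v * w = w * v)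
    (hV : Nat.card V = 8) {x y : G} (hx : x ∈ V) (hy : y ∈ V) (hx1 : x ≠ 1) (hy1 : y ≠ 1) (hxy : x ≠ y) :
    ∃ w ∈ V, w ≠ 1 ∧ w ≠ x ∧ w ≠ y ∧ w ≠ x * y ∧ Ind w x y := by
  classical
  haveI : Finite V := Nat.finite_of_card_ne_zero (by rw [hV]; norm_num)
  obtain ⟨w, hw, hn⟩ : ∃ w ∈ V, w ∉ ({1, x, y, x * y} : Finset G) := by
    by_contra hh
    push Not at hh
    let f : V → ({1, x, y, x * y} : Finset G) := fun v => ⟨v, hh v v.2⟩
    have hle := Nat.card_le_card_of_injective f fun a b e =>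
      Subtype.ext (congrArg (fun s : ({1, x, y, x * y} : Finset G) => (s : G)) e)
    rw [hV, Nat.card_eq_fintype_card, Fintype.card_coe] at hle
    exact absurd (hle.trans Finset.card_le_four) (by norm_num)
  simp only [Finset.mem_insert, Finset.mem_singleton, not_or] at hn
  exact ⟨w, hw, hn.1, hn.2.1, hn.2.2.1, hn.2.2.2, ind_of hsq hx hy hw hx1 hy1 hxy hn.1 hn.2.1 hn.2.2.1 hn.2.2.2⟩

/-- Independence in coordinates. -/
def IndC (p : (Fin 2 × Fin 2 × Fin 2) × (Fin 2 × Fin 2 × Fin 2) × (Fin 2 × Fin 2 × Fin 2)) : Prop :=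
  ∀ i j l : Fin 2, (if i = 0 then 0 else p.1) + (if j = 0 then 0 else p.2.1) + (if l = 0 then 0 else p.2.2) = 0 →
    i = 0 ∧ j = 0 ∧ l = 0

instance : DecidablePred IndC := fun p => by unfold IndC; infer_instance

theorem card_indC : Fintype.card {p // IndC p} ≤ 168 := by decide +kernel

theorem card_ind_le {V : Subgroup G} (e0 : (Fin 2 × Fin 2 × Fin 2) ≃ V) (hadd : ∀ p q, e0 p * e0 q = e0 (p + q))
    (h0 : e0 0 = 1) : Nat.card {p : V × V × V // Ind (p.1 : G) p.2.1 p.2.2} ≤ 168 := by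
  refine le_trans (Nat.card_le_card_of_injective (fun p => (⟨(e0.symm p.1.1, e0.symm p.1.2.1, e0.symm p.1.2.2),
    ?_⟩ : {p // IndC p})) ?_) ((Nat.card_eq_fintype_card).trans_le card_indC)
  · intro i j l h
    have hp : ∀ (w : V) (i : Fin 2), e0 (if i = 0 then 0 else e0.symm w) = w ^ (i : ℕ) := by
      intro w i
      fin_cases i <;> simp [h0]
    refine p.2 i j l ?_
    have h' := congrArg e0 h
    simp only [← hadd, hp, h0] at h'
    exact congrArg Subtype.val h'
  · intro p q e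
    have e' := congrArg Subtype.val e
    simp only [Prod.mk.injEq, EmbeddingLike.apply_eq_iff_eq] at e'
    exact Subtype.ext (Prod.ext e'.1 (Prod.ext e'.2.1 e'.2.2))

variable [Finite G]

/-- The configuration from the hypotheses. -/
theorem exists_hyp (t : G) (ht : orderOf t = 2) (H : Subgroup G) (hH : H = Subgroup.centralizer ({t} : Set G))
    (R : Subgroup G) (hR : R = (Cfsg.pCore 2 H).map H.subtype)
    (Cy E : Subgroup G) (hCy : IsCyclic Cy) (hCycard : Nat.card Cy = 4)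
    (hCyle : Cy ≤ R ⊓ Subgroup.centralizer (R : Set G))
    (hEle : E ≤ R) (hEex : Cfsg.IsExtraspecial 2 E) (hEcard : Nat.card E = 32)
    (hprod : Cy ⊔ E = R) (hmeet : Cy ⊓ E = E ⊓ Subgroup.centralizer (E : Set G))
    (eH : H ⧸ Cfsg.pCore 2 H ≃* Equiv.Perm (Fin 5))
    (V : Subgroup G) (hVcomm : IsMulCommutative V) (hVexp : ∀ v ∈ V, v ^ 2 = 1) (hVcard : Nat.card V = 8)
    (hVR : V ≤ R) (M : Subgroup G) (hM : M = Subgroup.normalizer (V : Set G))
    (eOM : Cfsg.pCore 2 M ≃* Multiplicative (ZMod 4 × ZMod 4 × ZMod 4))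
    (eM : M ⧸ Cfsg.pCore 2 M ≃* GL (Fin 3) (ZMod 2)) :
    ∃ K, Hyp t H R V M K := by
  classical
  haveI : Fact (Nat.Prime 2) := ⟨Nat.prime_two⟩
  have tt : t * t = 1 := by rw [← pow_two, ← ht]; exact pow_orderOf_eq_one t
  have t1 : t ≠ 1 := fun e => by rw [e, orderOf_one] at ht; omega
  have memH : ∀ x, x ∈ H ↔ x * t = t * x := fun x => by rw [hH]; exact Subgroup.mem_centralizer_singleton_iff
  have RH : R ≤ H := hR ▸ Subgroup.map_subtype_le _
  haveI := pCore_isNormal (G := H) (p := 2)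
  have htH : t ∈ H := (memH t).2 rfl
  have htR : t ∈ R := by
    have hn : (Subgroup.zpowers (⟨t, htH⟩ : H)).Normal := by
      refine ⟨fun x hx g => ?_⟩
      have hg : g * ⟨t, htH⟩ = ⟨t, htH⟩ * g := Subtype.ext ((memH g).1 g.2)
      obtain ⟨n, rfl⟩ := Subgroup.mem_zpowers_iff.1 hx
      rw [((show Commute g ⟨t, htH⟩ from hg).zpow_right n).eq, mul_inv_cancel_right]
      exact Subgroup.zpow_mem _ (Subgroup.mem_zpowers _) n
    have hp : IsPGroup 2 ↥(Subgroup.zpowers (⟨t, htH⟩ : H)) := IsPGroup.of_card (n := 1) (by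
      rw [Nat.card_zpowers, ← Subgroup.orderOf_coe]; simpa using ht)
    rw [hR]
    exact ⟨⟨t, htH⟩, le_pCore hn hp (Subgroup.mem_zpowers _), rfl⟩
  obtain ⟨cardR, Rsq, c, hcR, hct, hcc, hcen⟩ := central_product hCy hCycard hCyle hEle hEex hEcard hprod hmeet
    tt t1 htR fun x hx => (memH x).1 (RH hx)
  have cardH : Nat.card H = 7680 := by
    rw [Subgroup.card_eq_card_quotient_mul_card_subgroup (Cfsg.pCore 2 H), Nat.card_congr eH.toEquiv,
      Nat.card_congr ((Cfsg.pCore 2 H).equivMapOfInjective H.subtype H.subtype_injective).toEquiv, ← hR, cardR,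
      Nat.card_perm, Nat.card_fin]
    rfl
  have Rn : ∀ h ∈ H, ∀ r ∈ R, h⁻¹ * r * h ∈ R := by
    intro h hh r hr
    rw [hR] at hr ⊢
    obtain ⟨r', hr', rfl⟩ := hr
    exact ⟨⟨h, hh⟩⁻¹ * r' * ⟨h, hh⟩, Subgroup.Normal.conj_mem' inferInstance r' hr' _, rfl⟩
  have Vsq : ∀ v ∈ V, v * v = 1 := fun v hv => by rw [← pow_two]; exact hVexp v hv
  have Vcomm : ∀ v ∈ V, ∀ w ∈ V, v * w = w * v := fun v hv w hw =>
    congrArg Subtype.val (hVcomm.is_comm.comm ⟨v, hv⟩ ⟨w, hw⟩)
  have tV : t ∈ V := by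
    by_contra hn
    -- the products of V by t would give an elementary abelian group of order 16 in R
    have hi : ∀ v ∈ V, (∀ y ∈ R, v * y = y * v) → v = 1 := fun v hv hc' => by
      rcases hcen v (hVR hv) hc' with e | e | e | e
      · exact e
      · exact absurd (by rw [← hct, ← e, Vsq v hv]) t1
      · exact absurd (e ▸ hv) hn
      · refine absurd ?_ t1
        have := Vsq v hv
        rw [e, mul_assoc, ← mul_assoc t, hcc t htR, mul_assoc, tt, mul_one, hct] at this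
        exact this
    -- every element of V is central in V and its commutators with R are in the group generated by t
    have hcom : ∀ v ∈ V, ∀ y ∈ R, y * v * y⁻¹ = v ∨ y * v * y⁻¹ = v * t := by
      intro v hv y hy
      have h1 := Rsq _ (mul_mem (hVR hv) hy)
      rcases Rsq y hy with hy2 | hy2 <;> rcases h1 with h1 | h1
      all_goals
        have hyi : y⁻¹ = y ∨ y⁻¹ = y * t := by
          rcases Rsq y hy with e | e
          · exact Or.inl (inv_eq_of_mul_eq_one_right e)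
          · exact Or.inr (inv_eq_of_mul_eq_one_right (by rw [← mul_assoc, e, tt]))
        have hvy : y * v * y = v ∨ y * v * y = v * t := by
          have hy' : y * v * y = v * (v * y * (v * y)) := by
            rw [show v * (v * y * (v * y)) = v * v * (y * v * y) by group, Vsq v hv, one_mul]
          rw [hy']
          rcases Rsq _ (mul_mem (hVR hv) hy) with e | e <;> rw [e]
          · exact Or.inl (mul_one v)
          · exact Or.inr rfl
        rcases hyi with hyi | hyi <;> rw [hyi]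
        · exact hvy
        · rw [← mul_assoc]
          rcases hvy with e | e <;> rw [e]
          · exact Or.inr rfl
          · exact Or.inl (by rw [mul_assoc, tt, mul_one])
    -- so V embeds in the characters of R modulo its centre
    let χ : V → R → Prop := fun v y => (y : G) * v * (y : G)⁻¹ = v
    have hχ : Function.Injective χ := by
      intro v w e
      have key : ∀ y ∈ R, y * (v * w : G) * y⁻¹ = v * w := by
        intro y hy
        have he : (y * (v : G) * y⁻¹ = v) ↔ (y * (w : G) * y⁻¹ = w) := Iff.of_eq (congrFun e ⟨y, hy⟩)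
        rw [show y * (v * w : G) * y⁻¹ = (y * v * y⁻¹) * (y * w * y⁻¹) by group]
        rcases hcom v v.2 y hy with a | a
        · rw [a, he.1 a]
        · rcases hcom w w.2 y hy with b | b
          · rw [he.2 b, b]
          · rw [a, b, mul_assoc, ← mul_assoc t, ← (memH _).1 (RH (hVR w.2)), mul_assoc, tt, mul_one]
      have h1 := hi _ (mul_mem v.2 w.2) fun y hy => (mul_inv_eq_iff_eq_mul.1 (key y hy)).symm
      exact Subtype.ext ((eq_inv_of_mul_eq_one_left h1).trans (inv_eq_of_mul_eq_one_right (Vsq w w.2)))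
    -- the subgroup generated by V and c has index two
    have hccy : ∀ v ∈ V, Commute v c := fun v hv => hcc v (hVR hv)
    have hc4 : c ^ 4 = 1 := by rw [show 4 = 2 * 2 from rfl, pow_mul, pow_two c, hct, pow_two, tt]
    have hco : orderOf c = 4 := orderOf_eq_prime_pow (p := 2) (n := 1) (by rw [pow_one, pow_two, hct]; exact t1) hc4
    let φ : V × Subgroup.zpowers c →* R :=
      { toFun := fun p => ⟨(p.1 : G) * p.2, mul_mem (hVR p.1.2) ((Subgroup.zpowers_le.2 hcR) p.2.2)⟩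
        map_one' := Subtype.ext (by simp)
        map_mul' := fun p q => Subtype.ext (by
          obtain ⟨n, hn⟩ := Subgroup.mem_zpowers_iff.1 p.2.2
          have := ((hccy _ q.1.2).zpow_right n).eq
          simp only [Prod.fst_mul, Prod.snd_mul, Subgroup.coe_mul, ← hn, mul_assoc]
          rw [← mul_assoc (c ^ n), ← this, mul_assoc]) }
    have hinj : Function.Injective φ := by
      refine (injective_iff_map_eq_one φ).2 fun p hp => ?_
      obtain ⟨n, hn⟩ := Subgroup.mem_zpowers_iff.1 p.2.2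
      have hp' : (p.1 : G) * p.2 = 1 := congrArg Subtype.val hp
      have hv1 : (p.1 : G) = 1 := hi _ p.1.2 fun y hy => by
        rw [eq_inv_of_mul_eq_one_left hp', ← hn]
        exact ((show Commute y c from hcc y hy).zpow_right n).inv_right.eq.symm
      rw [hv1, one_mul] at hp'
      exact Prod.ext (Subtype.ext hv1) (Subtype.ext hp')
    have hidx : φ.range.index = 2 := by
      have h := φ.range.card_mul_index
      rw [← Nat.card_congr (MonoidHom.ofInjective hinj).toEquiv, Nat.card_prod, hVcard, Nat.card_zpowers, hco,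
        cardR] at h
      omega
    obtain ⟨y, hy⟩ : ∃ y : R, y ∉ φ.range := by
      by_contra hall
      push Not at hall
      rw [(Subgroup.eq_top_iff' _).2 hall, Subgroup.index_top] at hidx
      omega
    have hfix : ∀ w : R, w ∈ φ.range → ∀ v ∈ V, (w : G) * v * (w : G)⁻¹ = v := by
      rintro _ ⟨⟨u, z⟩, rfl⟩ v hv
      obtain ⟨n, hn⟩ := Subgroup.mem_zpowers_iff.1 z.2
      show (u : G) * z * v * ((u : G) * z)⁻¹ = v
      rw [← hn, mul_assoc (u : G), ((hccy v hv).zpow_right n).eq.symm, ← mul_assoc, Vcomm _ u.2 v hv]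
      group
    have hdet : ∀ v w : V, (χ v y ↔ χ w y) → χ v = χ w := by
      intro v w hvw
      funext z
      refine propext ?_
      by_cases hz : z ∈ φ.range
      · exact iff_of_true (hfix z hz v v.2) (hfix z hz w w.2)
      · have hw : y⁻¹ * z ∈ φ.range := (Subgroup.mul_mem_iff_of_index_two hidx).2
          (iff_of_false (fun h => hy (inv_mem_iff.1 h)) hz)
        have e : ∀ u : V, χ u z ↔ χ u y := fun u => by
          have := hfix _ hw u u.2
          simp only [Subgroup.coe_mul, Subgroup.coe_inv] at this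
          show (z : G) * u * (z : G)⁻¹ = u ↔ (y : G) * u * (y : G)⁻¹ = u
          have e' : (z : G) * u * (z : G)⁻¹ = y * u * (y : G)⁻¹ := by
            calc (z : G) * u * (z : G)⁻¹
                = y * (((y : G)⁻¹ * z) * u * ((y : G)⁻¹ * z)⁻¹) * (y : G)⁻¹ := by group
              _ = y * u * (y : G)⁻¹ := by rw [this]
          rw [e']
        rw [e, e, hvw]
    have h2 : Nat.card V ≤ Nat.card Prop :=
      Nat.card_le_card_of_injective (fun v => χ v y) fun v w e => hχ (hdet v w (Iff.of_eq e))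
    rw [hVcard, Nat.card_eq_fintype_card, Fintype.card_prop] at h2
    omega
  have memM : ∀ m, m ∈ M ↔ ∀ v, v ∈ V ↔ m⁻¹ * v * m ∈ V := fun m => by
    rw [hM, ← inv_mem_iff, Subgroup.mem_normalizer_iff]
    simp only [inv_inv, SetLike.mem_coe]
  haveI := pCore_isNormal (G := M) (p := 2)
  set K := (Cfsg.pCore 2 M).map M.subtype with hK
  have KM : K ≤ M := Subgroup.map_subtype_le _
  let eK : Cfsg.pCore 2 M ≃* K := (Cfsg.pCore 2 M).equivMapOfInjective M.subtype M.subtype_injective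
  let e' : K ≃* Multiplicative (ZMod 4 × ZMod 4 × ZMod 4) := eK.symm.trans eOM
  have cardK : Nat.card K = 64 := by
    rw [Nat.card_congr e'.toEquiv, Nat.card_congr Multiplicative.toAdd]
    simp [Nat.card_prod]
  have Kcomm : ∀ x ∈ K, ∀ y ∈ K, x * y = y * x := fun x hx y hy =>
    congrArg Subtype.val (e'.injective (by rw [map_mul, map_mul, mul_comm]) : (⟨x, hx⟩ : K) * ⟨y, hy⟩ = ⟨y, hy⟩ * ⟨x, hx⟩)
  have four : ∀ p : ZMod 4 × ZMod 4 × ZMod 4, 4 • p = 0 := by decide
  have Kexp : ∀ x ∈ K, x ^ 4 = 1 := fun x hx => by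
    have : (⟨x, hx⟩ : K) ^ 4 = 1 := e'.injective (by
      rw [map_pow, map_one]
      exact congrArg Multiplicative.ofAdd (four (Multiplicative.toAdd (e' ⟨x, hx⟩))))
    exact congrArg Subtype.val this
  have Knormal : ∀ m ∈ M, ∀ x ∈ K, m⁻¹ * x * m ∈ K := by
    rintro m hm _ ⟨x, hx, rfl⟩
    exact ⟨⟨m, hm⟩⁻¹ * x * ⟨m, hm⟩, Subgroup.Normal.conj_mem' inferInstance x hx _, rfl⟩
  have cardM : Nat.card M = 10752 := by
    rw [Subgroup.card_eq_card_quotient_mul_card_subgroup (Cfsg.pCore 2 M), Nat.card_congr eM.toEquiv,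
      Lie.EightSub.card_GL32, Nat.card_congr eK.toEquiv, cardK]
  have hVM : V ≤ M := fun v hv => (memM v).2 fun w =>
    ⟨fun hw => mul_mem (mul_mem (inv_mem hv) hw) hv, fun hw => by
      have := mul_mem (mul_mem hv hw) (inv_mem hv); rwa [show v * (v⁻¹ * w * v) * v⁻¹ = w by group] at this⟩
  have hVK : V ≤ K := by
    intro v hv
    refine ⟨⟨v, hVM hv⟩, le_pCore (N := V.subgroupOf M) ⟨fun x hx g => ?_⟩ ?_ hv, rfl⟩
    · have := ((memM _).1 (inv_mem g.2) x).1 hx
      simpa [Subgroup.mem_subgroupOf] using this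
    · exact IsPGroup.of_card (n := 3) (by
        rw [Nat.card_congr (Subgroup.subgroupOfEquivOfLe hVM).toEquiv, hVcard]; rfl)
  have model : ∀ p : ZMod 4 × ZMod 4 × ZMod 4, p + p = 0 → ∃ q, q + q = p := by decide
  have Vroot : ∀ v ∈ V, ∃ x ∈ K, x * x = v := by
    intro v hv
    obtain ⟨q, hq⟩ := model (Multiplicative.toAdd (e' ⟨v, hVK hv⟩)) (by
      rw [← toAdd_mul, ← map_mul, show (⟨v, hVK hv⟩ : K) * ⟨v, hVK hv⟩ = 1 from Subtype.ext (Vsq v hv), map_one,
        toAdd_one])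
    refine ⟨e'.symm (Multiplicative.ofAdd q), (e'.symm _).2, ?_⟩
    rw [← Subgroup.coe_mul, ← map_mul, ← ofAdd_add, hq, ofAdd_toAdd, e'.symm_apply_apply]
  have Ksq : ∀ x ∈ K, x * x = 1 → x ∈ V := by
    intro x hx h
    have h8 : Nat.card {p : ZMod 4 × ZMod 4 × ZMod 4 // p + p = 0} = 8 := by
      rw [Nat.card_eq_fintype_card]; decide
    let f : V → {p : ZMod 4 × ZMod 4 × ZMod 4 // p + p = 0} := fun v => ⟨Multiplicative.toAdd (e' ⟨v, hVK v.2⟩), by
      rw [← toAdd_mul, ← map_mul, show (⟨v, hVK v.2⟩ : K) * ⟨v, hVK v.2⟩ = 1 from Subtype.ext (Vsq v v.2), map_one,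
        toAdd_one]⟩
    have hf : Function.Injective f := fun v w e => by
      have e1 : Multiplicative.toAdd (e' ⟨v, hVK v.2⟩) = Multiplicative.toAdd (e' ⟨w, hVK w.2⟩) := congrArg Subtype.val e
      exact Subtype.ext (congrArg Subtype.val (e'.injective (Multiplicative.toAdd.injective e1)) :)
    have hb := hf.bijective_of_nat_card_le (by rw [h8, hVcard])
    obtain ⟨v, hv⟩ := hb.2 ⟨Multiplicative.toAdd (e' ⟨x, hx⟩), by
      rw [← toAdd_mul, ← map_mul, show (⟨x, hx⟩ : K) * ⟨x, hx⟩ = 1 from Subtype.ext h, map_one, toAdd_one]⟩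
    have e1 : Multiplicative.toAdd (e' ⟨v, hVK v.2⟩) = Multiplicative.toAdd (e' ⟨x, hx⟩) := congrArg Subtype.val hv
    have : (v : G) = x := congrArg Subtype.val (e'.injective (Multiplicative.toAdd.injective e1))
    exact this ▸ v.2
  -- the elements centralising V
  let C : Subgroup M := (Subgroup.centralizer (V : Set G)).subgroupOf M
  have memC : ∀ m : M, m ∈ C ↔ ∀ v ∈ V, (m : G)⁻¹ * v * m = v := fun m => by
    rw [Subgroup.mem_subgroupOf, Subgroup.mem_centralizer_iff]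
    exact ⟨fun h v hv => by rw [mul_assoc, h v hv, inv_mul_cancel_left], fun h v hv => by
      have := h v hv
      rw [mul_assoc, inv_mul_eq_iff_eq_mul] at this
      exact this⟩
  haveI hCn : C.Normal := by
    refine ⟨fun x hx g => (memC _).2 fun v hv => ?_⟩
    have hg : (g : G)⁻¹ * v * g ∈ V := ((memM g).1 g.2 v).1 hv
    have := (memC x).1 hx _ hg
    simp only [Subgroup.coe_mul, Subgroup.coe_inv]
    calc ((g : G) * x * (g : G)⁻¹)⁻¹ * v * (g * x * (g : G)⁻¹)
        = g * ((x : G)⁻¹ * ((g : G)⁻¹ * v * g) * x) * (g : G)⁻¹ := by group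
      _ = v := by rw [this]; group
  have hPC : Cfsg.pCore 2 M ≤ C := fun x hx => (memC x).2 fun v hv => by
    rw [mul_assoc, Kcomm v (hVK hv) x ⟨x, hx, rfl⟩, inv_mul_cancel_left]
  have hCK : C ≤ Cfsg.pCore 2 M := by
    haveI := Lie.EightSub.simple_GL32
    let φ : M →* GL (Fin 3) (ZMod 2) := eM.toMonoidHom.comp (QuotientGroup.mk' _)
    have hφ : Function.Surjective φ := eM.surjective.comp (QuotientGroup.mk'_surjective _)
    have hker : φ.ker = Cfsg.pCore 2 M := by
      ext x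
      rw [MonoidHom.mem_ker]
      exact (EmbeddingLike.map_eq_one_iff (f := eM)).trans (QuotientGroup.eq_one_iff x)
    rcases (hCn.map φ hφ).eq_bot_or_eq_top with e | e
    · rw [Subgroup.map_eq_bot_iff, hker] at e
      exact e
    · exfalso
      have hall : ∀ m : M, m ∈ C := by
        intro m
        obtain ⟨c', hc', e'⟩ : φ m ∈ C.map φ := e ▸ Subgroup.mem_top _
        have : c'⁻¹ * m ∈ φ.ker := by rw [MonoidHom.mem_ker, map_mul, map_inv, e', inv_mul_cancel]
        have := mul_mem hc' (hPC (hker ▸ this))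
        rwa [mul_inv_cancel_left] at this
      have hMH : M ≤ H := fun m hm => (memH m).2 (by
        have := (memC ⟨m, hm⟩).1 (hall _) t tV
        rw [mul_assoc, inv_mul_eq_iff_eq_mul] at this
        exact this.symm)
      have := Nat.le_of_dvd (by rw [cardH]; norm_num) (Subgroup.card_dvd_of_le hMH)
      rw [cardM, cardH] at this
      omega
  have cen : ∀ m ∈ M, (∀ v ∈ V, m⁻¹ * v * m = v) → m ∈ K := fun m hm h => ⟨⟨m, hm⟩, hCK ((memC _).2 h), rfl⟩
  refine ⟨K, ⟨memH, tt, t1, cardH, cardR, RH, Rn, Rsq, ⟨c, hcR, hct, hcc, hcen⟩, hVR, tV, Vsq, Vcomm, hVcard, memM,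
    cardM, KM, cardK, Kcomm, Kexp, Knormal, Ksq, Vroot, cen, ?_⟩⟩
  intro x y z x' y' z' hx hy hz hx' hy' hz' hi hi'
  let T := {p : V × V × V // Ind (p.1 : G) p.2.1 p.2.2}
  let act : M ⧸ Cfsg.pCore 2 M → T := Quotient.lift
    (fun m : M => ⟨(⟨(m : G)⁻¹ * x * m, ((memM m).1 m.2 x).1 hx⟩, ⟨(m : G)⁻¹ * y * m, ((memM m).1 m.2 y).1 hy⟩,
      ⟨(m : G)⁻¹ * z * m, ((memM m).1 m.2 z).1 hz⟩), fun i j l e => hi i j l (by
        have e1 := conj_tri (m := (m : G)) (x := x) (y := y) (z := z) rfl rfl rfl (i, j, l)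
        simp only [tri] at e1
        have e2 : (m : G)⁻¹ * (x ^ (i : ℕ) * y ^ (j : ℕ) * z ^ (l : ℕ)) * m = 1 := e1.trans e
        rw [mul_assoc, inv_mul_eq_one] at e2
        exact mul_right_cancel (e2.symm.trans (one_mul _).symm))⟩)
    (fun a b hab => by
      have hab' : a⁻¹ * b ∈ C := hPC (QuotientGroup.leftRel_apply.1 hab)
      have hb : ∀ v ∈ V, (b : G)⁻¹ * v * b = (a : G)⁻¹ * v * a := fun v hv => by
        have := (memC _).1 hab' _ (((memM a).1 a.2 v).1 hv)
        simp only [Subgroup.coe_mul, Subgroup.coe_inv] at this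
        conv_rhs => rw [← this]
        group
      exact Subtype.ext (Prod.ext (Subtype.ext (hb x hx).symm) (Prod.ext (Subtype.ext (hb y hy).symm)
        (Subtype.ext (hb z hz).symm))))
  have hact : Function.Injective act := by
    intro a b
    induction a using QuotientGroup.induction_on with
    | _ a =>
      induction b using QuotientGroup.induction_on with
      | _ b =>
        intro e
        have e' := congrArg Subtype.val e
        have e0 : (a : G)⁻¹ * x * a = (b : G)⁻¹ * x * b := congrArg (fun p : V × V × V => (p.1 : G)) e'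
        have e1 : (a : G)⁻¹ * y * a = (b : G)⁻¹ * y * b := congrArg (fun p : V × V × V => (p.2.1 : G)) e'
        have e2 : (a : G)⁻¹ * z * a = (b : G)⁻¹ * z * b := congrArg (fun p : V × V × V => (p.2.2 : G)) e'
        have fx : ∀ w, (a : G)⁻¹ * w * a = (b : G)⁻¹ * w * b → ((a * b⁻¹ : M) : G)⁻¹ * w * (a * b⁻¹ : M) = w := by
          intro w h
          simp only [Subgroup.coe_mul, Subgroup.coe_inv]
          calc ((a : G) * (b : G)⁻¹)⁻¹ * w * (a * (b : G)⁻¹) = b * ((a : G)⁻¹ * w * a) * (b : G)⁻¹ := by group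
            _ = w := by rw [h]; group
        have := hCK ((memC _).2 (fix_of_basis Vsq Vcomm hVcard hx hy hz hi (fx x e0) (fx y e1) (fx z e2)))
        exact QuotientGroup.eq.2 (by simpa [mul_assoc] using Subgroup.Normal.conj_mem' inferInstance _ (inv_mem this) a)
  have hle : Nat.card T ≤ 168 := by
    let e0 := Equiv.ofBijective _ (tri_bij Vsq Vcomm hVcard hx hy hz hi)
    have hadd : ∀ p q, e0 p * e0 q = e0 (p + q) := by
      intro p q
      apply Subtype.ext
      show tri x y z p * tri x y z q = tri x y z (p + q)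
      obtain ⟨i, j, l⟩ := p
      obtain ⟨i', j', l'⟩ := q
      exact tri_mul Vsq Vcomm hx hy hz i j l i' j' l'
    refine card_ind_le e0 hadd ?_
    exact Subtype.ext (by simp [e0, tri])
  haveI : Finite T := Finite.of_injective _ Subtype.val_injective
  have hb := hact.bijective_of_nat_card_le (by rw [Nat.card_congr eM.toEquiv, Lie.EightSub.card_GL32]; exact hle)
  obtain ⟨q, hq⟩ := hb.2 ⟨(⟨x', hx'⟩, ⟨y', hy'⟩, ⟨z', hz'⟩), hi'⟩
  induction q using QuotientGroup.induction_on with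
  | _ m =>
    have hq' := congrArg Subtype.val hq
    exact ⟨m, m.2, congrArg (fun p : V × V × V => (p.1 : G)) hq', congrArg (fun p : V × V × V => (p.2.1 : G)) hq',
      congrArg (fun p : V × V × V => (p.2.2 : G)) hq'⟩

end Cfsg.Agent.Grp.HSCent
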