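import Cfsg.Agent.Lib.Grp.HSCent.CtrlModel

/-!
# An embedded copy of the group on 100 points with a full centraliser is everything
-/

set_option autoImplicit false
set_option linter.style.haveILetI false

open Cfsg.Agent.Spor.Cos Cfsg.Agent.Spor.Cos.HSOut

namespace Cfsg.Agent.Grp.HSCent.Ctrl

universe u

/-- The sign of an involutory permutation of twice an odd number of points. -/
theorem sign_invol {α : Type*} [Fintype α] [DecidableEq α] {σ : Equiv.Perm α} (h2 : σ * σ = 1) {m e : ℕ}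
    (hm : Fintype.card α = 2 * m) (he : Nat.card {x // σ x = x} = 2 * e) :
    e ≤ m ∧ Equiv.Perm.sign σ = (-1) ^ (m - e) := by
  haveI : Fact (Nat.Prime 2) := ⟨Nat.prime_two⟩
  have hsupp : σ.support.card = Fintype.card α - Fintype.card {x // σ x = x} := by
    rw [← Fintype.card_subtype_compl (fun x => σ x = x), Fintype.card_subtype]
    congr 1
  rw [Nat.card_eq_fintype_card] at he
  have hle : Fintype.card {x // σ x = x} ≤ Fintype.card α := Fintype.card_subtype_le _
  refine ⟨by omega, ?_⟩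
  by_cases h1 : σ = 1
  · subst h1
    rw [Equiv.Perm.support_one, Finset.card_empty] at hsupp
    rw [map_one, show m - e = 0 by omega, pow_zero]
  have ho : orderOf σ = 2 := orderOf_eq_prime (by rw [pow_two]; exact h2) h1
  obtain ⟨n, hn⟩ := Equiv.Perm.cycleType_prime_order (ho.symm ▸ Nat.prime_two)
  have hsum := Equiv.Perm.sum_cycleType σ
  rw [hn, ho, Multiset.sum_replicate, smul_eq_mul, hsupp] at hsum
  rw [Equiv.Perm.sign_of_cycleType, hn, ho, Multiset.sum_replicate, Multiset.card_replicate, smul_eq_mul,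
    show m - e = n + 1 by omega, show (n + 1) * 2 + (n + 1) = 2 * (n + 1) + (n + 1) by ring, pow_add, pow_mul]
  simp

/-- Two involutions that are not conjugate commute with an involution in their product. -/
theorem mid {A : Type*} [Group A] [Finite A] {a b : A} (ha : a * a = 1) (hb : b * b = 1) (hab : ¬ IsConj a b) :
    ∃ l, ((a * b) ^ l) * ((a * b) ^ l) = 1 ∧ (a * b) ^ l ≠ 1 ∧ (a * b) ^ l * a = a * (a * b) ^ l ∧
      (a * b) ^ l * b = b * (a * b) ^ l := by
  have ai : a⁻¹ = a := inv_eq_of_mul_eq_one_right ha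
  have bi : b⁻¹ = b := inv_eq_of_mul_eq_one_right hb
  set c := a * b with hc
  have hflip : ∀ k : ℕ, a * c ^ k * a = (c ^ k)⁻¹ := fun k => by
    have h := conj_pow (a := a) (b := c) (i := k)
    rw [ai] at h
    rw [← h, show a * c * a = c⁻¹ by rw [hc, ← mul_assoc, ha, one_mul, mul_inv_rev, ai, bi], inv_pow]
  have hn : c ^ orderOf c = 1 := pow_orderOf_eq_one c
  rcases Nat.even_or_odd' (orderOf c) with ⟨l, e | e⟩
  · have hsq : c ^ l * c ^ l = 1 := by rw [← pow_add, ← two_mul, ← e, hn]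
    have h0 : 0 < orderOf c := orderOf_pos c
    have h1 : c ^ l ≠ 1 := fun h => by
      have := orderOf_le_of_pow_eq_one (by omega) h
      omega
    have ca : c ^ l * a = a * c ^ l := by
      have h := hflip l
      rw [inv_eq_of_mul_eq_one_right hsq] at h
      calc c ^ l * a = a * c ^ l * a * a := by rw [h]
        _ = a * c ^ l := by rw [mul_assoc, ha, mul_one]
    refine ⟨l, hsq, h1, ca, ?_⟩
    have hb' : b = a * c := by rw [hc, ← mul_assoc, ha, one_mul]
    rw [hb', ← mul_assoc, ca, mul_assoc, mul_assoc, ← pow_succ, ← pow_succ']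
  · refine absurd (isConj_iff.2 ⟨c ^ l * a, ?_⟩) hab
    -- the product has odd order
    rw [mul_inv_rev, ai, show c ^ l * a * a * (a * (c ^ l)⁻¹) = c ^ l * (a * a) * a * (c ^ l)⁻¹ by group, ha, mul_one,
      ← hflip l, show c ^ l * a * (a * c ^ l * a) = c ^ l * (a * a) * c ^ l * a by group, ha, mul_one, ← pow_add,
      show b = c⁻¹ * a by rw [hc, mul_inv_rev, ai, bi, mul_assoc, ha, mul_one]]
    congr 1
    refine eq_inv_of_mul_eq_one_left ?_
    rw [← pow_succ, show l + l + 1 = orderOf c by omega, hn]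

/-- The same modulo a central involution. -/
theorem mid_central {A : Type*} [Group A] [Finite A] {a b v : A} (ha : a * a = 1) (hb : b * b = 1)
    (va : v * a = a * v) (h1 : ¬ IsConj a b) (h2 : ¬ IsConj a (b * v)) (h3 : ¬ IsConj a (a * v)) :
    ∃ l, ((a * b) ^ l) * ((a * b) ^ l) = 1 ∧ (a * b) ^ l ≠ 1 ∧ (a * b) ^ l ≠ v ∧
      (a * b) ^ l * a = a * (a * b) ^ l ∧ (a * b) ^ l * b = b * (a * b) ^ l := by
  obtain ⟨l, hsq, hne, ca, cb⟩ := mid ha hb h1
  refine ⟨l, hsq, hne, fun hv => ?_, ca, cb⟩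
  have ai : a⁻¹ = a := inv_eq_of_mul_eq_one_right ha
  have bi : b⁻¹ = b := inv_eq_of_mul_eq_one_right hb
  set c := a * b with hc
  have hflip : ∀ k : ℕ, a * c ^ k * a = (c ^ k)⁻¹ := fun k => by
    have h := conj_pow (a := a) (b := c) (i := k)
    rw [ai] at h
    rw [← h, show a * c * a = c⁻¹ by rw [hc, ← mul_assoc, ha, one_mul, mul_inv_rev, ai, bi], inv_pow]
  rcases Nat.even_or_odd' l with ⟨k, e | e⟩
  · refine h3 (isConj_iff.2 ⟨c ^ k, ?_⟩)
    rw [← hflip k, show c ^ k * a * (a * c ^ k * a) = c ^ k * (a * a) * c ^ k * a by group, ha, mul_one, ← pow_add,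
      ← two_mul, ← e, hv, va]
  · refine h2 (isConj_iff.2 ⟨c ^ k, ?_⟩)
    rw [← hflip k, show c ^ k * a * (a * c ^ k * a) = c ^ k * (a * a) * c ^ k * a by group, ha, mul_one, ← pow_add,
      ← two_mul]
    have hv' : c ^ (2 * k) = v * c⁻¹ := by rw [← hv, e, pow_succ, mul_inv_cancel_right]
    rw [hv', mul_assoc, show c⁻¹ * a = b by rw [hc, mul_inv_rev, ai, bi, mul_assoc, ha, mul_one]]
    rw [← hv, cb]

/-- A copy of the group on 100 points containing the centraliser of an involution. -/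
structure Emb {G : Type u} [Group G] (t : G) (ψ : HX →* G) : Prop where
  inj : Function.Injective ψ
  val : ψ w = t
  cent : ∀ x, x * t = t * x → x ∈ ψ.range
  card : Nat.card (Subgroup.centralizer ({t} : Set G)) = 7680

variable {G : Type u} [Group G] [Finite G] {t : G} {ψ : HX →* G}

theorem z_not_conj (E : Emb t ψ) {a : HX} (ha : IsConj z a) : ¬ IsConj t (ψ a) := by
  intro h
  have hu : IsConj t (ψ z) := h.trans (ψ.map_isConj ha).symm
  obtain ⟨g, hg⟩ := isConj_iff.1 hu
  have hcard : Nat.card (Subgroup.centralizer ({ψ z} : Set G)) = 7680 := by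
    rw [← E.card]
    refine (Nat.card_congr ((MulAut.conj g).toEquiv.subtypeEquiv fun y => ?_)).symm
    rw [Subgroup.mem_centralizer_singleton_iff, Subgroup.mem_centralizer_singleton_iff, ← hg]
    show y * t = t * y ↔ MulAut.conj g y * MulAut.conj g t = MulAut.conj g t * MulAut.conj g y
    rw [← map_mul, ← map_mul, (MulAut.conj g).injective.eq_iff]
  have hle : (Subgroup.centralizer ({z} : Set HX)).map ψ ≤ Subgroup.centralizer ({ψ z} : Set G) := by
    rintro _ ⟨c, hc, rfl⟩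
    rw [Subgroup.mem_centralizer_singleton_iff, ← map_mul, ← map_mul, Subgroup.mem_centralizer_singleton_iff.1 hc]
  have := Subgroup.card_dvd_of_le hle
  rw [← Nat.card_congr ((Subgroup.centralizer ({z} : Set HX)).equivMapOfInjective ψ E.inj).toEquiv,
    cent_facts.1, hcard] at this
  norm_num at this

theorem w_sq : w * w = 1 := by rw [w_eq]; exact g_sq 2

theorem w_ne (E : Emb t ψ) : w ≠ 1 := by
  intro h
  have ht : t = 1 := by rw [← E.val, h, map_one]
  have hz : ψ z ∈ Subgroup.centralizer ({t} : Set G) := by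
    rw [Subgroup.mem_centralizer_singleton_iff, ht, mul_one, one_mul]
  have htop : Subgroup.centralizer ({t} : Set G) = ⊤ := by
    refine (Subgroup.eq_top_iff' _).2 fun y => ?_
    rw [Subgroup.mem_centralizer_singleton_iff, ht, mul_one, one_mul]
  have h1 := E.card
  rw [htop, Subgroup.card_top] at h1
  have := Subgroup.card_dvd_of_le (show ψ.range ≤ ⊤ from le_top)
  rw [← Nat.card_congr (MonoidHom.ofInjective E.inj).toEquiv, Subgroup.card_top, h1, card_H] at this
  norm_num at this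

theorem conj_sq {A : Type*} [Group A] {a b : A} (h : IsConj a b) (ha : a * a = 1) : b * b = 1 := by
  obtain ⟨g, rfl⟩ := isConj_iff.1 h
  rw [show g * a * g⁻¹ * (g * a * g⁻¹) = g * (a * a) * g⁻¹ by group, ha, mul_one, mul_inv_cancel]

theorem conj_ne {A : Type*} [Group A] {a b : A} (h : IsConj a b) (ha : a ≠ 1) : b ≠ 1 := by
  obtain ⟨g, rfl⟩ := isConj_iff.1 h
  exact fun e => ha (conj_eq_one_iff.1 e)

theorem t_sq (E : Emb t ψ) : t * t = 1 := by rw [← E.val, ← map_mul, w_sq, map_one]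

theorem t_ne (E : Emb t ψ) : t ≠ 1 := fun h => w_ne E (E.inj (by rw [E.val, h, map_one]))

theorem classes (E : Emb t ψ) {d : HX} (h2 : d * d = 1) (h1 : d ≠ 1) : IsConj z d ∨ IsConj w d := by
  haveI : Fact (Nat.Prime 2) := ⟨Nat.prime_two⟩
  exact two_classes (orderOf_eq_prime (by rw [pow_two]; exact h2) h1)

theorem w_of (E : Emb t ψ) {d : HX} (h : IsConj t (ψ d)) : IsConj w d := by
  have h2 : d * d = 1 := E.inj (by rw [map_mul, map_one, conj_sq h (t_sq E)])
  have h1 : d ≠ 1 := fun e => conj_ne h (t_ne E) (by rw [e, map_one])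
  exact (classes E h2 h1).resolve_left fun hz => z_not_conj E hz h

theorem cent_conj (E : Emb t ψ) {d : HX} (h : IsConj w d) {x : G} (hx : x * ψ d = ψ d * x) : x ∈ ψ.range := by
  obtain ⟨k, rfl⟩ := isConj_iff.1 h
  have hm : (ψ k)⁻¹ * x * ψ k ∈ ψ.range := E.cent _ (by
    rw [map_mul, map_mul, map_inv, E.val] at hx
    calc (ψ k)⁻¹ * x * ψ k * t = (ψ k)⁻¹ * (x * (ψ k * t * (ψ k)⁻¹)) * ψ k := by group
      _ = (ψ k)⁻¹ * (ψ k * t * (ψ k)⁻¹ * x) * ψ k := by rw [hx]
      _ = t * ((ψ k)⁻¹ * x * ψ k) := by group)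
  have := mul_mem (mul_mem (ψ.mem_range.2 ⟨k, rfl⟩) hm) (inv_mem (ψ.mem_range.2 ⟨k, rfl⟩))
  rwa [show ψ k * ((ψ k)⁻¹ * x * ψ k) * (ψ k)⁻¹ = x by group] at this

theorem move (E : Emb t ψ) {a b : HX} (ha : IsConj w a) {x : G} (hx : x * ψ a * x⁻¹ = ψ b) : x ∈ ψ.range := by
  have hb : IsConj w b := w_of E ((E.val ▸ ψ.map_isConj ha).trans (isConj_iff.2 ⟨x, hx⟩))
  obtain ⟨k, hk⟩ := isConj_iff.1 (ha.symm.trans hb)
  have hm : (ψ k)⁻¹ * x ∈ ψ.range := cent_conj E ha (by
    have e : x * ψ a = ψ b * x := by rw [← hx]; group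
    rw [mul_assoc, e, ← hk, map_mul, map_mul, map_inv]
    group)
  have := mul_mem (ψ.mem_range.2 ⟨k, rfl⟩) hm
  rwa [mul_inv_cancel_left] at this

/-- The centraliser of an involution of the other class is contained in the copy. -/
theorem cent_u (E : Emb t ψ) : ∀ x : G, x * ψ z = ψ z * x → x ∈ ψ.range := by
  classical
  haveI : Fact (Nat.Prime 2) := ⟨Nat.prime_two⟩
  set v := ψ z with hv
  set L := Subgroup.centralizer ({v} : Set G) with hL
  have memL : ∀ y, y ∈ L ↔ y * v = v * y := fun y => Subgroup.mem_centralizer_singleton_iff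
  have vv : v * v = 1 := by rw [hv, ← map_mul, z_sq, map_one]
  have inL : ∀ {c : HX}, c * z = z * c → ψ c ∈ L := fun {c} hc => by
    rw [memL, hv, ← map_mul, ← map_mul, hc]
  have tz : ∀ {a : ℕ}, a < 3 → IsConj t (ψ (tau a)) := fun ha => E.val ▸ ψ.map_isConj (tau_conj ha)
  -- a Sylow subgroup
  set P : Subgroup L := (S0.map ψ).subgroupOf L with hP
  set Q : Subgroup L := (T0.map ψ).subgroupOf L with hQ
  have sL : S0.map ψ ≤ L := by rintro _ ⟨c, hc, rfl⟩; exact inL (S0_cent hc)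
  have tL' : T0.map ψ ≤ L := fun y hy => sL (Subgroup.map_mono T0_le hy)
  have cardP : Nat.card P = 2 ^ 6 := by
    rw [hP, Nat.card_congr (Subgroup.subgroupOfEquivOfLe sL).toEquiv,
      ← Nat.card_congr (S0.equivMapOfInjective ψ E.inj).toEquiv, listS.2]
    rfl
  have cardQ : Nat.card Q = 32 := by
    rw [hQ, Nat.card_congr (Subgroup.subgroupOfEquivOfLe tL').toEquiv,
      ← Nat.card_congr (T0.equivMapOfInjective ψ E.inj).toEquiv, listT.2]
  have hN : (Subgroup.normalizer (P : Set L)).map L.subtype ≤ (Subgroup.centralizer ({z} : Set HX)).map ψ := by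
    rintro _ ⟨n, hn, rfl⟩
    have hn' := Subgroup.mem_normalizer_iff.1 hn
    let s1 : L := ⟨ψ (tau 2), inL (tau_cent (by norm_num))⟩
    have h1 : s1 ∈ P := Subgroup.mem_subgroupOf.2 ⟨_, t1_mem, rfl⟩
    obtain ⟨b, hb, eb⟩ := Subgroup.mem_subgroupOf.1 ((hn' s1).1 h1)
    change ψ b = (n : G) * ψ (tau 2) * (n : G)⁻¹ at eb
    have htb : IsConj t (ψ b) := (tz (by norm_num)).trans (eb ▸ isConj_iff.2 ⟨_, rfl⟩)
    have hc : ∀ y ∈ S0, y * b = b * y := by
      intro y hy
      let y' : L := ⟨ψ y, sL ⟨y, hy, rfl⟩⟩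
      have h2 : n⁻¹ * y' * n ∈ P := (hn' _).2 (by
        rw [show n * (n⁻¹ * y' * n) * n⁻¹ = y' by group]
        exact Subgroup.mem_subgroupOf.2 ⟨y, hy, rfl⟩)
      obtain ⟨c, hc, ec⟩ := Subgroup.mem_subgroupOf.1 h2
      change ψ c = (n : G)⁻¹ * ψ y * (n : G) at ec
      refine E.inj ?_
      have h3 : ψ c * ψ (tau 2) = ψ (tau 2) * ψ c := by rw [← map_mul, ← map_mul, t1_central hc]
      rw [ec] at h3
      rw [map_mul, map_mul, eb]
      calc ψ y * ((n : G) * ψ (tau 2) * (n : G)⁻¹)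
          = (n : G) * ((n : G)⁻¹ * ψ y * n * ψ (tau 2)) * (n : G)⁻¹ := by group
        _ = (n : G) * ψ (tau 2) * (n : G)⁻¹ * ψ y := by rw [h3]; group
    have hwb := w_of E htb
    have hbt : b = tau 2 :=
      (centre hb hc (conj_sq hwb w_sq) (conj_ne hwb (w_ne E))).resolve_right fun hz => z_not_conj E hz htb
    have hn0 : (n : G) ∈ ψ.range := move E (tau_conj (by norm_num)) (hbt ▸ eb).symm
    obtain ⟨c, hc'⟩ := hn0
    refine ⟨c, Subgroup.mem_centralizer_singleton_iff.2 (E.inj ?_), hc'⟩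
    rw [map_mul, map_mul, hc', ← hv]
    exact (memL _).1 n.2
  obtain ⟨m, hm, hodd⟩ : ∃ m, Nat.card L = 64 * m ∧ Odd m := by
    obtain ⟨m, hm⟩ : 64 ∣ Nat.card L := by
      have := Subgroup.card_subgroup_dvd_card P
      rwa [cardP] at this
    refine ⟨m, hm, ?_⟩
    rcases Nat.even_or_odd m with ⟨j, rfl⟩ | h
    · exfalso
      have h1 := Sylow.prime_pow_dvd_card_normalizer (p := 2) (n := 6) ⟨j, by rw [hm]; ring⟩ cardP
      have h2 := Subgroup.card_dvd_of_le hN
      rw [← Nat.card_congr ((Subgroup.normalizer (P : Set L)).equivMapOfInjective L.subtype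
        L.subtype_injective).toEquiv, ← Nat.card_congr ((Subgroup.centralizer ({z} : Set HX)).equivMapOfInjective ψ
          E.inj).toEquiv, cent_facts.1] at h2
      exact absurd (h1.trans h2) (by norm_num)
    · exact h
  -- the sign on the cosets of the subgroup of index two
  letI := Fintype.ofFinite (L ⧸ Q)
  have hcardq : Fintype.card (L ⧸ Q) = 2 * m := by
    have h1 := Subgroup.card_eq_card_quotient_mul_card_subgroup Q
    rw [hm, cardQ, Nat.card_eq_fintype_card (α := L ⧸ Q)] at h1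
    omega
  set χ : L →* ℤˣ := Equiv.Perm.sign.comp (MulAction.toPermHom L (L ⧸ Q)) with hχ
  have σsq : ∀ {y : L}, y * y = 1 → MulAction.toPermHom L (L ⧸ Q) y * MulAction.toPermHom L (L ⧸ Q) y = 1 :=
    fun {y} h => by rw [← map_mul, h, map_one]
  have hfix : ∀ {y : L}, y * y = 1 → ∀ k : L,
      MulAction.toPermHom L (L ⧸ Q) y (k : L ⧸ Q) = (k : L ⧸ Q) ↔ k⁻¹ * y * k ∈ Q := by
    intro y hy k
    show ((y * k : L) : L ⧸ Q) = _ ↔ _
    rw [QuotientGroup.eq, mul_inv_rev, inv_eq_of_mul_eq_one_right hy]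
  have even_tau : ∀ a < 2, ∀ y : L, (y : G) = ψ (tau a) → χ y = 1 := by
    intro a ha y hy
    have hy2 : y * y = 1 := Subtype.ext (by
      show (y : G) * y = 1
      rw [hy]; exact conj_sq (tz (show a < 3 by omega)) (t_sq E))
    have hcnt : Nat.card {k : L // k⁻¹ * y * k ∈ Q} = [320, 576].getD a 0 := by
      rw [← count_fix ha]
      let F : {c : HX // c * z = z * c ∧ c⁻¹ * tau a * c ∈ T0} → {k : L // k⁻¹ * y * k ∈ Q} := fun c =>
        ⟨⟨ψ c.1, inL c.2.1⟩, Subgroup.mem_subgroupOf.2 ⟨_, c.2.2, by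
          show ψ (c.1⁻¹ * tau a * c.1) = (ψ c.1)⁻¹ * (y : G) * ψ c.1
          rw [hy, map_mul, map_mul, map_inv]⟩⟩
      refine (Nat.card_congr (Equiv.ofBijective F ⟨?_, ?_⟩)).symm
      · intro c c' e
        exact Subtype.ext (E.inj (congrArg (fun k : {k : L // k⁻¹ * y * k ∈ Q} => (k.1 : G)) e))
      · rintro ⟨k, hk⟩
        obtain ⟨b, hb, eb⟩ := Subgroup.mem_subgroupOf.1 hk
        change ψ b = (k : G)⁻¹ * y * k at eb
        rw [hy] at eb
        obtain ⟨c, hc⟩ := move E (tau_conj (show a < 3 by omega)) (x := (k : G)⁻¹) (by rw [inv_inv]; exact eb.symm)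
        have hk' : (k : G) = ψ c⁻¹ := by rw [map_inv, hc, inv_inv]
        refine ⟨⟨c⁻¹, E.inj ?_, ?_⟩, Subtype.ext (Subtype.ext hk'.symm)⟩
        · rw [map_mul, map_mul, ← hk', ← hv]
          exact (memL _).1 k.2
        · have e : (c⁻¹)⁻¹ * tau a * c⁻¹ = b := E.inj (by rw [eb, hk']; simp only [map_mul, map_inv, mul_assoc])
          rw [e]; exact hb
    have hf : Nat.card {x : L ⧸ Q // MulAction.toPermHom L (L ⧸ Q) y x = x} * 32 = [320, 576].getD a 0 := by
      rw [← hcnt, ← cardQ, mul_comm, ← Nat.card_prod]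
      refine (Nat.card_congr ?_).symm
      refine (Equiv.subtypeEquivRight fun k => (hfix hy2 k).symm).trans ?_
      exact QuotientGroup.preimageMkEquivSubgroupProdSet Q {x | MulAction.toPermHom L (L ⧸ Q) y x = x}
    interval_cases a
    · obtain ⟨hle, hs⟩ := sign_invol (e := 5) (σsq hy2) hcardq (by simp only [List.getD_cons_zero] at hf; omega)
      rw [hχ, MonoidHom.comp_apply, hs]
      exact (Nat.Odd.sub_odd hodd (by decide)).neg_one_pow
    · obtain ⟨hle, hs⟩ := sign_invol (e := 9) (σsq hy2) hcardq (by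
        simp only [List.getD_cons_succ, List.getD_cons_zero] at hf; omega)
      rw [hχ, MonoidHom.comp_apply, hs]
      exact (Nat.Odd.sub_odd hodd (by decide)).neg_one_pow
  have odd_pure : ∀ y : L, y * y = 1 → y ≠ 1 → (y : G) ≠ v → χ y = 1 →
      IsConj t (y : G) ∨ IsConj t ((y : G) * v) := by
    intro y hy2 hy1 hyv hχy
    by_contra hcon
    push Not at hcon
    have hno : ∀ k : L, k⁻¹ * y * k ∉ Q := by
      intro k hk
      obtain ⟨b, hb, eb⟩ := Subgroup.mem_subgroupOf.1 hk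
      change ψ b = (k : G)⁻¹ * y * k at eb
      have hyG : (y : G) * y = 1 := congrArg Subtype.val hy2
      have kv : (k : G) * v = v * k := (memL _).1 k.2
      have b2 : b * b = 1 := E.inj (by
        rw [map_mul, map_one, eb, show (k : G)⁻¹ * y * k * ((k : G)⁻¹ * y * k) = (k : G)⁻¹ * (y * y) * k by group,
          hyG, mul_one, inv_mul_cancel])
      have back : (y : G) = k * ψ b * (k : G)⁻¹ := by rw [eb]; group
      have b1 : b ≠ 1 := fun e => hy1 (Subtype.ext (by rw [back, e, map_one, mul_one, mul_inv_cancel]; rfl))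
      have bz : b ≠ z := fun e => hyv (by rw [back, e, ← hv, kv, mul_inv_cancel_right])
      rcases T_invol hb b2 b1 bz with h | h
      · exact hcon.1 ((E.val ▸ ψ.map_isConj h).trans (isConj_iff.2 ⟨k, back.symm⟩))
      · refine hcon.2 ((E.val ▸ ψ.map_isConj h).trans (isConj_iff.2 ⟨k, ?_⟩))
        rw [back, map_mul, ← hv]
        calc (k : G) * (ψ b * v) * (k : G)⁻¹ = k * ψ b * (v * (k : G)⁻¹) := by group
          _ = k * ψ b * ((k : G)⁻¹ * v) := by
              rw [← ((show Commute (k : G) v from kv).inv_left).eq]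
          _ = k * ψ b * (k : G)⁻¹ * v := by group
    have hs := (sign_invol (e := 0) (σsq hy2) hcardq (Nat.card_eq_zero.2 (Or.inl ⟨fun x => by
      obtain ⟨x, hx⟩ := x
      induction x using QuotientGroup.induction_on with
      | H k => exact hno k ((hfix hy2 k).1 hx)⟩))).2
    rw [Nat.sub_zero, hodd.neg_one_pow] at hs
    rw [hχ, MonoidHom.comp_apply, hs] at hχy
    exact absurd hχy (by decide)
  -- every element of the centraliser is in the copy
  intro x hx
  have hx' : x ∈ L := (memL x).2 hx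
  set xl : L := ⟨x, hx'⟩
  let a : L := ⟨ψ (tau 0), inL (tau_cent (by norm_num))⟩
  let c2 : L := ⟨ψ (tau 1), inL (tau_cent (by norm_num))⟩
  let b : L := xl * c2 * xl⁻¹
  let vl : L := ⟨v, (memL v).2 rfl⟩
  have a2 : a * a = 1 := Subtype.ext (conj_sq (tz (show 0 < 3 by norm_num)) (t_sq E))
  have c22 : c2 * c2 = 1 := Subtype.ext (conj_sq (tz (show 1 < 3 by norm_num)) (t_sq E))
  have b2 : b * b = 1 := conj_sq (isConj_iff.2 ⟨xl, rfl⟩) c22
  have hxv : (x : G) * v = v * x := hx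
  have hab : ¬ IsConj a b := by
    intro h
    obtain ⟨g, hg⟩ := isConj_iff.1 h
    have hg' : ((x⁻¹ * g : G)) * ψ (tau 0) * (x⁻¹ * (g : G))⁻¹ = ψ (tau 1) := by
      have e : (g : G) * ψ (tau 0) * (g : G)⁻¹ = x * ψ (tau 1) * x⁻¹ := congrArg Subtype.val hg
      calc _ = x⁻¹ * ((g : G) * ψ (tau 0) * (g : G)⁻¹) * x := by group
        _ = _ := by rw [e]; group
    obtain ⟨c, hc⟩ := move E (tau_conj (by norm_num)) hg'
    refine tau_sep (c := c) (E.inj ?_) (E.inj ?_)
    · rw [map_mul, map_mul, hc, ← hv]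
      exact (memL _).1 (mul_mem (inv_mem hx') g.2)
    · rw [map_mul, map_mul, ← hg', hc]; group
  have hav : ¬ IsConj a (a * vl) := by
    intro h
    have h' : IsConj (ψ (tau 0)) (ψ (tau 0 * z)) := by
      rw [map_mul]; exact L.subtype.map_isConj h
    exact z_not_conj E (tau_mul_conj (by norm_num)) ((tz (by norm_num)).trans h')
  have hbv : ¬ IsConj a (b * vl) := by
    intro h
    have h' : IsConj (ψ (tau 0)) (x * ψ (tau 1) * x⁻¹ * v) := L.subtype.map_isConj h
    have h'' : IsConj (x * ψ (tau 1) * x⁻¹ * v) (ψ (tau 1 * z)) := isConj_iff.2 ⟨x⁻¹, by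
      rw [map_mul, ← hv, inv_inv, mul_assoc, mul_assoc, ← hxv]; group⟩
    exact z_not_conj E (tau_mul_conj (by norm_num)) (((tz (by norm_num)).trans h').trans h'')
  have vla : vl * a = a * vl := Subtype.ext ((memL _).1 a.2).symm
  obtain ⟨l, hl2, hl1, hlv, hla, hlb⟩ := mid_central a2 b2 vla hab hbv hav
  set wl : L := (a * b) ^ l
  have hwχ : χ wl = 1 := by
    rw [map_pow, map_mul, map_mul, map_mul, map_inv, even_tau 0 (by norm_num) a rfl,
      even_tau 1 (by norm_num) c2 rfl, mul_one, mul_inv_cancel, one_mul, one_pow]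
  obtain ⟨d, hd⟩ := cent_conj E (tau_conj (show 0 < 3 by norm_num)) (x := (wl : G)) (congrArg Subtype.val hla)
  have bG : (b : G) * wl = wl * b := (congrArg Subtype.val hlb).symm
  have hbr : (b : G) ∈ ψ.range := by
    rcases odd_pure wl hl2 hl1 (fun e => hlv (Subtype.ext e)) hwχ with h | h
    · exact cent_conj E (w_of E (hd ▸ h)) (by rw [hd]; exact bG)
    · refine cent_conj E (w_of E (d := d * z) (by rw [map_mul, hd]; exact h)) ?_
      rw [map_mul, hd, ← hv, ← mul_assoc, bG, mul_assoc, (memL _).1 b.2, mul_assoc]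
  obtain ⟨e, he⟩ := hbr
  exact move E (tau_conj (show 1 < 3 by norm_num)) he.symm

/-- The copy is the whole group. -/
theorem range_top (E : Emb t ψ) : ψ.range = ⊤ := by
  refine (Subgroup.eq_top_iff' _).2 fun x => ?_
  set v := ψ z with hv
  have v2 : v * v = 1 := by rw [hv, ← map_mul, z_sq, map_one]
  set b := x * v * x⁻¹ with hb
  have b2 : b * b = 1 := conj_sq (isConj_iff.2 ⟨x, rfl⟩) v2
  have hnot : ¬ IsConj t b := fun h => z_not_conj E (IsConj.refl z) (h.trans (isConj_iff.2 ⟨x⁻¹, by rw [hb]; group; rfl⟩))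
  obtain ⟨l, hl2, hl1, hla, hlb⟩ := mid (t_sq E) b2 hnot
  obtain ⟨d, hd⟩ := E.cent _ hla
  have d2 : d * d = 1 := E.inj (by rw [map_mul, map_one, hd, hl2])
  have d1 : d ≠ 1 := fun e => hl1 (by rw [← hd, e, map_one])
  have hbr : b ∈ ψ.range := by
    rcases classes E d2 d1 with h | h
    · obtain ⟨k, rfl⟩ := isConj_iff.1 h
      rw [map_mul, map_mul, map_inv] at hd
      have hm : (ψ k)⁻¹ * b * ψ k ∈ ψ.range := cent_u E _ (by
        calc (ψ k)⁻¹ * b * ψ k * v = (ψ k)⁻¹ * (b * (ψ k * v * (ψ k)⁻¹)) * ψ k := by group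
          _ = (ψ k)⁻¹ * (ψ k * v * (ψ k)⁻¹ * b) * ψ k := by rw [hd, hlb]
          _ = v * ((ψ k)⁻¹ * b * ψ k) := by group)
      have := mul_mem (mul_mem (ψ.mem_range.2 ⟨k, rfl⟩) hm) (inv_mem (ψ.mem_range.2 ⟨k, rfl⟩))
      rwa [show ψ k * ((ψ k)⁻¹ * b * ψ k) * (ψ k)⁻¹ = b by group] at this
    · exact cent_conj E h (by rw [hd]; exact hlb.symm)
  obtain ⟨e, he⟩ := hbr
  have e2 : e * e = 1 := E.inj (by rw [map_mul, map_one, he, b2])
  have e1 : e ≠ 1 := fun h => z_ne (E.inj (conj_eq_one_iff.1 (show x * ψ z * x⁻¹ = 1 by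
    rw [← hv, ← hb, ← he, h, map_one]) |>.trans (map_one ψ).symm))
  have hz : IsConj z e := (classes E e2 e1).resolve_right fun h => hnot (he ▸ E.val ▸ ψ.map_isConj h)
  obtain ⟨k, rfl⟩ := isConj_iff.1 hz
  have hm : (ψ k)⁻¹ * x ∈ ψ.range := cent_u E _ (by
    have e' : x * v = b * x := by rw [hb]; group
    rw [mul_assoc, ← hv, e', ← he, map_mul, map_mul, map_inv, ← hv]
    group)
  have := mul_mem (ψ.mem_range.2 ⟨k, rfl⟩) hm
  rwa [mul_inv_cancel_left] at this

end Cfsg.Agent.Grp.HSCent.Ctrl
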