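import Cfsg.Agent.Lib.Grp.HSCent.Tools

/-!
# Coordinates on a homocyclic group of order 64
-/

set_option autoImplicit false
set_option maxRecDepth 100000
set_option maxHeartbeats 2000000

namespace Cfsg.Agent.Grp.HSCent

/-- Vectors. -/
abbrev Z3 := ZMod 4 × ZMod 4 × ZMod 4

/-- Matrices, by rows. -/
abbrev M3 := Z3 × Z3 × Z3

/-- A vector times a matrix. -/
def vm (x : Z3) (A : M3) : Z3 :=
  (x.1 * A.1.1 + x.2.1 * A.2.1.1 + x.2.2 * A.2.2.1,
   x.1 * A.1.2.1 + x.2.1 * A.2.1.2.1 + x.2.2 * A.2.2.2.1,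
   x.1 * A.1.2.2 + x.2.1 * A.2.1.2.2 + x.2.2 * A.2.2.2.2)

/-- The product of matrices. -/
def mm (A B : M3) : M3 := (vm A.1 B, vm A.2.1 B, vm A.2.2 B)

/-- The unit matrix. -/
def one3 : M3 := ((1, 0, 0), (0, 1, 0), (0, 0, 1))

/-- A power of a matrix. -/
def pw3 (A : M3) : ℕ → M3
  | 0 => one3
  | n + 1 => mm (pw3 A n) A

/-- The action of the element of order seven. -/
def Fm : M3 := ((0, 1, 0), (0, 0, 1), (1, 3, 2))

/-- The action of the involution. -/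
def Am : M3 := ((3, 0, 0), (0, 0, 1), (0, 1, 0))

/-- The action of the element of order three. -/
def Bm : M3 := mm Am Fm

/-- The action of the commutator. -/
def Cm : M3 := mm (mm (mm Am (mm Bm Bm)) Am) Bm

theorem vm_assoc (x : Z3) (A B : M3) : vm (vm x A) B = vm x (mm A B) := by
  obtain ⟨x0, x1, x2⟩ := x
  obtain ⟨⟨a, b, c⟩, ⟨d, e, f⟩, ⟨g, h, i⟩⟩ := A
  obtain ⟨⟨a', b', c'⟩, ⟨d', e', f'⟩, ⟨g', h', i'⟩⟩ := B
  simp only [vm, mm, Prod.mk.injEq]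
  refine ⟨?_, ?_, ?_⟩ <;> ring

theorem vm_one (x : Z3) : vm x one3 = x := by
  obtain ⟨x0, x1, x2⟩ := x
  simp [vm, one3]

theorem mm_assoc (A B C : M3) : mm (mm A B) C = mm A (mm B C) := by simp [mm, vm_assoc]

theorem mm_one (A : M3) : mm A one3 = A := by simp [mm, vm_one]

theorem one_mm : ∀ A : M3, mm one3 A = A := by
  rintro ⟨⟨a, b, c⟩, ⟨d, e, f⟩, ⟨g, h, i⟩⟩
  simp [mm, vm, one3]

section

variable {G : Type*} [Group G] (k0 k1 k2 : G)

/-- The element with given coordinates. -/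
def kel (x : Z3) : G := k0 ^ x.1.val * k1 ^ x.2.1.val * k2 ^ x.2.2.val

/-- Three commuting elements of exponent four. -/
structure Tri : Prop where
  c01 : Commute k0 k1
  c02 : Commute k0 k2
  c12 : Commute k1 k2
  p0 : k0 ^ 4 = 1
  p1 : k1 ^ 4 = 1
  p2 : k2 ^ 4 = 1

variable {k0 k1 k2}

theorem pow_val_add {k : G} (h : k ^ 4 = 1) (x y : ZMod 4) : k ^ (x + y).val = k ^ x.val * k ^ y.val := by
  rw [ZMod.val_add, ← pow_add, ← pow_eq_pow_mod _ h]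

theorem kel_zero : kel k0 k1 k2 0 = 1 := by simp [kel]

theorem kel_e0 : kel k0 k1 k2 (1, 0, 0) = k0 := by
  rw [kel, show ZMod.val (1 : ZMod 4) = 1 from rfl, ZMod.val_zero]; simp

theorem kel_e1 : kel k0 k1 k2 (0, 1, 0) = k1 := by
  rw [kel, show ZMod.val (1 : ZMod 4) = 1 from rfl, ZMod.val_zero]; simp

theorem kel_e2 : kel k0 k1 k2 (0, 0, 1) = k2 := by
  rw [kel, show ZMod.val (1 : ZMod 4) = 1 from rfl, ZMod.val_zero]; simp

theorem kel_add (h : Tri k0 k1 k2) (x y : Z3) :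
    kel k0 k1 k2 (x + y) = kel k0 k1 k2 x * kel k0 k1 k2 y := by
  simp only [kel, Prod.fst_add, Prod.snd_add, pow_val_add h.p0, pow_val_add h.p1, pow_val_add h.p2]
  generalize x.1.val = a
  generalize y.1.val = a'
  generalize x.2.1.val = b
  generalize y.2.1.val = b'
  generalize x.2.2.val = c
  generalize y.2.2.val = c'
  have e1 : k1 ^ b * k0 ^ a' = k0 ^ a' * k1 ^ b := ((h.c01.pow_pow a' b).symm).eq
  have e2 : k2 ^ c * k0 ^ a' = k0 ^ a' * k2 ^ c := ((h.c02.pow_pow a' c).symm).eq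
  have e3 : k2 ^ c * k1 ^ b' = k1 ^ b' * k2 ^ c := ((h.c12.pow_pow b' c).symm).eq
  calc k0 ^ a * k0 ^ a' * (k1 ^ b * k1 ^ b') * (k2 ^ c * k2 ^ c')
      = k0 ^ a * (k0 ^ a' * k1 ^ b) * (k1 ^ b' * k2 ^ c) * k2 ^ c' := by simp only [mul_assoc]
    _ = k0 ^ a * k1 ^ b * (k0 ^ a' * k2 ^ c) * k1 ^ b' * k2 ^ c' := by
        rw [← e1, ← e3]; simp only [mul_assoc]
    _ = k0 ^ a * k1 ^ b * k2 ^ c * (k0 ^ a' * k1 ^ b' * k2 ^ c') := by
        rw [← e2]; simp only [mul_assoc]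

theorem kel_neg (h : Tri k0 k1 k2) (x : Z3) : kel k0 k1 k2 (-x) = (kel k0 k1 k2 x)⁻¹ :=
  eq_inv_of_mul_eq_one_left (by rw [← kel_add h, neg_add_cancel, kel_zero])

theorem kel_nsmul (h : Tri k0 k1 k2) (n : ℕ) (x : Z3) : kel k0 k1 k2 (n • x) = kel k0 k1 k2 x ^ n := by
  induction n with
  | zero => rw [zero_smul, kel_zero, pow_zero]
  | succ n ih => rw [succ_nsmul, kel_add h, ih, pow_succ]

theorem kel_comm (h : Tri k0 k1 k2) (x y : Z3) : Commute (kel k0 k1 k2 x) (kel k0 k1 k2 y) := by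
  show _ * _ = _ * _
  rw [← kel_add h, ← kel_add h, add_comm]

theorem vm_eq_smul : ∀ (x : Z3) (A : M3), x.1.val • A.1 + x.2.1.val • A.2.1 + x.2.2.val • A.2.2 = vm x A := by
  intro x A
  refine Prod.ext ?_ (Prod.ext ?_ ?_) <;> simp [vm, nsmul_eq_mul]

/-- Conjugation is the matrix given by the images of the three elements. -/
theorem conj_kel (h : Tri k0 k1 k2) {g : G} {A : M3} (h0 : g⁻¹ * k0 * g = kel k0 k1 k2 A.1)
    (h1 : g⁻¹ * k1 * g = kel k0 k1 k2 A.2.1) (h2 : g⁻¹ * k2 * g = kel k0 k1 k2 A.2.2) (x : Z3) :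
    g⁻¹ * kel k0 k1 k2 x * g = kel k0 k1 k2 (vm x A) := by
  have hp : ∀ (k : G) (n : ℕ), g⁻¹ * k ^ n * g = (g⁻¹ * k * g) ^ n := fun k n => by
    have := (conj_pow (a := g⁻¹) (b := k) (i := n)).symm
    simpa using this
  rw [← vm_eq_smul, kel_add h, kel_add h, kel_nsmul h, kel_nsmul h, kel_nsmul h, ← h0, ← h1, ← h2, ← hp, ← hp,
    ← hp, kel]
  group

theorem conj_comp {g g' : G} {A A' : M3} (h : ∀ x, g⁻¹ * kel k0 k1 k2 x * g = kel k0 k1 k2 (vm x A))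
    (h' : ∀ x, g'⁻¹ * kel k0 k1 k2 x * g' = kel k0 k1 k2 (vm x A')) (x : Z3) :
    (g * g')⁻¹ * kel k0 k1 k2 x * (g * g') = kel k0 k1 k2 (vm x (mm A A')) := by
  rw [← vm_assoc, ← h', ← h]
  group

theorem conj_power {g : G} {A : M3} (h : ∀ x, g⁻¹ * kel k0 k1 k2 x * g = kel k0 k1 k2 (vm x A)) :
    ∀ (n : ℕ) (x : Z3), (g ^ n)⁻¹ * kel k0 k1 k2 x * g ^ n = kel k0 k1 k2 (vm x (pw3 A n))
  | 0, x => by simp [pw3, vm_one]
  | n + 1, x => by
    rw [pow_succ]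
    exact conj_comp (conj_power h n) h x

theorem mul_kel {g : G} {A : M3} (h : ∀ x, g⁻¹ * kel k0 k1 k2 x * g = kel k0 k1 k2 (vm x A)) (x : Z3) :
    kel k0 k1 k2 x * g = g * kel k0 k1 k2 (vm x A) := by
  rw [← h]; group

end

theorem two_even : ∀ x : Z3, x + x = 0 → ∃ y : Z3, x = y + y := by decide +kernel

theorem f_row : ∀ r : Z3, r + r = (2, 2, 0) → pw3 ((0, 1, 0), (0, 0, 1), r) 7 = one3 → r = (1, 3, 2) := by
  decide +kernel

theorem f_fixed : ∀ x : Z3, vm x Fm = x → x = 0 := by decide +kernel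

theorem f_seven : pw3 Fm 7 = one3 := by decide +kernel

theorem b_three : pw3 Bm 3 = one3 := by decide +kernel

theorem c_four : pw3 Cm 4 = one3 := by decide +kernel

/-- The change of basis. -/
def baseChange (u : Z3) : M3 :=
  ((1, 0, 0) + (u + u), vm ((1, 0, 0) + (u + u)) Fm, vm (vm ((1, 0, 0) + (u + u)) Fm) Fm)

set_option synthInstance.maxSize 2000 in
set_option synthInstance.maxHeartbeats 400000 in
theorem a_rows : ∀ r0 : Z3, r0 + r0 = (2, 0, 0) → ∀ r1 : Z3, r1 + r1 = (0, 0, 2) → ∀ r2 : Z3, r2 + r2 = (0, 2, 0) →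
    mm (r0, r1, r2) (r0, r1, r2) = one3 → pw3 (mm (r0, r1, r2) Fm) 3 = one3 →
    ∃ u : Z3, mm (baseChange u) (r0, r1, r2) = mm Am (baseChange u) := by decide +kernel

theorem k_cases : ∀ k : Z3, vm k Cm = k → vm k Am = -k → (k + k = 0 ∨ k + k = (0, 2, 2)) →
    k = 0 ∨ k = (2, 2, 2) := by decide +kernel

end Cfsg.Agent.Grp.HSCent
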