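import Cfsg.Agent.Lib.Spor.Cos.HSOut.Main
import Cfsg.Agent.Lib.Grp.HSCent.CtrlData

/-!
# Facts about involution centralisers of the group on 100 points
-/

set_option autoImplicit false
set_option maxRecDepth 100000
set_option maxHeartbeats 4000000

open Cfsg.Agent.Spor.Cos Cfsg.Agent.Spor.Cos.Triple Cfsg.Agent.Spor.Cos.HSOut

namespace Cfsg.Agent.Grp.HSCent.Ctrl

/-- The group on 100 points. -/
abbrev HX := ↥HSOut.H

/-- The second class of involutions. -/
noncomputable def w : HX := ev g [2]

/-- The two chosen involutions and the central one. -/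
noncomputable def tau (a : ℕ) : HX := ev g (tauW.getD a [])

/-- The Sylow subgroup of the centraliser. -/
noncomputable def S0 : Subgroup HX := val g ctSG

/-- The subgroup of index two. -/
noncomputable def T0 : Subgroup HX := val g ctTG

theorem w_eq : w = g 2 := by simp [w, ev]

theorem two_classes {x : HX} (hx : orderOf x = 2) : IsConj z x ∨ IsConj w x := by
  haveI : Fact (Nat.Prime 2) := ⟨Nat.prime_two⟩
  obtain ⟨mem, hS⟩ := listed (i0 := sylOne) (fun i hi => by
    have := chkSyl_ok i hi
    rw [chkSyl, Bool.and_eq_true] at this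
    exact this.1) (by decide +kernel) (by decide +kernel)
  let S : Sylow 2 HX := Sylow.ofCard (val g sylG) (by rw [hS, card_H, fact_two]; norm_num)
  obtain ⟨R, hR⟩ := (IsPGroup.of_card (p := 2) (G := Subgroup.zpowers x) (n := 1)
    (by rw [Nat.card_zpowers, hx, pow_one])).exists_le_sylow
  obtain ⟨c, hc'⟩ := MulAction.exists_smul_eq HX R S
  have hm : c * x * c⁻¹ ∈ val g sylG := by
    have : MulAut.conj c x ∈ (c • R : Sylow 2 HX) := ⟨x, hR (Subgroup.mem_zpowers x), rfl⟩
    rw [hc'] at this
    exact this
  obtain ⟨i, hi, ei⟩ := mem _ hm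
  have hx2 : x * x = 1 := by
    have := pow_orderOf_eq_one x
    rwa [hx, sq] at this
  have h := chkSyl_ok i hi
  rw [chkSyl, Bool.and_eq_true] at h
  have hin : ∀ s ∈ decWord 64 (sylU.at i), s < 3 := fun s hs => by
    have := h.1
    simp only [chkList, chkClosedList, force_eq, Bool.and_eq_true, List.all_eq_true] at this
    exact Nat.le_of_ble_eq_true (this.1.1.1.1 s hs)
  have hsq : ev g (decWord 64 (sylU.at i) ++ decWord 64 (sylU.at i)) = ev g [] := by
    rw [ev_append, ei, show c * x * c⁻¹ * (c * x * c⁻¹) = c * (x * x) * c⁻¹ by group, hx2]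
    simp [ev]
  have hag := agree_of_eq (g := g) homA pts_lt (fun s hs => (List.mem_append.1 hs).elim (hin s) (hin s)) (by simp) hsq
  have h2 := h.2
  simp only [hag, Bool.not_true, Bool.false_or, Bool.or_eq_true, force_eq] at h2
  rcases h2 with h2 | h2
  · exfalso
    have hone : ev g (decWord 64 (sylU.at sylOne)) = 1 := eq_of_same (w := []) (by decide +kernel)
    rw [Nat.eq_of_beq_eq_true h2, hone] at ei
    have : x = 1 := conj_eq_one_iff.1 ei.symm
    rw [this, orderOf_one] at hx
    exact absurd hx (by decide)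
  · set cw := decWord 64 (conjU.at i >>> 1) with hcw
    have hl : ∀ s ∈ cw, s < 3 := fun s hs => by
      simp only [sameW, Bool.and_eq_true, List.all_append, List.all_eq_true] at h2
      exact Nat.le_of_ble_eq_true (h2.1.1.1 s hs)
    have hv := eq_of_same h2
    rw [ev_append, ev_append, ev_reverse (fun s _ => g_sq s) _ hl, ← mul_assoc, ei] at hv
    have conc : ∀ y : HX, ev g cw * y * (ev g cw)⁻¹ = c * x * c⁻¹ → IsConj y x := fun y e =>
      isConj_iff.2 ⟨c⁻¹ * ev g cw, by
        calc c⁻¹ * ev g cw * y * (c⁻¹ * ev g cw)⁻¹ = c⁻¹ * (ev g cw * y * (ev g cw)⁻¹) * c := by group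
          _ = x := by rw [e]; group⟩
    cases hb : Nat.beq (conjU.at i % 2) 0
    · rw [hb, Bool.cond_false] at hv
      exact Or.inl (conc _ hv)
    · rw [hb, Bool.cond_true] at hv
      exact Or.inr (conc _ hv)

/-- The check of an element of the larger list. -/
noncomputable def sOk (i : ℕ) : Bool :=
  chkList ctSU ctSK ctSStep ctSPath ctSG 64 i &&
    (fun v : List ℕ => sameW actA ptsA (v ++ [0]) ([0] ++ v) &&
      (!(ctSG.all fun s => agree actA ptsA (v ++ s) (s ++ v)) || !(agree actA ptsA (v ++ v) []) ||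
        agree actA ptsA v [] || sameW actA ptsA v (tauW.getD 2 []) || sameW actA ptsA v [0] ||
        sameW actA ptsA v (tauW.getD 2 [] ++ [0]))) (decWord 64 (ctSU.at i))

theorem s_chk : ∀ i < 64, sOk i = true := by
  refine of_blocks (size := 64) (b := 1) (by decide) (by decide) fun j hj => ?_
  interval_cases j; decide +kernel

/-- The check of an element of the smaller list. -/
noncomputable def tOk (i : ℕ) : Bool :=
  chkList ctTU ctTK ctTStep ctTPath ctTG 32 i &&
    (fun (v : List ℕ) (o : ℕ × ℕ) => ((List.range 64).any fun j => sameW actA ptsA v (decWord 64 (ctSU.at j))) &&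
      (!(agree actA ptsA (v ++ v) []) || agree actA ptsA v [] || sameW actA ptsA v [0] ||
        (Nat.blt o.2 2880 && (fun c : List ℕ =>
          sameW actA ptsA (c ++ (tauW.getD 0 [] ++ c.reverse)) v || sameW actA ptsA (c ++ (tauW.getD 1 [] ++ c.reverse)) v ||
            sameW actA ptsA (c ++ (tauW.getD 0 [] ++ c.reverse)) (v ++ [0]) ||
            sameW actA ptsA (c ++ (tauW.getD 1 [] ++ c.reverse)) (v ++ [0])) (decWord 64 (cenU.at o.2)))))
      (decWord 64 (ctTU.at i)) (ctTWit.getD i (0, 0))

theorem t_chk : ∀ i < 32, tOk i = true := by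
  refine of_blocks (size := 32) (b := 1) (by decide) (by decide) fun j hj => ?_
  interval_cases j; decide +kernel

theorem tau_chk : ∀ a < 3, sameW actA ptsA (tauW.getD a [] ++ [0]) ([0] ++ tauW.getD a []) = true ∧
    sameW actA ptsA (tauD.getD a [] ++ ([2] ++ (tauD.getD a []).reverse)) (tauW.getD a []) = true ∧
    sameW actA ptsA (tauZ.getD a [] ++ ([0] ++ (tauZ.getD a []).reverse)) (tauW.getD a [] ++ [0]) = true ∧
    ((tauW.getD a []).all fun s => Nat.blt s 3) = true := by decide +kernel

theorem ev_small_inv {v : List ℕ} (h : ∀ s ∈ v, s < 3) : ev g v.reverse = (ev g v)⁻¹ :=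
  ev_reverse (fun s _ => g_sq s) v h

theorem conj_of_same {c y v : List ℕ} (h : sameW actA ptsA (c ++ (y ++ c.reverse)) v = true) :
    IsConj (ev g y) (ev g v) := by
  have hl : ∀ s ∈ c, s < 3 := fun s hs => by
    simp only [sameW, Bool.and_eq_true, List.all_append, List.all_eq_true] at h
    exact Nat.le_of_ble_eq_true (h.1.1.1 s hs)
  refine isConj_iff.2 ⟨ev g c, ?_⟩
  rw [← eq_of_same h, ev_append, ev_append, ev_small_inv hl, mul_assoc]

theorem tau_cent {a : ℕ} (ha : a < 3) : tau a * z = z * tau a := by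
  rw [tau, z, ← ev_append, ← ev_append]
  exact eq_of_same (tau_chk a ha).1

theorem tau_conj {a : ℕ} (ha : a < 3) : IsConj w (tau a) := conj_of_same (tau_chk a ha).2.1

theorem tau_mul_conj {a : ℕ} (ha : a < 3) : IsConj z (tau a * z) := by
  have := conj_of_same (tau_chk a ha).2.2.1
  rwa [ev_append] at this

/-- Two classes inside the centraliser. -/
noncomputable def sepOk (i : ℕ) : Bool :=
  (fun c : List ℕ => !(agree actA ptsA (c ++ tauW.getD 0 []) (tauW.getD 1 [] ++ c))) (decWord 64 (cenU.at i))

theorem sep_chk : ∀ i < 2880, sepOk i = true := by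
  refine of_blocks (size := 720) (b := 4) (by decide) (by decide) fun j hj => ?_
  interval_cases j <;> decide +kernel

theorem cen_small {i : ℕ} (hi : i < 2880) : ∀ s ∈ decWord 64 (cenU.at i), s < 3 := fun s hs => by
  have h := chkCen_ok i hi
  simp only [chkCen, Bool.and_eq_true, chkList, chkClosedList, force_eq, List.all_eq_true] at h
  exact Nat.le_of_ble_eq_true (h.1.1.1.1.1 s hs)

theorem tau_small {a : ℕ} (ha : a < 3) : ∀ s ∈ tauW.getD a [], s < 3 := fun s hs =>
  Nat.le_of_ble_eq_true (List.all_eq_true.1 (tau_chk a ha).2.2.2 s hs)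

theorem tau_sep {c : HX} (hc : c * z = z * c) : c * tau 0 ≠ tau 1 * c := by
  obtain ⟨i, hi, rfl⟩ := cent_facts.2 c hc
  have h := sep_chk i hi
  simp only [sepOk, Bool.not_eq_true'] at h
  rw [tau, tau, ← ev_append, ← ev_append]
  refine ne_of_not_agree ?_ ?_ h
  · exact fun s hs => (List.mem_append.1 hs).elim (cen_small hi s) (tau_small (by norm_num) s)
  · exact fun s hs => (List.mem_append.1 hs).elim (tau_small (by norm_num) s) (cen_small hi s)

theorem listS : (∀ y ∈ S0, ∃ i < 64, ev g (decWord 64 (ctSU.at i)) = y) ∧ Nat.card S0 = 64 :=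
  listed (fun i hi => by
    have := s_chk i hi
    rw [sOk, Bool.and_eq_true] at this
    exact this.1) (i0 := ctSOne) (by decide) (by decide +kernel)

theorem listT : (∀ y ∈ T0, ∃ i < 32, ev g (decWord 64 (ctTU.at i)) = y) ∧ Nat.card T0 = 32 :=
  listed (fun i hi => by
    have := t_chk i hi
    rw [tOk, Bool.and_eq_true] at this
    exact this.1) (i0 := ctTOne) (by decide) (by decide +kernel)

theorem s_small {i : ℕ} (hi : i < 64) : ∀ s ∈ decWord 64 (ctSU.at i), s < 3 := fun s hs => by
  have := s_chk i hi
  simp only [sOk, chkList, chkClosedList, force_eq, Bool.and_eq_true, List.all_eq_true] at this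
  exact Nat.le_of_ble_eq_true (this.1.1.1.1.1 s hs)

theorem t_small {i : ℕ} (hi : i < 32) : ∀ s ∈ decWord 64 (ctTU.at i), s < 3 := fun s hs => by
  have := t_chk i hi
  simp only [tOk, chkList, chkClosedList, force_eq, Bool.and_eq_true, List.all_eq_true] at this
  exact Nat.le_of_ble_eq_true (this.1.1.1.1.1 s hs)

theorem S0_cent {x : HX} (hx : x ∈ S0) : x * z = z * x := by
  obtain ⟨i, hi, rfl⟩ := listS.1 x hx
  have := s_chk i hi
  rw [sOk, Bool.and_eq_true, Bool.and_eq_true] at this
  rw [z, ← ev_append, ← ev_append]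
  exact eq_of_same this.2.1

theorem mem_of_chkList {U K step path : Tab} {G' : List (List ℕ)} {m i : ℕ}
    (h : chkList U K step path G' m i = true) : ev g (decWord 64 (U.at i)) ∈ val g G' := by
  simp only [chkList, Bool.and_eq_true, List.all_eq_true] at h
  rw [eq_of_same h.2.2, ev_flatten, List.map_map]
  refine list_prod_mem fun y hy => ?_
  obtain ⟨k, hk, rfl⟩ := List.mem_map.1 hy
  have hk' : k < G'.length := Nat.le_of_ble_eq_true (h.2.1 k hk)
  exact mem_val (w := G'.getD k []) (by rw [List.getD_eq_getElem _ _ hk']; exact List.getElem_mem _)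

theorem s_mem {i : ℕ} (hi : i < 64) : ev g (decWord 64 (ctSU.at i)) ∈ S0 := by
  have := s_chk i hi
  rw [sOk, Bool.and_eq_true] at this
  exact mem_of_chkList this.1

theorem t_mem {i : ℕ} (hi : i < 32) : ev g (decWord 64 (ctTU.at i)) ∈ T0 := by
  have := t_chk i hi
  rw [tOk, Bool.and_eq_true] at this
  exact mem_of_chkList this.1

theorem T0_le : T0 ≤ S0 := by
  intro x hx
  obtain ⟨i, hi, rfl⟩ := listT.1 x hx
  have := t_chk i hi
  simp only [tOk, Bool.and_eq_true, List.any_eq_true, List.mem_range] at this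
  obtain ⟨j, hj, e⟩ := this.2.1
  rw [eq_of_same e]
  exact s_mem hj

theorem centre_chk : (((List.range 64).any fun i => sameW actA ptsA (decWord 64 (ctSU.at i)) (tauW.getD 2 [])) &&
    ((List.range 32).any fun i => sameW actA ptsA (decWord 64 (ctTU.at i)) [0]) &&
    (ctSG.all fun s => sameW actA ptsA (s ++ tauW.getD 2 []) (tauW.getD 2 [] ++ s))) = true := by decide +kernel

theorem t1_mem : tau 2 ∈ S0 := by
  have := centre_chk
  simp only [Bool.and_eq_true, List.any_eq_true, List.mem_range] at this
  obtain ⟨⟨⟨i, hi, e⟩, -⟩, -⟩ := this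
  rw [tau, ← eq_of_same e]
  exact s_mem hi

theorem z_mem : z ∈ T0 := by
  have := centre_chk
  simp only [Bool.and_eq_true, List.any_eq_true, List.mem_range] at this
  obtain ⟨⟨-, ⟨i, hi, e⟩⟩, -⟩ := this
  rw [z, ← eq_of_same e]
  exact t_mem hi

theorem t1_central {x : HX} (hx : x ∈ S0) : x * tau 2 = tau 2 * x := by
  have := centre_chk
  simp only [Bool.and_eq_true] at this
  exact Subgroup.mem_centralizer_singleton_iff.1 (comm_le (G' := ctSG) (x := tauW.getD 2 []) this.2 hx)

theorem sg_small : ∀ s ∈ ctSG, ∀ a ∈ s, a < 3 := by decide +kernel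

theorem centre {x : HX} (hx : x ∈ S0) (hc : ∀ y ∈ S0, y * x = x * y) (h2 : x * x = 1) (h1 : x ≠ 1) :
    x = tau 2 ∨ IsConj z x := by
  obtain ⟨i, hi, rfl⟩ := listS.1 x hx
  have h := s_chk i hi
  simp only [sOk, Bool.and_eq_true, Bool.or_eq_true, Bool.not_eq_true', List.all_eq_false] at h
  have hl := s_small hi
  rcases h.2.2 with ((((⟨s, hs, e⟩ | e) | e) | e) | e) | e
  · refine absurd ?_ (ne_of_not_agree ?_ ?_ (Bool.eq_false_iff.2 e))
    · rw [ev_append, ev_append]
      exact (hc _ (mem_val hs)).symm
    · exact fun a ha => (List.mem_append.1 ha).elim (hl a) (sg_small s hs a)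
    · exact fun a ha => (List.mem_append.1 ha).elim (sg_small s hs a) (hl a)
  · refine absurd ?_ (ne_of_not_agree (fun a ha => (List.mem_append.1 ha).elim (hl a) (hl a)) (by simp) e)
    rw [ev_append]
    exact h2
  · exact absurd (ev_eq_of_agree homA det (by simp only [Act.lettersOk, List.all_cons, List.all_nil, Bool.and_true, List.all_eq_true, Nat.blt_eq]; exact hl) (by simp [Act.lettersOk]) e) h1
  · exact Or.inl (eq_of_same e)
  · exact Or.inr (by rw [eq_of_same e]; exact IsConj.refl _)
  · refine Or.inr ?_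
    rw [eq_of_same e, ev_append]
    exact tau_mul_conj (by norm_num)

theorem T_invol {q : HX} (hq : q ∈ T0) (h2 : q * q = 1) (h1 : q ≠ 1) (hz : q ≠ z) :
    IsConj w q ∨ IsConj w (q * z) := by
  obtain ⟨i, hi, rfl⟩ := listT.1 q hq
  have h := t_chk i hi
  simp only [tOk, Bool.and_eq_true, Bool.or_eq_true, Bool.not_eq_true'] at h
  have hl := t_small hi
  rcases h.2.2 with ((e | e) | e) | ⟨-, ((e | e) | e) | e⟩
  · refine absurd ?_ (ne_of_not_agree (fun a ha => (List.mem_append.1 ha).elim (hl a) (hl a)) (by simp) e)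
    rw [ev_append]
    exact h2
  · exact absurd (ev_eq_of_agree homA det (by simp only [Act.lettersOk, List.all_cons, List.all_nil, Bool.and_true, List.all_eq_true, Nat.blt_eq]; exact hl) (by simp [Act.lettersOk]) e) h1
  · exact absurd (eq_of_same e) hz
  · exact Or.inl ((tau_conj (by norm_num)).trans (conj_of_same e))
  · exact Or.inl ((tau_conj (by norm_num)).trans (conj_of_same e))
  · exact Or.inr (by have := (tau_conj (by norm_num)).trans (conj_of_same e); rwa [ev_append] at this)
  · exact Or.inr (by have := (tau_conj (by norm_num)).trans (conj_of_same e); rwa [ev_append] at this)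

/-- A listed element of the centraliser conjugates the involution into the smaller list. -/
noncomputable def fixOk (a i : ℕ) : Bool :=
  (fun c : List ℕ => (fun v : List ℕ => force (imKey actA v ptsA) fun k =>
    (List.range 32).any fun j => Nat.beq k (ctTK.at j) && sameW actA ptsA v (decWord 64 (ctTU.at j)))
    (c.reverse ++ (tauW.getD a [] ++ c))) (decWord 64 (cenU.at i))

theorem fix_count : ∀ b < 4, ((List.range 720).filter fun i => fixOk 0 (720 * b + i)).length =
    [80, 88, 76, 76].getD b 0 ∧ ((List.range 720).filter fun i => fixOk 1 (720 * b + i)).length =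
    [140, 148, 152, 136].getD b 0 := by
  intro b hb
  interval_cases b <;> decide +kernel

theorem fix_iff {a i : ℕ} (ha : a < 3) (hi : i < 2880) :
    fixOk a i = true ↔ (ev g (decWord 64 (cenU.at i)))⁻¹ * tau a * ev g (decWord 64 (cenU.at i)) ∈ T0 := by
  have hc := cen_small hi
  set c := decWord 64 (cenU.at i)
  have e : ev g (c.reverse ++ (tauW.getD a [] ++ c)) = (ev g c)⁻¹ * tau a * ev g c := by
    rw [ev_append, ev_append, ev_small_inv hc, mul_assoc, tau]
  simp only [fixOk, force_eq, List.any_eq_true, Bool.and_eq_true, List.mem_range]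
  refine ⟨fun ⟨j, hj, _, h⟩ => ?_, fun h => ?_⟩
  · rw [← e, eq_of_same h]
    exact t_mem hj
  obtain ⟨j, hj, ej⟩ := listT.1 _ h
  have hv : ∀ s ∈ c.reverse ++ (tauW.getD a [] ++ c), s < 3 := fun s hs => by
    simp only [List.mem_append, List.mem_reverse] at hs
    rcases hs with x | x | x
    exacts [hc s x, tau_small ha s x, hc s x]
  have hag := agree_of_eq (g := g) homA pts_lt hv (t_small hj) (e.trans ej.symm)
  refine ⟨j, hj, ?_, ?_⟩
  · have hk := t_chk j hj
    simp only [tOk, chkList, chkClosedList, force_eq, Bool.and_eq_true] at hk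
    refine Nat.beq_eq.mpr ?_
    rw [← Nat.eq_of_beq_eq_true hk.1.1.1.1.2]
    refine imKey_congr fun q hq => Nat.eq_of_beq_eq_true ?_
    have := List.all_eq_true.1 hag q hq
    rwa [force_eq] at this
  · simp only [sameW, Bool.and_eq_true, List.all_eq_true, Nat.blt_eq]
    exact ⟨⟨hv, t_small hj⟩, hag⟩

theorem cen_index :
    Function.Bijective fun i : Fin 2880 => (⟨ev g (decWord 64 (cenU.at i)), Subgroup.mem_centralizer_singleton_iff.2
      (by
        have hle := comm_le (G' := cenG) (x := [0]) (by decide +kernel)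
        have hm : ev g (decWord 64 (cenU.at i)) ∈ val g cenG := mem_of_chkList (K := cenK) (step := cenStep)
          (path := cenPath) (m := 2880) (by
            have := chkCen_ok i i.2
            rw [chkCen, Bool.and_eq_true] at this
            exact this.1)
        exact Subgroup.mem_centralizer_singleton_iff.1 (hle hm))⟩ : Subgroup.centralizer ({z} : Set HX)) := by
  refine Function.Surjective.bijective_of_nat_card_le ?_ (by rw [cent_facts.1, Nat.card_fin])
  rintro ⟨c, hc⟩
  obtain ⟨i, hi, e⟩ := cent_facts.2 c (Subgroup.mem_centralizer_singleton_iff.1 hc)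
  exact ⟨⟨i, hi⟩, Subtype.ext e⟩

theorem count_fix {a : ℕ} (ha : a < 2) :
    Nat.card {c : HX // c * z = z * c ∧ c⁻¹ * tau a * c ∈ T0} = [320, 576].getD a 0 := by
  have e1 : Nat.card {c : HX // c * z = z * c ∧ c⁻¹ * tau a * c ∈ T0} =
      Nat.card {i : Fin 2880 // fixOk a i = true} := by
    refine (Nat.card_congr ?_).symm
    refine ((Equiv.ofBijective _ cen_index).subtypeEquiv
      (q := fun c : Subgroup.centralizer ({z} : Set HX) => (c : HX)⁻¹ * tau a * c ∈ T0)
      fun i => fix_iff (by omega) i.2).trans ?_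
    exact
      { toFun := fun c => ⟨c.1.1, Subgroup.mem_centralizer_singleton_iff.1 c.1.2, c.2⟩
        invFun := fun c => ⟨⟨c.1, Subgroup.mem_centralizer_singleton_iff.2 c.2.1⟩, c.2.2⟩
        left_inv := fun _ => rfl
        right_inv := fun _ => rfl }
  have e2 : ∀ n (q : ℕ → Bool), Nat.card {i : Fin n // q i = true} = ((List.range n).filter q).length := by
    intro n q
    rw [Nat.card_eq_fintype_card, Fintype.card_subtype]
    rw [show ((List.range n).filter q).length = ((Finset.range n).filter fun i => q i = true).card by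
      simp [Finset.card, Finset.filter, Finset.range, Multiset.range, Multiset.filter_coe]]
    refine Finset.card_bij (fun i _ => (i : ℕ)) (by simp) (fun i _ j _ e => Fin.ext e) fun j hj => ?_
    simp only [Finset.mem_filter, Finset.mem_range] at hj
    exact ⟨⟨j, hj.1⟩, by simp [hj.2], rfl⟩
  rw [e1, e2]
  have e3 : List.range 2880 = ((List.range 720).map fun i => 720 * 0 + i) ++ ((List.range 720).map fun i => 720 * 1 + i) ++
      ((List.range 720).map fun i => 720 * 2 + i) ++ ((List.range 720).map fun i => 720 * 3 + i) := by decide +kernel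
  simp only [e3, List.filter_append, List.filter_map, List.length_append, List.length_map, Function.comp_def]
  interval_cases a
  · rw [(fix_count 0 (by norm_num)).1, (fix_count 1 (by norm_num)).1, (fix_count 2 (by norm_num)).1,
      (fix_count 3 (by norm_num)).1]
    rfl
  · rw [(fix_count 0 (by norm_num)).2, (fix_count 1 (by norm_num)).2, (fix_count 2 (by norm_num)).2,
      (fix_count 3 (by norm_num)).2]
    rfl

end Cfsg.Agent.Grp.HSCent.Ctrl
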