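import Cfsg.Agent.Lib.Grp.HSCent.RData

/-!
# Candidates for the action on the subgroup of order 64, and symmetric groups of degree five
-/

set_option autoImplicit false
set_option maxRecDepth 100000
set_option maxHeartbeats 4000000

open Cfsg.Agent.Spor.Cos

namespace Cfsg.Agent.Grp.HSCent

namespace RData

/-- A product in the table. -/
noncomputable def times (D : RData) (a b : ℕ) : ℕ := force a fun a => force b fun b => D.mul.at (64 * a + b)

/-- A small power. -/
noncomputable def power (D : RData) (a n : ℕ) : ℕ :=
  Nat.rec (motive := fun _ => ℕ) D.one (fun _ r => D.times r a) n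

/-- The extension of three images. -/
noncomputable def img (D : RData) (jc jx jy j : ℕ) : ℕ :=
  force (D.nf.at j) fun e =>
    D.times (D.times (D.times (D.times (D.power jc (e % 4)) (D.power jx ((e / 4) % 2)))
      (D.power (D.cd.at jx) ((e / 8) % 2))) (D.power jy ((e / 16) % 2))) (D.power (D.cd.at jy) ((e / 32) % 2))

/-- The third power of a map composed with the second involution is inner by a given element. -/
noncomputable def innerAt (D : RData) (f : ℕ → ℕ) (k : ℕ) : Bool :=
  D.five.all fun g => Nat.beq (D.times k (D.ci.at (f (D.ci.at (f (D.ci.at (f g))))))) (D.times g k)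

/-- The conditions on three images. -/
noncomputable def goodImg (D : RData) (jc jx jy : ℕ) : Bool :=
  (fun f : ℕ → ℕ =>
    (D.five.all fun g => force (f g) fun y => Nat.beq (f (D.cs.at g)) (D.cs.at y) && Nat.beq (f y) g) &&
      ((List.range 64).any fun k => D.innerAt f k) &&
      (List.range 64).all fun z => D.five.all fun g =>
        Nat.beq (f (D.times z g)) (D.times (f z) (f g))) (D.img jc jx jy)

/-- All good triples are listed. -/
noncomputable def chkCand (D : RData) (out : List (List ℕ)) (jx : ℕ) : Bool :=
  (D.cen.all fun jc => !(Nat.beq (D.times jc jc) (D.cen.getD 2 0)) ||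
    !(Nat.beq (D.times jx jx) D.one) || (List.range 64).all fun jy =>
      !(Nat.beq (D.times jy jy) D.one) || !(D.goodImg jc jx jy) || out.any fun o => decide (o = [jc, jx, jy]))

end RData

/-- The wanted images. -/
def trueImg : List ℕ := [46, 0, 23]

/-- The other images. -/
def otherImg : List ℕ := [46, 6, 0]

theorem r0_cand : ∀ jx < 64, r0.chkCand [trueImg, otherImg] jx = true := by
  refine of_blocks (size := 16) (b := 4) (by decide) (by decide) fun j hj => ?_
  interval_cases j <;> decide +kernel

theorem r1_cand : ∀ jx < 64, r1.chkCand [] jx = true := by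
  refine of_blocks (size := 16) (b := 4) (by decide) (by decide) fun j hj => ?_
  interval_cases j <;> decide +kernel

/-- The words of the coset representatives. -/
def repsS : List (List ℕ) := [[], [0], [1], [2], [0, 0], [0, 1], [0, 2], [1, 0], [1, 2], [2, 0], [2, 1], [0, 0, 2],
  [0, 1, 2], [0, 2, 0], [0, 2, 1], [1, 0, 2], [1, 2, 0], [1, 2, 1], [2, 0, 0], [2, 1, 0], [0, 2, 0, 0], [0, 2, 1, 0],
  [1, 2, 0, 0], [1, 2, 1, 0]]

/-- The product of a word in three elements. -/
def prodW {α : Type*} [Mul α] [One α] (D S I : α) : List ℕ → α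
  | [] => 1
  | s :: w => (if s = 0 then D else if s = 1 then S else I) * prodW D S I w

set_option synthInstance.maxSize 1000 in
theorem exists_tau : ∀ D : Equiv.Perm (Fin 5), D * D * D = 1 → D ≠ 1 →
    ∀ S : Equiv.Perm (Fin 5), S * S = 1 → S * D * S = D * D →
    ∀ I : Equiv.Perm (Fin 5), I * I = 1 → S * I * (S * I) * (S * I) = 1 →
      D * I * (D * I) * (D * I * (D * I)) = 1 → I ≠ 1 → I ≠ S → I ≠ S * D → I ≠ S * (D * D) →
      ∃ T : Equiv.Perm (Fin 5), T * T = 1 ∧ T * D = D * T ∧ T * S = S * T ∧ T * I * (T * I) * (T * I) = 1 ∧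
        ∀ w ∈ repsS, prodW D S I w ≠ T := by decide +kernel

end Cfsg.Agent.Grp.HSCent
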