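import Cfsg.Agent.Lib.Grp.HSCent.LConf
import Cfsg.Agent.Lib.Grp.HSCent.RCand

/-!
# An element of the centraliser outside the two-local subgroup
-/

set_option autoImplicit false
set_option maxRecDepth 100000

open Cfsg.Agent.Spor.Cos Cfsg.Agent.Spor.Cos.Triple

namespace Cfsg.Agent.Grp.HSCent

universe u

variable {G : Type u} [Group G]

/-- The element with an index. -/
noncomputable def el (p : ℕ → G) (D : RData) (i : ℕ) : G := ev p (D.wd i)

/-- The conditions on the element. -/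
structure HProp (t : G) (H M : Subgroup G) (p : ℕ → G) (D : RData) (h : G) : Prop where
  hH : h ∈ H
  hM : h ∉ M
  hd : h⁻¹ * ev p D.dW * h = ev p D.dW
  hs : ∃ j ∈ D.cen, h⁻¹ * ev p D.sW * h = ev p D.sW * el p D j
  h2 : ∃ j ∈ D.cen, h * h = el p D j
  hi : ∃ k < 64, h * ev p D.iW * (h * ev p D.iW) * (h * ev p D.iW) = el p D k

/-- The table of the extension by the identity. -/
noncomputable def chkNF (D : RData) : Bool :=
  Nat.beq (D.cd.at (D.five.getD 1 0)) (D.five.getD 2 0) && Nat.beq (D.cd.at (D.five.getD 3 0)) (D.five.getD 4 0) &&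
    (List.range 64).all fun j =>
      Nat.beq (D.img (D.five.getD 0 0) (D.five.getD 1 0) (D.five.getD 3 0) j) j

/-- The elements of the centre, and the orders of some elements. -/
noncomputable def chkWords (D : RData) : Bool :=
  (D.five.all fun a => D.cen.all fun c => Nat.beq (D.times a c) (D.times c a)) &&
    ((List.range 64).all fun j => !(Nat.beq (D.cd.at j) j) || D.cen.any fun c => Nat.beq c j) &&
    ((List.range 64).all fun a => D.cen.all fun c => Nat.beq (D.times a c) (D.times c a)) &&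
    (D.cen.all fun c => Nat.beq (D.cd.at c) c) &&
    Nat.beq (D.times (D.five.getD 1 0) (D.five.getD 1 0)) D.one && Nat.beq (D.times (D.five.getD 3 0) (D.five.getD 3 0)) D.one &&
    Nat.beq (D.times (D.five.getD 0 0) (D.five.getD 0 0)) (D.cen.getD 2 0) && decide (D.five.getD 0 0 ∈ D.cen) &&
    sameW actL pts (D.wd (D.cen.getD 2 0)) tL && decide (D.reps = repsS) &&
    sameW actL pts (D.dW ++ (D.dW ++ D.dW)) [] && !(agree actL pts D.dW []) && sameW actL pts (D.sW ++ D.sW) [] &&
    sameW actL pts (D.iW ++ D.iW) [] && sameW actL pts (D.sW ++ (D.dW ++ D.sW)) (D.dW ++ D.dW) &&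
    (fun z : List ℕ => (List.range 64).any fun k => sameW actL pts (z ++ (z ++ z)) (D.wd k)) (D.sW ++ D.iW) &&
    (fun z : List ℕ => (List.range 64).any fun k => sameW actL pts (z ++ (z ++ (z ++ z))) (D.wd k)) (D.dW ++ D.iW) &&
    ((List.range 64).all fun k => !(agree actL pts D.dW (D.wd k)) && !(agree actL pts D.iW (D.wd k)) &&
      !(agree actL pts D.iW (D.sW ++ D.wd k)) && !(agree actL pts D.iW (D.sW ++ (D.dW ++ D.wd k))) &&
      !(agree actL pts D.iW (D.sW ++ (D.dW ++ (D.dW ++ D.wd k)))))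

theorem r0_nf : chkNF r0 = true := by decide +kernel

theorem r1_nf : chkNF r1 = true := by decide +kernel

theorem r0_words : chkWords r0 = true := by decide +kernel

theorem r1_words : chkWords r1 = true := by decide +kernel

variable {t : G} {H R V M K : Subgroup G} {p : ℕ → G} {D : RData}

theorem el_small (ok : D.Ok) {i : ℕ} (hi : i < 64) : ∀ s ∈ D.wd i, s < 4 := by
  have h := ok.el i hi
  simp only [RData.chkEl, Bool.and_eq_true] at h
  exact small_lt h.1.1.1.1.1.1.1.1.1.1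

theorem el_small5 (ok : D.Ok) {i : ℕ} (hi : i < 64) : ∀ s ∈ D.wd i, s < 5 := five_of_four (el_small ok hi)

theorem el_inj (C : LConf t H R M p D) (ok : D.Ok) {i j : ℕ} (hi : i < 64) (hj : j < 64)
    (e : el p D i = el p D j) : i = j := by
  have key : ∀ k < 64, imKey actL (D.wd k) pts = D.K.at k ∧ (k + 1 < 64 → D.K.at k < D.K.at (k + 1)) := by
    intro k hk
    have h := ok.el k hk
    simp only [RData.chkEl, Bool.and_eq_true, Bool.or_eq_true] at h
    exact ⟨Nat.eq_of_beq_eq_true h.1.1.1.1.1.1.1.1.1.2, fun hlt => h.1.1.1.1.1.1.1.1.2.elim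
      (fun a => absurd (Nat.le_of_ble_eq_true a) (by omega)) Nat.le_of_ble_eq_true⟩
  have e0 := (C.iff _ _ (el_small5 ok hi) (el_small5 ok hj)).1 e
  have hk : imKey actL (D.wd i) pts = imKey actL (D.wd j) pts := imKey_congr fun q hq =>
    Nat.eq_of_beq_eq_true (by
      have := List.all_eq_true.1 (agreeL (fun s hs => by have := el_small ok hi s hs; omega)
        (fun s hs => by have := el_small ok hj s hs; omega) e0) q hq
      rwa [force_eq] at this)
  rw [(key i hi).1, (key j hj).1] at hk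
  have mono : ∀ b, b < 64 → ∀ a < b, D.K.at a < D.K.at b := by
    intro b
    induction b with
    | zero => intro _ a ha; omega
    | succ b ih =>
      intro hb a ha
      rcases Nat.lt_or_ge a b with h | h
      · exact (ih (by omega) a h).trans ((key b (by omega)).2 hb)
      · obtain rfl : a = b := by omega
        exact (key a (by omega)).2 hb
  rcases Nat.lt_trichotomy i j with h | h | h
  · exact absurd hk (mono j hj i h).ne
  · exact h
  · exact absurd hk (mono i hi j h).ne'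

theorem transfer (C : LConf t H R M p D) {v w : List ℕ} (hv : ∀ s ∈ v, s < 5) (hw : ∀ s ∈ w, s < 5)
    (h : sameW actL pts v w = true) : ev p v = ev p w := (C.iff v w hv hw).2 (eqL h)

theorem ne_of_model (C : LConf t H R M p D) {v w : List ℕ} (hv : ∀ s ∈ v, s < 5) (hw : ∀ s ∈ w, s < 5)
    (h : agree actL pts v w = false) : ev p v ≠ ev p w := fun e => by
  have := agreeL (fun s hs => by have := hv s hs; omega) (fun s hs => by have := hw s hs; omega) ((C.iff v w hv hw).1 e)
  rw [h] at this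
  exact Bool.noConfusion this

/-- The facts transferred from the tables. -/
structure Tables (p : ℕ → G) (D : RData) : Prop where
  one : D.one < 64 ∧ el p D D.one = 1
  mult : ∀ a < 64, ∀ b < 64, D.times a b < 64 ∧ el p D (D.times a b) = el p D a * el p D b
  cd : ∀ a < 64, D.cd.at a < 64 ∧ (ev p D.dW)⁻¹ * el p D a * ev p D.dW = el p D (D.cd.at a)
  cs : ∀ a < 64, D.cs.at a < 64 ∧ ev p D.sW * el p D a * ev p D.sW = el p D (D.cs.at a)
  ci : ∀ a < 64, D.ci.at a < 64 ∧ ev p D.iW * el p D a * ev p D.iW = el p D (D.ci.at a)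
  five : (∀ g ∈ D.five, g < 64) ∧ ∀ g ∈ D.cen, g < 64
  small : (∀ s ∈ D.dW, s < 4) ∧ (∀ s ∈ D.sW, s < 4) ∧ ∀ s ∈ D.iW, s < 4

theorem tables (C : LConf t H R M p D) (ok : D.Ok) : Tables p D := by
  have top := ok.top
  simp only [RData.chkTop, Bool.and_eq_true, List.all_eq_true] at top
  obtain ⟨⟨⟨⟨⟨⟨⟨⟨⟨hd, hs⟩, hi⟩, h5⟩, hc⟩, h1⟩, h1e⟩, -⟩, -⟩, -⟩ := top
  have d4 := small_lt hd
  have s4 := small_lt hs
  have i4 := small_lt hi
  have lt4 : ∀ {u v w : List ℕ}, (∀ s ∈ u, s < 4) → (∀ s ∈ v, s < 4) → (∀ s ∈ w, s < 4) →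
      ∀ s ∈ u ++ (v ++ w), s < 5 := fun {u v w} a b c s hs => by
    simp only [List.mem_append] at hs
    rcases hs with h | h | h
    exacts [(a s h).trans (by norm_num), (b s h).trans (by norm_num), (c s h).trans (by norm_num)]
  have hel := fun a (ha : a < 64) => ok.el a ha
  simp only [RData.chkEl, Bool.and_eq_true] at hel
  refine ⟨⟨Nat.le_of_ble_eq_true h1, ?_⟩, fun a ha b hb => ?_, fun a ha => ?_, fun a ha => ?_, fun a ha => ?_,
    ⟨fun g hg => Nat.le_of_ble_eq_true (h5 g hg), fun g hg => Nat.le_of_ble_eq_true (hc g hg)⟩, d4, s4, i4⟩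
  · exact transfer C (el_small5 ok (Nat.le_of_ble_eq_true h1)) (w := []) (by simp) h1e
  · have h := ok.mult a ha
    simp only [RData.chkMul, List.all_eq_true, List.mem_range, force_eq, Bool.and_eq_true] at h
    obtain ⟨hlt, hs⟩ := h b hb
    simp only [RData.times, force_eq]
    refine ⟨Nat.le_of_ble_eq_true hlt, ?_⟩
    rw [el, el, el, ← ev_append]
    refine (transfer C ?_ (el_small5 ok (Nat.le_of_ble_eq_true hlt)) hs).symm
    exact fun s hs' => (List.mem_append.1 hs').elim (el_small5 ok ha s) (el_small5 ok hb s)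
  · have hlt := Nat.le_of_ble_eq_true (hel a ha).1.1.1.1.1.1.2
    refine ⟨hlt, ?_⟩
    rw [el, el, ← ev_rev C.sq, mul_assoc, ← ev_append, ← ev_append]
    exact transfer C (lt4 (fun s h => d4 s (List.mem_reverse.1 h)) (el_small ok ha) d4) (el_small5 ok hlt)
      (hel a ha).1.1.1.1.1.2
  · have hlt := Nat.le_of_ble_eq_true (hel a ha).1.1.1.1.2
    refine ⟨hlt, ?_⟩
    rw [el, el, mul_assoc, ← ev_append, ← ev_append]
    exact transfer C (lt4 s4 (el_small ok ha) s4) (el_small5 ok hlt) (hel a ha).1.1.1.2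
  · have hlt := Nat.le_of_ble_eq_true (hel a ha).1.1.2
    refine ⟨hlt, ?_⟩
    rw [el, el, mul_assoc, ← ev_append, ← ev_append]
    exact transfer C (lt4 i4 (el_small ok ha) i4) (el_small5 ok hlt) (hel a ha).1.2

theorem centre (C : LConf t H R M p D) (ok : D.Ok) (W : chkWords D = true) {c : ℕ} (hc : c ∈ D.cen) :
    ∀ r ∈ R, r * el p D c = el p D c * r := by
  intro r hr
  obtain ⟨a, ha, rfl⟩ := C.Rsurj r hr
  have T := tables C ok
  simp only [chkWords, Bool.and_eq_true, List.all_eq_true, List.mem_range] at W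
  have h := Nat.eq_of_beq_eq_true (W.1.1.1.1.1.1.1.1.1.1.1.1.1.1.1.2 a ha c hc)
  show el p D a * _ = _ * el p D a
  rw [← (T.mult a ha c (T.five.2 c hc)).2, ← (T.mult c (T.five.2 c hc) a ha).2, h]

variable [Finite G]

/-- The element exists. -/
theorem exists_h (hy : Hyp t H R V M K) (C : LConf t H R M p D) (ok : D.Ok) (W : chkWords D = true)
    (f : H →* Equiv.Perm (Fin 5)) (hf : Function.Surjective f) (hker : ∀ x : H, f x = 1 ↔ (x : G) ∈ R) :
    ∃ h, HProp t H M p D h := by
  have T := tables C ok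
  obtain ⟨d4, s4, i4⟩ := T.small
  simp only [chkWords, Bool.and_eq_true, Bool.or_eq_true, List.all_eq_true, List.any_eq_true, List.mem_range, Bool.not_eq_true',
    decide_eq_true_eq] at W
  obtain ⟨⟨⟨⟨⟨⟨⟨⟨⟨⟨⟨⟨⟨⟨⟨⟨⟨-, hfix⟩, hcen⟩, hccd⟩, -⟩, -⟩, -⟩, -⟩, -⟩, hreps⟩, d3⟩, -⟩, s2⟩, i2⟩, sds⟩, si3⟩, di4⟩,
    hnot⟩ := W
  have l5 := fun {w : List ℕ} (h : ∀ s ∈ w, s < 4) => five_of_four h
  have cat : ∀ {v w : List ℕ}, (∀ s ∈ v, s < 5) → (∀ s ∈ w, s < 5) → ∀ s ∈ v ++ w, s < 5 :=
    fun {v w} a b s hs => (List.mem_append.1 hs).elim (a s) (b s)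
  have evH : ∀ {w : List ℕ}, (∀ s ∈ w, s < 4) → ev p w ∈ H := fun {w} h => ev_mem w fun s hs => C.comm s (h s hs)
  have nil5 : ∀ s ∈ ([] : List ℕ), s < 5 := by simp
  set d := ev p D.dW with hdd
  set s := ev p D.sW with hss
  set i := ev p D.iW with hii
  have ed : d * (d * d) = 1 := by
    rw [hdd, ← ev_append, ← ev_append]; exact transfer C (cat (l5 d4) (cat (l5 d4) (l5 d4))) nil5 d3
  have es : s * s = 1 := by rw [hss, ← ev_append]; exact transfer C (cat (l5 s4) (l5 s4)) nil5 s2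
  have ei : i * i = 1 := by rw [hii, ← ev_append]; exact transfer C (cat (l5 i4) (l5 i4)) nil5 i2
  have esd : s * (d * s) = d * d := by
    rw [hdd, hss, ← ev_append, ← ev_append, ← ev_append]
    exact transfer C (cat (l5 s4) (cat (l5 d4) (l5 s4))) (cat (l5 d4) (l5 d4)) sds
  obtain ⟨k3, hk3, hsi⟩ := si3
  have esi : s * i * (s * i * (s * i)) ∈ R := by
    rw [hss, hii, ← ev_append, ← ev_append, ← ev_append,
      transfer C (cat (cat (l5 s4) (l5 i4)) (cat (cat (l5 s4) (l5 i4)) (cat (l5 s4) (l5 i4)))) (el_small5 ok hk3) hsi]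
    exact C.Rmem k3 hk3
  obtain ⟨k4, hk4, hdi⟩ := di4
  have edi : d * i * (d * i * (d * i * (d * i))) ∈ R := by
    rw [hdd, hii, ← ev_append, ← ev_append, ← ev_append, ← ev_append,
      transfer C (cat (cat (l5 d4) (l5 i4)) (cat (cat (l5 d4) (l5 i4)) (cat (cat (l5 d4) (l5 i4))
        (cat (l5 d4) (l5 i4))))) (el_small5 ok hk4) hdi]
    exact C.Rmem k4 hk4
  let dh : H := ⟨d, evH d4⟩
  let sh : H := ⟨s, evH s4⟩
  let ih : H := ⟨i, evH i4⟩
  have fne : ∀ (v : List ℕ), (∀ x ∈ v, x < 5) → ∀ x : H, (x : G) = (ev p v)⁻¹ * i →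
      (∀ k < 64, agree actL pts D.iW (v ++ D.wd k) = false) → f x ≠ 1 := by
    intro v hv x hx hn e
    have hr := (hker x).1 e
    rw [hx] at hr
    obtain ⟨k, hk, ek⟩ := C.Rsurj _ hr
    exact ne_of_model C (l5 i4) (cat hv (el_small5 ok hk)) (hn k hk) (by rw [ev_append, ek, ← hii, mul_inv_cancel_left])
  obtain ⟨τ, t2, td, ts, ti, tn⟩ := exists_tau (f dh) (by
      rw [← map_mul, ← map_mul, ← map_one f]; exact congrArg f (Subtype.ext (by simpa [mul_assoc] using ed)))
    (fun e => by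
      obtain ⟨k, hk, ek⟩ := C.Rsurj _ ((hker dh).1 e)
      exact ne_of_model C (l5 d4) (el_small5 ok hk) (hnot k hk).1.1.1.1 ek.symm)
    (f sh) (by rw [← map_mul, ← map_one f]; exact congrArg f (Subtype.ext es))
    (by rw [← map_mul, ← map_mul, ← map_mul]; exact congrArg f (Subtype.ext (by simpa [mul_assoc] using esd)))
    (f ih) (by rw [← map_mul, ← map_one f]; exact congrArg f (Subtype.ext ei))
    (by rw [← map_mul, ← map_mul, ← map_mul, hker]; simpa [mul_assoc] using esi)
    (by rw [← map_mul, ← map_mul, ← map_mul, hker]; simpa [mul_assoc] using edi)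
    (fun e => fne [] nil5 ih (by simp [ih, ev]) (fun k hk => (hnot k hk).1.1.1.2) e)
    (fun e => fne D.sW (l5 s4) (sh⁻¹ * ih) (by simp [sh, ih, hss]) (fun k hk => (hnot k hk).1.1.2)
      (by rw [map_mul, map_inv, e, inv_mul_cancel]))
    (fun e => fne (D.sW ++ D.dW) (cat (l5 s4) (l5 d4)) ((sh * dh)⁻¹ * ih) (by simp [sh, dh, ih, hss, hdd, ev_append])
      (fun k hk => by rw [List.append_assoc]; exact (hnot k hk).1.2)
      (by rw [map_mul, map_inv, map_mul, e, inv_mul_cancel]))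
    (fun e => fne (D.sW ++ (D.dW ++ D.dW)) (cat (l5 s4) (cat (l5 d4) (l5 d4))) ((sh * (dh * dh))⁻¹ * ih)
      (by simp [sh, dh, ih, hss, hdd, ev_append])
      (fun k hk => by rw [List.append_assoc, List.append_assoc]; exact (hnot k hk).2)
      (by rw [map_mul, map_inv, map_mul, map_mul, e, inv_mul_cancel]))
  obtain ⟨x, hx⟩ := hf τ
  -- correct x by an element of the subgroup
  obtain ⟨j, hj, ej⟩ : ∃ j < 64, el p D j = d⁻¹ * ((x : G)⁻¹ * d * x) := by
    refine C.Rsurj _ ((hker (dh⁻¹ * (x⁻¹ * dh * x))).1 ?_)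
    rw [map_mul, map_mul, map_mul, map_inv, map_inv, hx, mul_assoc, ← td, inv_mul_cancel_left, inv_mul_cancel]
  have ej' : d * el p D j = (x : G)⁻¹ * d * x := by rw [ej, mul_inv_cancel_left]
  have hz5 : ∀ s' ∈ D.dW ++ D.wd j, s' < 5 := cat (l5 d4) (el_small5 ok hj)
  have hel := ok.el j hj
  simp only [RData.chkEl, Bool.and_eq_true, Bool.or_eq_true, Bool.not_eq_true', force_eq] at hel
  rcases hel.2 with hbad | ⟨⟨hk0, hk64⟩, hsame⟩
  · exfalso
    refine ne_of_model C (cat hz5 (cat hz5 hz5)) nil5 hbad ?_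
    rw [ev_append p (D.dW ++ D.wd j), ev_append p (D.dW ++ D.wd j), ev_append p D.dW, ← el, ej',
      show (x : G)⁻¹ * d * x * ((x : G)⁻¹ * d * x * ((x : G)⁻¹ * d * x)) = (x : G)⁻¹ * (d * (d * d)) * x by group, ed]
    simp [ev]
  have hk : D.dfix.at j - 1 < 64 := by
    have := Nat.le_of_ble_eq_true hk64
    have : D.dfix.at j ≠ 0 := fun e => by rw [e] at hk0; exact Bool.noConfusion hk0
    omega
  set r := el p D (D.dfix.at j - 1) with hr
  have er : r⁻¹ * ((x : G)⁻¹ * d * x) * r = d := by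
    rw [← ej', hr, el, el, hdd, ← ev_rev C.sq, mul_assoc, ← ev_append, ← ev_append, ← ev_append]
    refine transfer C (cat (fun s h => el_small5 ok hk s (List.mem_reverse.1 h)) (cat hz5 (el_small5 ok hk))) (l5 d4) ?_
    exact hsame
  set h := (x : G) * r with hh
  have rR : r ∈ R := C.Rmem _ hk
  have hH : h ∈ H := mul_mem x.2 (hy.RH rR)
  let hhh : H := ⟨h, hH⟩
  have fh : f hhh = τ := by
    rw [show hhh = x * ⟨r, hy.RH rR⟩ from rfl, map_mul, (hker ⟨r, hy.RH rR⟩).2 rR, mul_one, hx]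
  have hd' : h⁻¹ * d * h = d := by
    rw [hh]
    calc _ = r⁻¹ * ((x : G)⁻¹ * d * x) * r := by group
      _ = d := er
  have inQ : ∀ u ∈ R, d⁻¹ * u * d = u → ∃ c ∈ D.cen, u = el p D c := by
    intro u hu e
    obtain ⟨a, ha, rfl⟩ := C.Rsurj u hu
    change d⁻¹ * el p D a * d = el p D a at e
    rw [(T.cd a ha).2] at e
    have := el_inj C ok (T.cd a ha).1 ha e
    rcases hfix a ha with h | ⟨c, hc, hca⟩
    · rw [this, Nat.beq_refl] at h; exact Bool.noConfusion h
    · exact ⟨c, hc, by rw [Nat.eq_of_beq_eq_true hca]; rfl⟩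
  have di : d⁻¹ = d * d := inv_eq_of_mul_eq_one_right ed
  refine ⟨h, hH, fun hM => ?_, hd', ?_, ?_, ?_⟩
  · obtain ⟨b, hb, eb⟩ := C.surj h hM hH
    have hc := ok.cover b hb
    simp only [RData.chkCov, force_eq, Bool.and_eq_true] at hc
    obtain ⟨hlt, hsame'⟩ := hc
    have hlt' : D.cov.at b / 64 < 24 := Nat.le_of_ble_eq_true hlt
    have hw3 : ∀ y ∈ D.reps.getD (D.cov.at b / 64) [], y < 3 := by
      intro y hy'
      have := ok.top
      simp only [RData.chkTop, Bool.and_eq_true, List.all_eq_true, Nat.beq_eq] at this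
      rw [List.getD_eq_getElem _ _ (by omega)] at hy'
      exact Nat.le_of_ble_eq_true (this.1.1.2 _ (List.getElem_mem _) y hy')
    have hsub : ∀ y ∈ subW [D.dW, D.sW, D.iW] (D.reps.getD (D.cov.at b / 64) []), y < 5 := by
      intro y hy'
      obtain ⟨l, hl, hyl⟩ := List.mem_flatten.1 hy'
      obtain ⟨k, hk', rfl⟩ := List.mem_map.1 hl
      have := hw3 k hk'
      interval_cases k
      exacts [l5 d4 y hyl, l5 s4 y hyl, l5 i4 y hyl]
    have hb5 : ∀ y ∈ decWord 24 (blU.at b), y < 5 := l5 fun y hy' =>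
      Nat.le_of_ble_eq_true (List.all_eq_true.1 (bl_letters b hb) y hy')
    have hr6 : D.cov.at b % 64 < 64 := Nat.mod_lt _ (by norm_num)
    rw [transfer C hb5 (cat (el_small5 ok hr6) hsub) hsame', ev_append] at eb
    have aux : ∀ w : List ℕ, (∀ y ∈ w, y < 3) → ∃ z : H, (z : G) = ev p (subW [D.dW, D.sW, D.iW] w) ∧
        f z = prodW (f dh) (f sh) (f ih) w := by
      intro w
      induction w with
      | nil => exact fun _ => ⟨1, by simp [subW, ev], map_one f⟩
      | cons a w ihw =>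
        intro hw
        obtain ⟨z, hz, fz⟩ := ihw fun y hy' => hw y (List.mem_cons_of_mem _ hy')
        have := hw a (List.mem_cons_self ..)
        interval_cases a
        · exact ⟨dh * z, by simp [dh, hdd, hz, subW, ev_append], by simp [prodW, fz]⟩
        · exact ⟨sh * z, by simp [sh, hss, hz, subW, ev_append], by simp [prodW, fz]⟩
        · exact ⟨ih * z, by simp [ih, hii, hz, subW, ev_append], by simp [prodW, fz]⟩
    obtain ⟨z, hz, fz⟩ := aux _ hw3
    let r' : H := ⟨el p D (D.cov.at b % 64), hy.RH (C.Rmem _ hr6)⟩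
    have e2 : hhh = r' * z := Subtype.ext (by show h = el p D _ * (z : G); rw [hz]; exact eb.symm)
    rw [e2, map_mul, (hker r').2 (C.Rmem _ hr6), one_mul, fz] at fh
    refine tn _ ?_ fh
    rw [← hreps]
    have hl24 : D.reps.length = 24 := by rw [hreps]; rfl
    rw [List.getD_eq_getElem _ _ (by omega)]
    exact List.getElem_mem _
  · -- the first involution
    have hu : s⁻¹ * (h⁻¹ * s * h) ∈ R := (hker (sh⁻¹ * (hhh⁻¹ * sh * hhh))).1 (by
      rw [map_mul, map_mul, map_mul, map_inv, map_inv, fh, mul_assoc, ← ts, inv_mul_cancel_left, inv_mul_cancel])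
    obtain ⟨c, hc, ec⟩ := inQ _ hu (by
      have si : s⁻¹ = s := inv_eq_of_mul_eq_one_right es
      have e1 : s * d * s = d * d := by rw [mul_assoc]; exact esd
      have e2 : h⁻¹ * s * h * d = d * d * (h⁻¹ * s * h) := by
        calc h⁻¹ * s * h * d = h⁻¹ * s * h * (h⁻¹ * d * h) := by rw [hd']
          _ = h⁻¹ * (s * d * (s * s)) * h := by rw [es]; group
          _ = h⁻¹ * (s * d * s * s) * h := by simp only [mul_assoc]
          _ = (h⁻¹ * d * h) * (h⁻¹ * d * h) * (h⁻¹ * s * h) := by rw [e1]; group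
          _ = d * d * (h⁻¹ * s * h) := by rw [hd']
      rw [si]
      calc d⁻¹ * (s * (h⁻¹ * s * h)) * d = d * d * s * (h⁻¹ * s * h * d) := by rw [di]; simp only [mul_assoc]
        _ = d * d * (s * d * s) * (s * (d * (h⁻¹ * s * h))) := by
          rw [e2]
          simp only [mul_assoc]
          rw [← mul_assoc s s, es, one_mul]
        _ = d * (d * (d * d)) * (s * (d * (h⁻¹ * s * h))) := by rw [e1]; simp only [mul_assoc]
        _ = d * (s * (d * (s * s)) * (h⁻¹ * s * h)) := by rw [ed, es]; simp [mul_assoc]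
        _ = d * (d * d) * (s * (h⁻¹ * s * h)) := by
          rw [← esd]; simp only [mul_assoc]
        _ = s * (h⁻¹ * s * h) := by rw [ed, one_mul])
    exact ⟨c, hc, by rw [← ec, mul_inv_cancel_left]⟩
  · have hu : h * h ∈ R := (hker (hhh * hhh)).1 (by rw [map_mul, fh, t2])
    obtain ⟨c, hc, ec⟩ := inQ _ hu (by
      have e2 : (h * h)⁻¹ * d * (h * h) = d := by
        calc _ = h⁻¹ * (h⁻¹ * d * h) * h := by group
          _ = d := by rw [hd', hd']
      calc d⁻¹ * (h * h) * d = d⁻¹ * (h * h) * ((h * h)⁻¹ * d * (h * h)) := by rw [e2]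
        _ = h * h := by group)
    exact ⟨c, hc, ec⟩
  · obtain ⟨k, hk, ek⟩ := C.Rsurj _ ((hker (hhh * ih * (hhh * ih) * (hhh * ih))).1 (by
      rw [map_mul, map_mul, map_mul, fh]; exact ti))
    exact ⟨k, hk, ek.symm⟩

/-- The images of the generators are among the candidates. -/
theorem cand (hy : Hyp t H R V M K) (C : LConf t H R M p D) (ok : D.Ok) (W : chkWords D = true)
    (N : chkNF D = true) {out : List (List ℕ)} (hout : ∀ jx < 64, D.chkCand out jx = true) {h : G}
    (P : HProp t H M p D h) :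
    ∃ al : ℕ → ℕ, (∀ a < 64, al a < 64 ∧ h⁻¹ * el p D a * h = el p D (al a)) ∧
      [al (D.five.getD 0 0), al (D.five.getD 1 0), al (D.five.getD 3 0)] ∈ out ∧
      (∀ j < 64, D.img (al (D.five.getD 0 0)) (al (D.five.getD 1 0)) (al (D.five.getD 3 0)) j = al j) ∧
      ∀ k < 64, h * ev p D.iW * (h * ev p D.iW) * (h * ev p D.iW) = el p D k →
        D.innerAt (D.img (al (D.five.getD 0 0)) (al (D.five.getD 1 0)) (al (D.five.getD 3 0))) k = true := by
  classical
  have T := tables C ok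
  have W' := W
  simp only [chkWords, Bool.and_eq_true, List.all_eq_true, List.mem_range, decide_eq_true_eq] at W'
  obtain ⟨⟨⟨⟨⟨⟨⟨⟨⟨⟨⟨⟨⟨⟨⟨⟨⟨-, hfix⟩, hcen⟩, hccd⟩, hx2⟩, hy2⟩, hc2⟩, hc0⟩, htc⟩, -⟩, -⟩, -⟩, s2⟩, i2⟩, -⟩, -⟩, -⟩, -⟩ := W'
  have hget : ∀ k, D.five.getD k 0 < 64 := by
    intro k
    rcases Nat.lt_or_ge k D.five.length with h | h
    · rw [List.getD_eq_getElem _ _ h]; exact T.five.1 _ (List.getElem_mem h)
    · rw [List.getD_eq_default _ _ h]; norm_num
  let al : ℕ → ℕ := fun a => if ha : a < 64 then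
    (C.Rsurj _ (hy.Rn h P.hH _ (C.Rmem a ha))).choose else a
  have hal : ∀ a < 64, al a < 64 ∧ h⁻¹ * el p D a * h = el p D (al a) := by
    intro a ha
    have := (C.Rsurj _ (hy.Rn h P.hH _ (C.Rmem a ha))).choose_spec
    simp only [al, dif_pos ha]
    exact ⟨this.1, this.2.symm⟩
  have inj : ∀ {a b}, a < 64 → b < 64 → el p D a = el p D b → a = b := fun {a b} => el_inj C ok
  have alMul : ∀ a < 64, ∀ b < 64, al (D.times a b) = D.times (al a) (al b) := by
    intro a ha b hb
    obtain ⟨hl, e⟩ := T.mult a ha b hb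
    obtain ⟨hl', e'⟩ := T.mult _ (hal a ha).1 _ (hal b hb).1
    refine inj (hal _ hl).1 hl' ?_
    rw [← (hal _ hl).2, e, e', ← (hal a ha).2, ← (hal b hb).2]; group
  have alOne : al D.one = D.one := inj (hal _ T.one.1).1 T.one.1 (by
    rw [← (hal _ T.one.1).2, T.one.2]; group)
  have ed := P.hd
  have alCd : ∀ a < 64, al (D.cd.at a) = D.cd.at (al a) := by
    intro a ha
    refine inj (hal _ (T.cd a ha).1).1 (T.cd _ (hal a ha).1).1 ?_
    rw [← (hal _ (T.cd a ha).1).2, ← (T.cd a ha).2, ← (T.cd _ (hal a ha).1).2, ← (hal a ha).2]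
    conv_rhs => rw [← ed]
    group
  obtain ⟨cu, hcu, es⟩ := P.hs
  obtain ⟨cj, hcj, e2⟩ := P.h2
  have si : (ev p D.sW)⁻¹ = ev p D.sW := inv_eq_of_mul_eq_one_right (by
    rw [← ev_append]
    refine transfer C ?_ (w := []) (by simp) s2
    exact fun s hs => (List.mem_append.1 hs).elim (five_of_four T.small.2.1 s) (five_of_four T.small.2.1 s))
  have ii : (ev p D.iW)⁻¹ = ev p D.iW := inv_eq_of_mul_eq_one_right (by
    rw [← ev_append]
    refine transfer C ?_ (w := []) (by simp) i2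
    exact fun s hs => (List.mem_append.1 hs).elim (five_of_four T.small.2.2 s) (five_of_four T.small.2.2 s))
  have alCs : ∀ a < 64, al (D.cs.at a) = D.cs.at (al a) := by
    intro a ha
    refine inj (hal _ (T.cs a ha).1).1 (T.cs _ (hal a ha).1).1 ?_
    rw [← (hal _ (T.cs a ha).1).2, ← (T.cs a ha).2, ← (T.cs _ (hal a ha).1).2, ← (hal a ha).2]
    set s := ev p D.sW
    have hu := centre C ok W hcu
    calc h⁻¹ * (s * el p D a * s) * h = (h⁻¹ * s * h)⁻¹ * (h⁻¹ * el p D a * h) * (h⁻¹ * s * h) := by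
          rw [mul_inv_rev, mul_inv_rev, inv_inv, si]; group
      _ = (el p D cu)⁻¹ * (s⁻¹ * (h⁻¹ * el p D a * h) * s) * el p D cu := by rw [es]; group
      _ = s⁻¹ * (h⁻¹ * el p D a * h) * s := by
          rw [si, mul_assoc, hu _ (by rw [(hal a ha).2, (T.cs _ (hal a ha).1).2]; exact C.Rmem _ (T.cs _ (hal a ha).1).1),
            inv_mul_cancel_left]
      _ = s * (h⁻¹ * el p D a * h) * s := by rw [si]
  have alAl : ∀ a < 64, al (al a) = a := by
    intro a ha
    refine inj (hal _ (hal a ha).1).1 ha ?_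
    rw [← (hal _ (hal a ha).1).2, ← (hal a ha).2,
      show h⁻¹ * (h⁻¹ * el p D a * h) * h = (h * h)⁻¹ * el p D a * (h * h) by group, e2, mul_assoc,
      show el p D a * el p D cj = el p D cj * el p D a from centre C ok W hcj (el p D a) (C.Rmem a ha),
      inv_mul_cancel_left]
  have alPow : ∀ a < 64, ∀ n, D.power a n < 64 ∧ al (D.power a n) = D.power (al a) n := by
    intro a ha n
    induction n with
    | zero => exact ⟨T.one.1, alOne⟩
    | succ n ihn =>
      show D.times (D.power a n) a < 64 ∧ al (D.times (D.power a n) a) = D.times (D.power (al a) n) (al a)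
      exact ⟨(T.mult _ ihn.1 a ha).1, by rw [alMul _ ihn.1 a ha, ihn.2]⟩
  simp only [chkNF, Bool.and_eq_true, List.all_eq_true, List.mem_range] at N
  set g0 := D.five.getD 0 0
  set g1 := D.five.getD 1 0
  set g3 := D.five.getD 3 0
  have alImg : ∀ j < 64, D.img (al g0) (al g1) (al g3) j = al j := by
    intro j hj
    conv_rhs => rw [← Nat.eq_of_beq_eq_true (N.2 j hj)]
    simp only [RData.img, force_eq, ← alCd g1 (hget 1), ← alCd g3 (hget 3)]
    have p0 := alPow g0 (hget 0) (D.nf.at j % 4)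
    have p1 := alPow g1 (hget 1) (D.nf.at j / 4 % 2)
    have p2 := alPow _ (T.cd g1 (hget 1)).1 (D.nf.at j / 8 % 2)
    have p3 := alPow g3 (hget 3) (D.nf.at j / 16 % 2)
    have p4 := alPow _ (T.cd g3 (hget 3)).1 (D.nf.at j / 32 % 2)
    have m1 := (T.mult _ p0.1 _ p1.1).1
    have m2 := (T.mult _ m1 _ p2.1).1
    have m3 := (T.mult _ m2 _ p3.1).1
    rw [alMul _ m3 _ p4.1, alMul _ m2 _ p3.1, alMul _ m1 _ p2.1, alMul _ p0.1 _ p1.1, p0.2, p1.2, p2.2, p3.2, p4.2]
  have hinner : ∀ k < 64, h * ev p D.iW * (h * ev p D.iW) * (h * ev p D.iW) = el p D k → D.innerAt al k = true := by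
    intro k hk e3
    simp only [RData.innerAt, List.all_eq_true, Nat.beq_eq]
    intro g hg
    have hg' := T.five.1 g hg
    have step : ∀ a < 64, D.ci.at (al a) < 64 ∧
        el p D (D.ci.at (al a)) = (h * ev p D.iW)⁻¹ * el p D a * (h * ev p D.iW) := by
      intro a ha
      refine ⟨(T.ci _ (hal a ha).1).1, ?_⟩
      rw [← (T.ci _ (hal a ha).1).2, ← (hal a ha).2, mul_inv_rev, ii]; group
    obtain ⟨a1, e1⟩ := step g hg'
    obtain ⟨a2, e2'⟩ := step _ a1
    obtain ⟨a3, e3'⟩ := step _ a2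
    refine inj (T.mult k hk _ a3).1 (T.mult g hg' k hk).1 ?_
    rw [(T.mult k hk _ a3).2, (T.mult g hg' k hk).2, e3', e2', e1, ← e3]
    group
  have hinner' : ∀ k < 64, h * ev p D.iW * (h * ev p D.iW) * (h * ev p D.iW) = el p D k →
      D.innerAt (D.img (al g0) (al g1) (al g3)) k = true := by
    intro k hk e3
    have := hinner k hk e3
    simp only [RData.innerAt, List.all_eq_true] at this ⊢
    intro g hg
    have hg' := T.five.1 g hg
    have h1 := (T.ci _ (hal g hg').1).1
    have h2 := (T.ci _ (hal _ h1).1).1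
    rw [alImg g hg', alImg _ h1, alImg _ h2]
    exact this g hg
  refine ⟨al, hal, ?_, alImg, hinner'⟩
  have hc := hout (al g1) (hal _ (hget 1)).1
  simp only [RData.chkCand, List.all_eq_true] at hc
  have hA : al g0 ∈ D.cen := by
    have e := hfix (al g0) (hal _ (hget 0)).1
    have hcd0 : D.cd.at g0 = g0 := Nat.eq_of_beq_eq_true (hccd g0 hc0)
    rw [← alCd g0 (hget 0), hcd0] at e
    simp only [Nat.beq_refl, Bool.not_true, Bool.false_or, Bool.or_eq_true, List.any_eq_true] at e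
    obtain ⟨c, hc', ec⟩ : ∃ c ∈ D.cen, Nat.beq c (al g0) = true := by simpa using e
    exact Nat.eq_of_beq_eq_true ec ▸ hc'
  have hcc := hc (al g0) hA
  have htv : el p D (D.cen.getD 2 0) = t := by
    rw [← C.tval]
    refine transfer C (el_small5 ok ?_) (by decide) htc
    rcases Nat.lt_or_ge 2 D.cen.length with h | h
    · rw [List.getD_eq_getElem _ _ h]; exact T.five.2 _ (List.getElem_mem h)
    · rw [List.getD_eq_default _ _ h]; norm_num
  have hc2lt : D.cen.getD 2 0 < 64 := by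
    rw [← Nat.eq_of_beq_eq_true hc2]; exact (T.mult _ (hget 0) _ (hget 0)).1
  have sq0 : Nat.beq (D.times (al g0) (al g0)) (D.cen.getD 2 0) = true := by
    rw [← alMul _ (hget 0) _ (hget 0), Nat.eq_of_beq_eq_true hc2]
    rw [Nat.beq_eq]
    refine inj (hal _ hc2lt).1 hc2lt ?_
    rw [← (hal _ hc2lt).2, htv, mul_assoc, ← (hy.memH h).1 P.hH, inv_mul_cancel_left]
  have sq1 : Nat.beq (D.times (al g1) (al g1)) D.one = true := by
    rw [← alMul _ (hget 1) _ (hget 1), Nat.eq_of_beq_eq_true hx2, alOne]; exact Nat.beq_refl _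
  simp only [sq0, sq1, Bool.not_true, Bool.false_or, List.all_eq_true, List.mem_range] at hcc
  have hcc3 := hcc (al g3) (hal _ (hget 3)).1
  have sq3 : Nat.beq (D.times (al g3) (al g3)) D.one = true := by
    rw [← alMul _ (hget 3) _ (hget 3), Nat.eq_of_beq_eq_true hy2, alOne]; exact Nat.beq_refl _
  have good : D.goodImg (al g0) (al g1) (al g3) = true := by
    obtain ⟨k, hk, e3⟩ := P.hi
    simp only [RData.goodImg, Bool.and_eq_true, List.all_eq_true, List.any_eq_true, List.mem_range, force_eq]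
    refine ⟨⟨fun g hg => ?_, k, hk, ?_⟩, fun z hz g hg => ?_⟩
    · have hg' := T.five.1 g hg
      rw [alImg _ (T.cs g hg').1, alImg g hg', alImg _ (hal g hg').1, alCs g hg', alAl g hg']
      exact ⟨Nat.beq_refl _, Nat.beq_refl _⟩
    · exact hinner' k hk e3
    · have hg' := T.five.1 g hg
      rw [alImg _ (T.mult z hz g hg').1, alImg z hz, alImg g hg', alMul z hz g hg']
      exact Nat.beq_refl _
  simp only [sq3, good, Bool.not_true, Bool.false_or, List.any_eq_true, decide_eq_true_eq] at hcc3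
  obtain ⟨o, ho, rfl⟩ := hcc3
  exact ho

end Cfsg.Agent.Grp.HSCent
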