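import Cfsg.Agent.Lib.Grp.HSCent.HBase
import Cfsg.Agent.Lib.Grp.HSCent.Cert.HCosData
import Cfsg.Agent.Lib.Grp.HSCent.Cert.Lift01Cert
import Cfsg.Agent.Lib.Grp.HSCent.Cert.Lift10Cert
import Cfsg.Agent.Lib.Grp.HSCent.Cert.Lift11Cert

/-!
# The normalised element of the centraliser
-/

set_option autoImplicit false
set_option maxRecDepth 100000

open Cfsg.Agent.Spor.Cos Cfsg.Agent.Spor.Cos.Triple

namespace Cfsg.Agent.Grp.HSCent

universe u

/-- The other choice of the four letters. -/
def phiW : List (List ℕ) := [[1, 0, 3, 0, 3, 1, 3, 0, 3], [1, 3, 2, 3, 2, 0, 2, 3, 2], [0, 3, 0, 3, 2, 0, 3, 0, 3],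
  [0, 1, 0, 3, 0, 3, 1, 3, 0]]

/-- The four letters in the other choice. -/
def backW : List (List ℕ) := [[1, 0, 3, 0, 3, 1, 3, 0, 3], [1, 2, 3, 2, 0, 2, 3, 2, 3], [0, 3, 0, 3, 2, 0, 3, 0, 3],
  [0, 1, 0, 3, 0, 3, 1, 3, 0]]

/-- The map of the list of 64 under the change of letters. -/
def piR : List ℕ := [6, 35, 2, 27, 4, 29, 0, 45, 18, 31, 10, 47, 60, 13, 56, 52, 33, 17, 8, 25, 62, 51, 58, 23, 30, 19,
  26, 3, 28, 5, 24, 9, 32, 16, 44, 1, 50, 63, 54, 39, 48, 41, 53, 57, 34, 7, 46, 11, 40, 49, 36, 21, 15, 42, 38, 55,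
  14, 43, 22, 59, 12, 61, 20, 37]

/-- The action of the normalised element. -/
noncomputable def alT (a : ℕ) : ℕ := r0.img 46 0 23 a

theorem phi_small : ∀ (s : ℕ), ∀ x ∈ phiW.getD s [], x < 4 := by
  intro s x hx
  rcases Nat.lt_or_ge s phiW.length with h | h
  · rw [List.getD_eq_getElem _ _ h] at hx
    exact Nat.le_of_ble_eq_true (List.all_eq_true.1
      (List.all_eq_true.1 (show phiW.all (fun v => v.all fun x => Nat.blt x 4) = true by decide) _
        (List.getElem_mem h)) x hx)
  · rw [List.getD_eq_default _ _ h] at hx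
    simp at hx

theorem subPhi_small (w : List ℕ) : ∀ x ∈ subW phiW w, x < 4 := by
  intro x hx
  obtain ⟨l, hl, hxl⟩ := List.mem_flatten.1 hx
  obtain ⟨s, -, rfl⟩ := List.mem_map.1 hl
  exact phi_small s x hxl

theorem phi_base : (stgCosBase ++ qCosBase).all (fun w => sameW actQ pts (subW phiW w) [] &&
    sameW actQ pts w []) = true := by decide +kernel

theorem phi_back : ∀ s < 4, (backW.getD s []).all (fun x => Nat.blt x 4) = true ∧
    sameW actQ pts (subW phiW (backW.getD s [])) [s] = true := by decide +kernel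

/-- The change of letters preserves the relations. -/
theorem phi_iff (v w : List ℕ) (hv : ∀ s ∈ v, s < 4) (hw : ∀ s ∈ w, s < 4) :
    ev q0 (subW phiW v) = ev q0 (subW phiW w) ↔ ev q0 v = ev q0 w := by
  set f : ℕ → HS := fun s => ev q0 (phiW.getD s []) with hf
  have fsq : ∀ s, f s * f s = 1 := by
    intro s
    rcases Nat.lt_or_ge s 4 with h | h
    · show ev q0 _ * ev q0 _ = 1
      rw [← ev_append]
      exact eqQ (w := []) ((show ∀ s < 4, sameW actQ pts (phiW.getD s [] ++ phiW.getD s []) [] = true by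
        decide +kernel) s h)
    · show ev q0 _ * ev q0 _ = 1
      rw [List.getD_eq_default _ _ (show phiW.length ≤ s from h)]
      exact mul_one 1
  have hp : ∀ s, (f s, q0 s) * (f s, q0 s) = 1 := fun s => Prod.ext (fsq s) (q0_sq s)
  have base : ∀ r ∈ stgCosBase ++ qCosBase, ev (fun i => (f i, q0 i)) r = 1 := by
    intro r hr
    have := List.all_eq_true.1 phi_base r hr
    simp only [Bool.and_eq_true] at this
    rw [ev_pair, hf, ← ev_subW]
    exact Prod.ext (eqQ (w := []) this.1) (eqQ (w := []) this.2)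
  have hb1 : Bound (fun i => (f i, q0 i)) [0, 1, 2] 168 := by
    refine Bound.step (d := 7) hp Bound.nil stgCos stgCos_checks rfl (by decide +kernel) (base := stgCosBase) ?_
      stgCos_derived
    intro r hr
    rw [(show ∀ x ∈ stgCosBase, x.map (fun i => [0, 1, 2].getD i 7) = x by decide) r hr]
    exact base r (List.mem_append_left _ hr)
  have hb : Bound (fun i => (f i, q0 i)) four (64 * 168) := by
    refine Bound.step (d := 7) hp hb1 qCos qCos_checks rfl (by decide +kernel) (base := qCosBase) ?_ qCos_derived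
    intro r hr
    rw [(show ∀ x ∈ qCosBase, x.map (fun i => four.getD i 7) = x by decide) r hr]
    exact base r (List.mem_append_right _ hr)
  have hle : val q0 (singles four) ≤ val f (singles four) := by
    refine (Subgroup.closure_le _).2 ?_
    rintro _ ⟨w, hw', rfl⟩
    obtain ⟨s, hs, rfl⟩ := List.mem_map.1 hw'
    obtain ⟨h1, h2⟩ := phi_back s (mem_four.1 hs)
    show ev q0 [s] ∈ val f (singles four)
    rw [← eqQ h2, ev_subW]
    exact ev_mem_val _ fun x hx => mem_four.2 (Nat.le_of_ble_eq_true (List.all_eq_true.1 h1 x hx))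
  haveI := (card_le_of_bound hb).1
  have hcard : 64 * 168 ≤ Nat.card (val f (singles four)) :=
    le_trans (by norm_num) (card_four.trans (Subgroup.card_le_of_le hle))
  rw [ev_subW, ev_subW]
  exact ⟨faith' hb hcard (fun s hs => mem_four.2 (hv s hs)) (fun s hs => mem_four.2 (hw s hs)),
    faith hb (by norm_num; exact card_four) (fun s hs => mem_four.2 (hv s hs)) (fun s hs => mem_four.2 (hw s hs))⟩

/-- The check of the map of the list of 64 at an index. -/
noncomputable def piOk (j : ℕ) : Bool :=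
  force (piR.getD j 0) fun k => Nat.blt k 64 &&
    sameW actQ pts (subW phiW (subW lQ (r0.wd j))) (subW lQ (r0.wd k))

theorem pi_chk : ∀ j < 64, piOk j = true := by
  refine of_blocks (size := 32) (b := 2) (by decide) (by decide) fun j hj => ?_
  interval_cases j <;> decide +kernel

theorem pi_words : [r0.dW, r0.sW, r0.iW].all (fun w =>
    sameW actQ pts (subW phiW (subW lQ w)) (subW lQ w)) = true := by decide +kernel

theorem pi_cen : r0.cen.all (fun c => Nat.beq (piR.getD c 0) c) = true := by decide +kernel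

theorem pi_other : Nat.beq (r0.img 46 6 0 (piR.getD 23 0)) (piR.getD 6 0) = false := by decide +kernel

theorem phi_alpha : crossW (phiW.getD 0 []) (r0.wd 52) = true := by decide +kernel

variable {G : Type u} [Group G] {t : G} {H R V M K : Subgroup G}

/-- The element with the wanted action. -/
structure TProp (t : G) (H M : Subgroup G) (p : ℕ → G) (h : G) : Prop where
  hp : HProp t H M p r0 h
  act : ∀ a < 64, alT a < 64 ∧ h⁻¹ * el p r0 a * h = el p r0 (alT a)
  inner : ∀ k < 64, h * ev p r0.iW * (h * ev p r0.iW) * (h * ev p r0.iW) = el p r0 k →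
    r0.innerAt alT k = true

variable [Finite G]

/-- The letters with the wanted action exist. -/
theorem exists_true (hy : Hyp t H R V M K) (f : H →* Equiv.Perm (Fin 5)) (hf : Function.Surjective f)
    (hker : ∀ x : H, f x = 1 ↔ (x : G) ∈ R) :
    ∃ qg h, Conf t R M qg [0] ∧ LConf t H R M (pf qg) r0 ∧ TProp t H M (pf qg) h := by
  obtain ⟨a, b, k0, k1, k2, D⟩ := exists_mdata hy
  obtain ⟨qg, hq | hq⟩ := exists_conf hy D
  swap
  · have C := exists_lconf hy (D := r1) hq r1_ok
    obtain ⟨h, P⟩ := exists_h hy C r1_ok r1_words f hf hker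
    obtain ⟨al, -, hmem, -⟩ := cand hy C r1_ok r1_words r1_nf r1_cand P
    simp at hmem
  have C := exists_lconf hy (D := r0) hq r0_ok
  obtain ⟨h, P⟩ := exists_h hy C r0_ok r0_words f hf hker
  obtain ⟨al, hal, hmem, himg, hin⟩ := cand hy C r0_ok r0_words r0_nf r0_cand P
  have e5 : r0.five.getD 0 0 = 26 ∧ r0.five.getD 1 0 = 23 ∧ r0.five.getD 3 0 = 0 := ⟨rfl, rfl, rfl⟩
  simp only [e5, List.mem_cons, List.not_mem_nil, or_false, trueImg, otherImg, List.cons.injEq, and_true] at hmem
  rcases hmem with ⟨x0, x1, x3⟩ | ⟨x0, x1, x3⟩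
  · simp only [e5, x0, x1, x3] at himg hin
    exact ⟨qg, h, hq, C, P, fun j hj => by rw [alT, himg j hj]; exact hal j hj, hin⟩
  -- change the letters
  simp only [e5, x0, x1, x3] at himg hin
  set qg' : ℕ → G := fun s => ev qg (phiW.getD s []) with hqg
  have evq : ∀ w, ev qg' w = ev qg (subW phiW w) := fun w => (ev_subW phiW w).symm
  have same : ∀ {v w : List ℕ}, (∀ s ∈ v, s < 4) → (∀ s ∈ w, s < 4) → sameW actQ pts v w = true →
      ev qg v = ev qg w := fun {v w} hv hw e => (hq.iff v w hv hw).2 (eqQ e)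
  have iff' : ∀ v w : List ℕ, (∀ s ∈ v, s < 4) → (∀ s ∈ w, s < 4) → (ev qg' v = ev qg' w ↔ ev q0 v = ev q0 w) := by
    intro v w hv hw
    rw [evq, evq, hq.iff _ _ (subPhi_small v) (subPhi_small w), phi_iff v w hv hw]
  have hq' : Conf t R M qg' [0] := by
    refine ⟨fun s => ?_, iff', ?_, ?_, ?_⟩
    · rcases Nat.lt_or_ge s 4 with h' | h'
      · have := (iff' [s, s] [] (by simpa using h') (by simp)).2 (by simp [ev, q0_sq])
        simpa [ev] using this
      · show ev qg _ * ev qg _ = 1
        rw [List.getD_eq_default _ _ (show phiW.length ≤ s from h')]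
        exact mul_one 1
    · refine le_antisymm ((Subgroup.closure_le _).2 ?_) ?_
      · rintro _ ⟨w, -, rfl⟩
        refine ev_mem w fun s _ => ?_
        rw [← hq.top]
        exact ev_mem_val _ fun x hx => mem_four.2 (phi_small s x hx)
      · rw [← hq.top]
        refine (Subgroup.closure_le _).2 ?_
        rintro _ ⟨w, hw, rfl⟩
        obtain ⟨s, hs, rfl⟩ := List.mem_map.1 hw
        obtain ⟨h1, h2⟩ := phi_back s (mem_four.1 hs)
        show ev qg [s] ∈ val qg' (singles four)
        rw [← same (subPhi_small _) (by simpa using mem_four.1 hs) h2, ← evq]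
        exact ev_mem_val _ fun x hx => mem_four.2 (Nat.le_of_ble_eq_true (List.all_eq_true.1 h1 x hx))
    · rw [evq, ← hq.tval]
      exact same (subPhi_small _) (by decide) (by decide +kernel)
    · have e : ev qg' [0] = ev qg (phiW.getD 0 []) := by simp [ev, hqg]
      rw [e, (hq.iff _ (subW lQ (r0.wd 52)) (phi_small 0) (subW_small _)).2
        (by rw [cross_eq phi_alpha, subW_model (el_small5 r0_ok (by norm_num))]), subW_group]
      exact C.Rmem 52 (by norm_num)
  have C' := exists_lconf hy (D := r0) hq' r0_ok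
  have evp : ∀ v, ev (pf qg') v = ev qg (subW phiW (subW lQ v)) := fun v => by rw [← subW_group, evq]
  have hwd : ∀ w ∈ [r0.dW, r0.sW, r0.iW], ev (pf qg') w = ev (pf qg) w := by
    intro w hw
    rw [evp, ← subW_group]
    exact same (subPhi_small _) (subW_small _) (List.all_eq_true.1 pi_words w hw)
  have hel : ∀ j < 64, piR.getD j 0 < 64 ∧ el (pf qg') r0 j = el (pf qg) r0 (piR.getD j 0) := by
    intro j hj
    have := pi_chk j hj
    simp only [piOk, force_eq, Bool.and_eq_true] at this
    refine ⟨Nat.le_of_ble_eq_true this.1, ?_⟩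
    rw [el, el, evp, ← subW_group]
    exact same (subPhi_small _) (subW_small _) this.2
  have hcen : ∀ c ∈ r0.cen, el (pf qg') r0 c = el (pf qg) r0 c := by
    intro c hc
    rw [(hel c ((show ∀ c ∈ r0.cen, c < 64 by decide) c hc)).2,
      Nat.eq_of_beq_eq_true (List.all_eq_true.1 pi_cen c hc)]
  have ed := hwd r0.dW (by simp)
  have es := hwd r0.sW (by simp)
  have ei := hwd r0.iW (by simp)
  have P' : HProp t H M (pf qg') r0 h := by
    refine ⟨P.hH, P.hM, by rw [ed]; exact P.hd, ?_, ?_, ?_⟩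
    · obtain ⟨j, hj, e⟩ := P.hs
      exact ⟨j, hj, by rw [es, hcen j hj]; exact e⟩
    · obtain ⟨j, hj, e⟩ := P.h2
      exact ⟨j, hj, by rw [hcen j hj]; exact e⟩
    · obtain ⟨k, hk, e⟩ := P.hi
      obtain ⟨k', hk', e'⟩ := C'.Rsurj _ (C.Rmem k hk)
      exact ⟨k', hk', by rw [ei]; exact e.trans e'.symm⟩
  obtain ⟨al', hal', hmem', himg', hin'⟩ := cand hy C' r0_ok r0_words r0_nf r0_cand P'
  simp only [e5, List.mem_cons, List.not_mem_nil, or_false, trueImg, otherImg, List.cons.injEq, and_true] at hmem'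
  rcases hmem' with ⟨y0, y1, y3⟩ | ⟨y0, y1, y3⟩
  · simp only [e5, y0, y1, y3] at himg' hin'
    exact ⟨qg', h, hq', C', P', fun j hj => by rw [alT, himg' j hj]; exact hal' j hj, hin'⟩
  · exfalso
    have h23 := hel 23 (by norm_num)
    have e := (hal' 23 (by norm_num)).2
    rw [y1, h23.2, (hel 6 (by norm_num)).2, (hal _ h23.1).2, ← himg _ h23.1] at e
    have := el_inj C r0_ok (by rw [himg _ h23.1]; exact (hal _ h23.1).1) (hel 6 (by norm_num)).1 e
    have hb := pi_other
    rw [this, Nat.beq_refl] at hb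
    exact Bool.noConfusion hb

/-- The letters with an additional one. -/
def ext (p : ℕ → G) (h : G) (s : ℕ) : G := if s = 4 then h else p s

omit [Finite G] in
theorem ev_ext (p : ℕ → G) (h : G) : ∀ w : List ℕ, (∀ s ∈ w, s < 4) → ev (ext p h) w = ev p w
  | [], _ => rfl
  | s :: w, hw => by
    show ext p h s * _ = p s * _
    rw [ext, if_neg (by have := hw s (List.mem_cons_self ..); omega),
      ev_ext p h w fun x hx => hw x (List.mem_cons_of_mem _ hx)]

/-- The relations of the element outside. -/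
noncomputable def actW (u k : List ℕ) : List (List ℕ) :=
  r0.five.map (fun a => [4] ++ r0.wd a ++ ([4] ++ (r0.wd (alT a)).reverse)) ++
    [[4] ++ r0.dW ++ ([4] ++ r0.dW.reverse), [4, 0, 4] ++ ([0] ++ u).reverse, [4, 1, 4, 1, 4, 1] ++ k.reverse]

theorem base_split : hCosBase = hCosBase.take 4 ++ actW [] (r0.wd 26) ∧
    lift01Base = hCosBase.take 4 ++ actW [] (r0.wd 26 ++ r0.wd 26) ∧
    lift10Base = hCosBase.take 4 ++ actW (r0.wd 26) (r0.wd 26) ∧
    lift11Base = hCosBase.take 4 ++ actW (r0.wd 26) (r0.wd 26 ++ r0.wd 26) := by decide +kernel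

theorem base_low : (hCosBase.take 4).all (fun w => (w.all fun s => Nat.blt s 4) && sameW actL pts w []) = true := by
  decide +kernel

/-- The table of the changes by central elements. -/
noncomputable def normOk (u k m : ℕ) : Bool :=
  (fun (m' z : ℕ) (φ : ℕ → ℕ) =>
    Nat.beq (r0.times m m') r0.one && Nat.beq (r0.times (r0.times r0.one (alT m)) m) r0.one &&
      ([13, 26].any fun c => Nat.beq (r0.times (r0.times (r0.cs.at m') u) m) c) &&
      ([26, 49].any fun c => Nat.beq (r0.times (r0.times (r0.times k (φ (φ z))) (φ z)) z) c))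
    (r0.power m 3) (r0.ci.at m) (fun y => r0.ci.at (alT y))

theorem norm_chk : r0.cen.all (fun u => r0.cen.all fun k => r0.cen.any fun m => normOk u k m) = true := by
  decide +kernel

theorem inner_chk : (List.range 64).all (fun k => !(r0.innerAt alT k) || r0.cen.any fun c => Nat.beq c k) = true := by
  decide +kernel

theorem square_chk : r0.cen.all (fun j => !(Nat.beq (alT j) j) || [13, 49].any fun c => Nat.beq c j) = true := by
  decide +kernel

theorem cube_chk : r0.cen.all (fun k => sameW actL pts ((r0.wd k ++ [1]) ++ (r0.wd k ++ [1])) []) = true := by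
  decide +kernel

theorem sl_chk : ∀ i < 96, chkClosedList actL pts 10 slU slK slStep slG 96 i = true := by
  refine of_blocks (size := 96) (b := 1) (by decide) (by decide) fun j hj => ?_
  interval_cases j; decide +kernel

theorem sl_moves : (List.range 96).all (fun i => !(agree actL pts tL (decWord 10 (slU.at i))) &&
    (decWord 10 (slU.at i)).all fun s => Nat.blt s 6) = true := by
  decide +kernel

omit [Finite G] in
/-- The involution is outside the list of 96. -/
theorem t_notMem {p : ℕ → G} {D : RData} (C : LConf t H R M p D) : t ∉ val p slG := by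
  intro ht
  have key : ∀ y ∈ val p slG, ∃ w : List ℕ, (∀ s ∈ w, s < 4) ∧ ev p w = y ∧ ev l0 w ∈ val l0 slG := by
    intro y hy
    refine Subgroup.closure_induction (p := fun y _ => ∃ w : List ℕ, (∀ s ∈ w, s < 4) ∧ ev p w = y ∧
      ev l0 w ∈ val l0 slG) ?_ ⟨[], by simp, rfl, one_mem _⟩ ?_ ?_ hy
    · rintro _ ⟨w, hw, rfl⟩
      exact ⟨w, (show ∀ v ∈ slG, ∀ s ∈ v, s < 4 by decide) w hw, rfl, mem_val hw⟩
    · rintro _ _ _ _ ⟨v, hv, rfl, ev'⟩ ⟨w, hw, rfl, ew⟩
      exact ⟨v ++ w, fun s hs => (List.mem_append.1 hs).elim (hv s) (hw s), ev_append p v w,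
        by rw [ev_append]; exact mul_mem ev' ew⟩
    · rintro _ _ ⟨v, hv, rfl, ev'⟩
      exact ⟨v.reverse, fun s hs => hv s (List.mem_reverse.1 hs), ev_rev C.sq v,
        by rw [ev_rev l0_sq]; exact inv_mem ev'⟩
  obtain ⟨w, hw, e, em⟩ := key t ht
  have e0 := (C.iff tL w (by decide) (five_of_four hw)).1 (C.tval.trans e.symm)
  obtain ⟨i, hi, ei⟩ := (closedList (g := l0) homL pts_ltL detL sl_chk (i0 := slOne) (by decide)
    (eqL (w := []) (by decide +kernel))).1 _ em
  have hm := List.all_eq_true.1 sl_moves i (List.mem_range.2 hi)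
  simp only [Bool.and_eq_true, Bool.not_eq_true', List.all_eq_true] at hm
  have := agreeL (v := tL) (by decide) (fun s hs => Nat.le_of_ble_eq_true (hm.2 s hs)) (e0.trans ei.symm)
  rw [hm.1] at this
  exact Bool.noConfusion this

omit [Finite G] in
theorem lift_false {p : ℕ → G} {D : RData} (C : LConf t H R M p D) {h : G} (hh : h * h = 1) (L : Log)
    {base : List (List ℕ)} (hsub : L.sub = slG) (hn : L.n = 5) (hd : ∀ i, i + 1 < L.M → L.chkDef i = true)
    (hf : ∀ i, L.M ≤ i + 1 → i < L.nF → ∃ J, L.chkFact i J = true)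
    (hder : L.rels.all (derivedOk L.n base) = true) (hbase : ∀ w ∈ base, ev (ext p h) w = 1) {cnt N : ℕ}
    (hloop : L.walk L.nF 0 cnt N 0 tL = true) : False := by
  have hs : ∀ s < L.n, ext p h s * ext p h s = 1 := fun s _ => by
    rw [ext]; split_ifs <;> first | exact hh | exact C.sq s
  refine t_notMem C ?_
  have := L.loop_mem (g := ext p h) (H := val p slG) hs hd hf
    (fun r hr => ev_derived hs hbase (List.all_eq_true.1 hder r hr))
    (fun w hw => by
      rw [hsub] at hw
      rw [ev_ext p h w ((show ∀ v ∈ slG, ∀ s ∈ v, s < 4 by decide) w hw)]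
      exact mem_val hw) hloop
  rwa [ev_ext p h tL (by decide), C.tval] at this

/-- The normalised element. -/
structure HConf (t : G) (H R M : Subgroup G) (qg : ℕ → G) (h : G) : Prop where
  conf : Conf t R M qg [0]
  lconf : LConf t H R M (pf qg) r0
  hH : h ∈ H
  hM : h ∉ M
  sq : h * h = 1
  base : ∀ w ∈ hCosBase, ev (ext (pf qg) h) w = 1

/-- The normalised element exists. -/
theorem exists_hconf (hy : Hyp t H R V M K) (f : H →* Equiv.Perm (Fin 5)) (hf : Function.Surjective f)
    (hker : ∀ x : H, f x = 1 ↔ (x : G) ∈ R) : ∃ qg h, HConf t H R M qg h := by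
  obtain ⟨qg, h, hq, C, P⟩ := exists_true hy f hf hker
  set p := pf qg with hp
  have T := tables C r0_ok
  obtain ⟨d4, s4, i4⟩ := T.small
  obtain ⟨u, hu, es⟩ := P.hp.hs
  obtain ⟨j, hj, e2⟩ := P.hp.h2
  obtain ⟨k, hk, e3⟩ := P.hp.hi
  have l5 := fun {w : List ℕ} (h' : ∀ s ∈ w, s < 4) => five_of_four h'
  have k_cen : k ∈ r0.cen := by
    have := List.all_eq_true.1 inner_chk k (List.mem_range.2 hk)
    rw [P.inner k hk e3] at this
    simpa using this
  have hc64 : ∀ c ∈ r0.cen, c < 64 := T.five.2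
  have si : (ev p r0.sW)⁻¹ = ev p r0.sW := inv_eq_of_mul_eq_one_right (by
    rw [← ev_append]
    exact transfer C (fun s hs => (List.mem_append.1 hs).elim (l5 s4 s) (l5 s4 s)) (w := []) (by simp)
      (by decide +kernel))
  have ii : ev p r0.iW * ev p r0.iW = 1 := by
    rw [← ev_append]
    exact transfer C (fun s hs => (List.mem_append.1 hs).elim (l5 i4 s) (l5 i4 s)) (w := []) (by simp)
      (by decide +kernel)
  set i := ev p r0.iW with hi
  -- the square is trivial
  have hh : h * h = 1 := by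
    have hfix : alT j = j := el_inj C r0_ok (P.act j (hc64 j hj)).1 (hc64 j hj) (by
      rw [← (P.act j (hc64 j hj)).2, ← e2]; group)
    have hj' := List.all_eq_true.1 square_chk j hj
    rw [hfix, Nat.beq_refl] at hj'
    simp only [Bool.not_true, Bool.false_or, List.any_cons, List.any_nil, Bool.or_false, Bool.or_eq_true] at hj'
    rcases hj' with e | e
    · rw [e2, ← Nat.eq_of_beq_eq_true e]
      exact T.one.2
    exfalso
    have ht : el p r0 49 = t := by
      rw [← C.tval]
      exact transfer C (el_small5 r0_ok (by norm_num)) (by decide) (by decide +kernel)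
    rw [← Nat.eq_of_beq_eq_true e, ht] at e2
    have hinv : h⁻¹ = h * t := inv_eq_of_mul_eq_one_right (by rw [← mul_assoc, e2, hy.tt])
    set r := el p r0 k with hr
    have hri : r * i * (r * i) = 1 := by
      have hc := List.all_eq_true.1 cube_chk k k_cen
      have e' : r * i = ev p (r0.wd k ++ [1]) := by rw [ev_append]; rfl
      rw [e', ← ev_append]
      exact transfer C (fun s hs => by
        simp only [List.mem_append, List.mem_singleton] at hs
        rcases hs with (a | a) | (a | a)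
        exacts [el_small5 r0_ok hk s a, by omega, el_small5 r0_ok hk s a, by omega]) (w := []) (by simp) hc
    have hH' : ∀ y ∈ H, y * t = t * y := fun y => (hy.memH y).1
    have iH : i ∈ H := ev_mem _ fun s hs => C.comm s (i4 s hs)
    have ct : r * i * t = t * (r * i) := hH' _ (mul_mem (hy.RH (C.Rmem k hk)) iH)
    have conj : h * i * h * (h * i)⁻¹ = r * i * t := by
      have ih : i⁻¹ = i := inv_eq_of_mul_eq_one_right ii
      rw [mul_inv_rev, ih, hinv, ← e3]
      calc h * i * h * (i * (h * t)) = h * i * h * i * h * (i * i) * t := by rw [ii]; group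
        _ = _ := by group
    refine hy.tne ?_
    calc t = h * i * (t * (h * i)⁻¹) := by
          rw [← mul_assoc, hH' _ (mul_mem P.hp.hH iH), mul_inv_cancel_right]
      _ = h * i * h * (h * i)⁻¹ * (h * i * h * (h * i)⁻¹) := by rw [← e2]; group
      _ = r * i * t * (r * i * t) := by rw [conj]
      _ = r * i * (t * (r * i)) * t := by group
      _ = r * i * (r * i * t) * t := by rw [← ct]
      _ = r * i * (r * i) * (t * t) := by group
      _ = 1 := by rw [hri, hy.tt, one_mul]
  -- normalise by the centre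
  obtain ⟨m, hm, hmok⟩ := List.any_eq_true.1 (List.all_eq_true.1 (List.all_eq_true.1 norm_chk u hu) k k_cen)
  simp only [normOk, Bool.and_eq_true] at hmok
  obtain ⟨⟨⟨hmi, hm2⟩, hmu⟩, hmk⟩ := hmok
  have hm64 := hc64 m hm
  set x := el p r0 m with hx
  have xR : x ∈ R := C.Rmem m hm64
  have pow3 : r0.power m 3 < 64 := (T.mult _ (T.mult _ (T.mult _ T.one.1 m hm64).1 m hm64).1 m hm64).1
  have xi : x⁻¹ = el p r0 (r0.power m 3) := inv_eq_of_mul_eq_one_right (by
    rw [← (T.mult m hm64 _ pow3).2, Nat.eq_of_beq_eq_true hmi, T.one.2])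
  have hxc : ∀ r ∈ R, r * x = x * r := centre C r0_ok r0_words hm
  have hact : ∀ a < 64, (h * x)⁻¹ * el p r0 a * (h * x) = el p r0 (alT a) := by
    intro a ha
    rw [show (h * x)⁻¹ * el p r0 a * (h * x) = x⁻¹ * (h⁻¹ * el p r0 a * h) * x by group, (P.act a ha).2,
      mul_assoc, show el p r0 (alT a) * x = x * el p r0 (alT a) from hxc _ (C.Rmem _ (P.act a ha).1),
      inv_mul_cancel_left]
  have hd' : (h * x)⁻¹ * ev p r0.dW * (h * x) = ev p r0.dW := by
    have := (T.cd m hm64).2
    rw [(show ∀ c ∈ r0.cen, r0.cd.at c = c by decide +kernel) m hm, ← hx] at this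
    have hdh := P.hp.hd
    calc _ = x⁻¹ * (h⁻¹ * ev p r0.dW * h) * x := by group
      _ = x⁻¹ * ev p r0.dW * x := by rw [hdh]
      _ = x⁻¹ * ev p r0.dW * ((ev p r0.dW)⁻¹ * x * ev p r0.dW) := by rw [this]
      _ = ev p r0.dW := by group
  have hsq : h * x * (h * x) = 1 := by
    have hm2' := Nat.eq_of_beq_eq_true hm2
    obtain ⟨a1, a2⟩ := T.mult _ T.one.1 _ (P.act m hm64).1
    calc h * x * (h * x) = h * h * (h⁻¹ * x * h) * x := by group
      _ = el p r0 (r0.times (r0.times r0.one (alT m)) m) := by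
        rw [(T.mult _ a1 m hm64).2, a2, T.one.2, hh, (P.act m hm64).2]
      _ = 1 := by rw [hm2', T.one.2]
  have hxM : h * x ∉ M := fun hm' => P.hp.hM (by
    have xM : x ∈ M := ev_mem _ fun s hs => C.mM s (el_small5 r0_ok hm64 s hs)
    have := mul_mem hm' (inv_mem xM)
    rwa [mul_inv_cancel_right] at this)
  obtain ⟨u', hu', esu⟩ : ∃ u' ∈ [13, 26], (h * x)⁻¹ * ev p r0.sW * (h * x) = ev p r0.sW * el p r0 u' := by
    obtain ⟨c, hc, ec⟩ := List.any_eq_true.1 hmu
    refine ⟨c, hc, ?_⟩
    have hcs := T.cs _ pow3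
    obtain ⟨b1, b2⟩ := T.mult _ hcs.1 u (hc64 u hu)
    rw [← Nat.eq_of_beq_eq_true ec, (T.mult _ b1 m hm64).2, b2, ← hcs.2, ← xi, ← hx]
    calc (h * x)⁻¹ * ev p r0.sW * (h * x) = x⁻¹ * (h⁻¹ * ev p r0.sW * h) * x := by group
      _ = x⁻¹ * (ev p r0.sW * el p r0 u) * x := by rw [es]
      _ = ev p r0.sW * ((ev p r0.sW)⁻¹ * x⁻¹ * ev p r0.sW * el p r0 u * x) := by group
      _ = _ := by rw [si]
  obtain ⟨k', hk', e3'⟩ : ∃ k' ∈ [26, 49], h * x * i * (h * x * i) * (h * x * i) = el p r0 k' := by
    obtain ⟨c, hc, ec⟩ := List.any_eq_true.1 hmk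
    refine ⟨c, hc, ?_⟩
    have phi : ∀ a < 64, r0.ci.at (alT a) < 64 ∧
        el p r0 (r0.ci.at (alT a)) = (h * i)⁻¹ * el p r0 a * (h * i) := by
      intro a ha
      refine ⟨(T.ci _ (P.act a ha).1).1, ?_⟩
      rw [← (T.ci _ (P.act a ha).1).2, ← (P.act a ha).2, ← hi, mul_inv_rev,
        inv_eq_of_mul_eq_one_right ii]
      group
    obtain ⟨z0, hz⟩ := T.ci m hm64
    obtain ⟨z1, hz1⟩ := phi _ z0
    obtain ⟨z2, hz2⟩ := phi _ z1
    obtain ⟨b1, b2⟩ := T.mult k hk _ z2
    obtain ⟨b3, b4⟩ := T.mult _ b1 _ z1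
    rw [← Nat.eq_of_beq_eq_true ec, (T.mult _ b3 _ z0).2, b4, b2, hz2, hz1, ← e3, ← hz, ← hi, ← hx]
    calc h * x * i * (h * x * i) * (h * x * i) = h * (i * i) * x * i * (h * (i * i) * x * i) *
          (h * (i * i) * x * i) := by rw [ii, mul_one]
      _ = _ := by group
  refine ⟨qg, h * x, hq, C, mul_mem P.hp.hH (hy.RH xR), hxM, hsq, ?_⟩
  have hxi : (h * x)⁻¹ = h * x := inv_eq_of_mul_eq_one_right hsq
  -- the words of the certificates
  have low : ∀ w ∈ hCosBase.take 4, ev (ext p (h * x)) w = 1 := by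
    intro w hw
    have := List.all_eq_true.1 base_low w hw
    simp only [Bool.and_eq_true, List.all_eq_true] at this
    have hl : ∀ s ∈ w, s < 4 := fun s hs => Nat.le_of_ble_eq_true (this.1 s hs)
    rw [ev_ext _ _ _ hl]
    exact transfer C (l5 hl) (w := []) (by simp) this.2
  have hbase : ∀ (v v' : List ℕ), (∀ s ∈ v, s < 4) → (∀ s ∈ v', s < 4) → ev p v = el p r0 u' →
      ev p v' = el p r0 k' → ∀ w ∈ hCosBase.take 4 ++ actW v v', ev (ext p (h * x)) w = 1 := by
    intro v v' hv hv' ev1 ev2 w hw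
    rcases List.mem_append.1 hw with hw | hw
    · exact low w hw
    have conjW : ∀ A B : List ℕ, (∀ s ∈ A, s < 4) → (∀ s ∈ B, s < 4) →
        (h * x)⁻¹ * ev p A * (h * x) = ev p B → ev (ext p (h * x)) ([4] ++ A ++ ([4] ++ B.reverse)) = 1 := by
      intro A B hA hB e
      rw [ev_append, ev_append, ev_append, ev_ext _ _ A hA,
        ev_ext _ _ B.reverse (fun s hs => hB s (List.mem_reverse.1 hs)), ev_rev C.sq, ← e,
        show ev (ext p (h * x)) [4] = h * x by simp [ev, ext], hxi]
      group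
    simp only [actW, List.mem_append, List.mem_map, List.mem_cons, List.not_mem_nil, or_false] at hw
    rcases hw with ⟨a, ha, rfl⟩ | rfl | rfl | rfl
    · exact conjW _ _ (el_small r0_ok (T.five.1 a ha)) (el_small r0_ok (P.act a (T.five.1 a ha)).1)
        (hact a (T.five.1 a ha))
    · exact conjW _ _ d4 d4 hd'
    · have := conjW r0.sW ([0] ++ v) s4 (by
        intro s hs; rcases List.mem_append.1 hs with a | a
        · simp only [List.mem_singleton] at a; omega
        · exact hv s a) (by rw [ev_append, ev1]; exact esu)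
      exact this
    · rw [ev_append, ev_ext _ _ v'.reverse (fun s hs => hv' s (List.mem_reverse.1 hs)), ev_rev C.sq, ev2, ← e3',
        show ev (ext p (h * x)) [4, 1, 4, 1, 4, 1] = h * x * i * (h * x * i) * (h * x * i) by
          simp [ev, ext, hi, r0, mul_assoc], mul_inv_cancel]
  have e26 : ev p (r0.wd 26 ++ r0.wd 26) = el p r0 49 := by
    rw [ev_append, show (49 : ℕ) = r0.times 26 26 by decide +kernel, (T.mult 26 (by norm_num) 26 (by norm_num)).2]
    rfl
  have s26 : ∀ s ∈ r0.wd 26 ++ r0.wd 26, s < 4 := fun s hs =>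
    (List.mem_append.1 hs).elim (el_small r0_ok (by norm_num) s) (el_small r0_ok (by norm_num) s)
  have sub26 := el_small r0_ok (i := 26) (by norm_num)
  have e1 : ev p [] = el p r0 13 := T.one.2.symm
  simp only [List.mem_cons, List.not_mem_nil, or_false] at hu' hk'
  rcases hu' with rfl | rfl <;> rcases hk' with rfl | rfl
  · rw [base_split.1]
    exact hbase [] _ (by simp) sub26 e1 rfl
  · refine (lift_false C hsq lift01 rfl rfl lift01_defs lift01_facts lift01_derived ?_ lift01_loop).elim
    rw [base_split.2.1]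
    exact hbase [] _ (by simp) s26 e1 e26
  · refine (lift_false C hsq lift10 rfl rfl lift10_defs lift10_facts lift10_derived ?_ lift10_loop).elim
    rw [base_split.2.2.1]
    exact hbase _ _ sub26 sub26 rfl rfl
  · refine (lift_false C hsq lift11 rfl rfl lift11_defs lift11_facts lift11_derived ?_ lift11_loop).elim
    rw [base_split.2.2.2]
    exact hbase _ _ sub26 s26 rfl e26

end Cfsg.Agent.Grp.HSCent
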