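import Cfsg.Agent.Lib.Grp.HSCent.Model
import Cfsg.Agent.Lib.Grp.HSCent.RData

/-!
# Checks of the tables of the subgroups of order 64
-/

set_option autoImplicit false
set_option maxRecDepth 100000
set_option maxHeartbeats 4000000

open Cfsg.Agent.Spor.Cos Cfsg.Agent.Spor.Cos.Triple

namespace Cfsg.Agent.Grp.HSCent

/-- The involution in the first alphabet. -/
def tW1 : List ℕ := [1, 0, 3, 0, 3, 1]

/-- The involution in the second alphabet. -/
def tL : List ℕ := [0, 3, 0, 3, 0, 3, 0, 3]

/-- Seven words moving the involution to seven places. -/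
def orbitW : List (List ℕ) := [[], [1], [1, 2], [1, 2, 0], [1, 2, 1], [1, 2, 0, 2], [1, 2, 1, 0]]

/-- A word of the first alphabet is one of the second. -/
noncomputable def crossW (v w : List ℕ) : Bool :=
  (v.all fun x => Nat.blt x 4) && (w.all fun x => Nat.blt x 6) &&
    pts.all fun p => Nat.beq (actQ.go v p) (actL.go w p)

theorem cross_eq {v w : List ℕ} (h : crossW v w = true) : ev q0 v = ev l0 w := by
  simp only [crossW, Bool.and_eq_true, List.all_eq_true] at h
  refine (inv_mul_eq_one.1 (HSOut.det _ fun p hp => ?_)).symm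
  rw [map_mul, map_inv, Equiv.Perm.mul_apply, Equiv.Perm.inv_eq_iff_eq]
  refine Fin.ext ?_
  exact (homQ.apply_ev v (fun x hx => Nat.le_of_ble_eq_true (h.1.1 x hx)) p).trans
    ((Nat.eq_of_beq_eq_true (h.2 _ hp)).trans
      (homL.apply_ev w (fun x hx => Nat.le_of_ble_eq_true (h.1.2 x hx)) p).symm)

namespace RData

/-- An element of the list. -/
noncomputable def wd (D : RData) (i : ℕ) : List ℕ := decWord 10 (D.U.at i)

/-- The letters below four. -/
def small (w : List ℕ) : Bool := w.all fun x => Nat.blt x 4

/-- The checks of the generators and of the short words. -/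
noncomputable def chkTop (D : RData) : Bool :=
  small D.dW && small D.sW && small D.iW && (D.five.all fun j => Nat.blt j 64) &&
    (D.cen.all fun j => Nat.blt j 64) && Nat.blt D.one 64 && sameW actL pts (D.wd D.one) [] &&
    (D.reps.all fun w => w.all fun x => Nat.blt x 3) && Nat.beq D.reps.length 24 &&
    D.gens.all fun o => small o.2 && (o.1.all fun x => Nat.blt x 4) && crossW (o.1 ++ (D.aW ++ o.1.reverse)) o.2 &&
      sameW actQ pts (o.1 ++ tW1) (tW1 ++ o.1)

/-- The checks of an element. -/
noncomputable def chkEl (D : RData) (i : ℕ) : Bool :=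
  small (D.wd i) && Nat.beq (imKey actL (D.wd i) pts) (D.K.at i) &&
    (Nat.ble 64 (i + 1) || Nat.blt (D.K.at i) (D.K.at (i + 1))) &&
    (fun P : List ℕ => (P.all fun x => Nat.blt x D.gens.length) &&
      sameW actL pts (subW (D.gens.map Prod.snd) P) (D.wd i)) (decWord 16 (D.path.at i)) &&
    Nat.blt (D.cd.at i) 64 && sameW actL pts (D.dW.reverse ++ (D.wd i ++ D.dW)) (D.wd (D.cd.at i)) &&
    Nat.blt (D.cs.at i) 64 && sameW actL pts (D.sW ++ (D.wd i ++ D.sW)) (D.wd (D.cs.at i)) &&
    Nat.blt (D.ci.at i) 64 && sameW actL pts (D.iW ++ (D.wd i ++ D.iW)) (D.wd (D.ci.at i)) &&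
    (fun z : List ℕ => !(agree actL pts (z ++ (z ++ z)) []) ||
      force (D.dfix.at i) fun k => !(Nat.beq k 0) && Nat.ble k 64 &&
        sameW actL pts ((D.wd (k - 1)).reverse ++ (z ++ D.wd (k - 1))) D.dW) (D.dW ++ D.wd i)

/-- The checks of the products with one element. -/
noncomputable def chkMul (D : RData) (i : ℕ) : Bool :=
  (List.range 64).all fun j => force (D.mul.at (64 * i + j)) fun k =>
    Nat.blt k 64 && sameW actL pts (D.wd i ++ D.wd j) (D.wd k)

/-- The checks of an element of the normaliser. -/
noncomputable def chkCov (D : RData) (i : ℕ) : Bool :=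
  force (D.cov.at i) fun E => Nat.blt (E / 64) 24 &&
    sameW actL pts (decWord 24 (blU.at i)) (D.wd (E % 64) ++ subW [D.dW, D.sW, D.iW] (D.reps.getD (E / 64) []))

/-- All checks. -/
structure Ok (D : RData) : Prop where
  top : D.chkTop = true
  el : ∀ i < 64, D.chkEl i = true
  mult : ∀ i < 64, D.chkMul i = true
  cover : ∀ i < 1536, D.chkCov i = true

end RData

theorem r0_el : ∀ i < 64, r0.chkEl i = true := by
  refine of_blocks (size := 32) (b := 2) (by decide) (by decide) fun j hj => ?_
  interval_cases j <;> decide +kernel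

theorem r1_el : ∀ i < 64, r1.chkEl i = true := by
  refine of_blocks (size := 32) (b := 2) (by decide) (by decide) fun j hj => ?_
  interval_cases j <;> decide +kernel

theorem r0_mult : ∀ i < 64, r0.chkMul i = true := by
  refine of_blocks (size := 16) (b := 4) (by decide) (by decide) fun j hj => ?_
  interval_cases j <;> decide +kernel

theorem r1_mult : ∀ i < 64, r1.chkMul i = true := by
  refine of_blocks (size := 16) (b := 4) (by decide) (by decide) fun j hj => ?_
  interval_cases j <;> decide +kernel

theorem r0_cover : ∀ i < 1536, r0.chkCov i = true := by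
  refine of_blocks (size := 256) (b := 6) (by decide) (by decide) fun j hj => ?_
  interval_cases j <;> decide +kernel

theorem r1_cover : ∀ i < 1536, r1.chkCov i = true := by
  refine of_blocks (size := 256) (b := 6) (by decide) (by decide) fun j hj => ?_
  interval_cases j <;> decide +kernel

theorem r0_ok : r0.Ok := ⟨by decide +kernel, r0_el, r0_mult, r0_cover⟩

theorem r1_ok : r1.Ok := ⟨by decide +kernel, r1_el, r1_mult, r1_cover⟩

theorem tL_cross : crossW tW1 tL = true := by decide +kernel

theorem orbit_nodup : ((orbitW.map fun w => imKey actQ (w.reverse ++ (tW1 ++ w)) pts).Nodup) := by decide +kernel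

theorem orbit_small : orbitW.all (fun w => w.all fun x => Nat.blt x 4) = true := by decide

theorem bl_comm : ∀ s < 4, sameW actL pts ([s] ++ tL) (tL ++ [s]) = true := by decide +kernel

theorem m_moves : agree actL pts ([4] ++ tL) (tL ++ [4]) = false := by decide +kernel

end Cfsg.Agent.Grp.HSCent
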