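import Cfsg.Agent.Lib.Grp.HSCent.MFaith
import Cfsg.Agent.Lib.Grp.HSCent.RCheck

/-!
# The intersection of the centraliser with the two-local subgroup
-/

set_option autoImplicit false
set_option maxRecDepth 100000

open Cfsg.Agent.Spor.Cos Cfsg.Agent.Spor.Cos.Triple

namespace Cfsg.Agent.Grp.HSCent

universe u

variable {G : Type u} [Group G]

/-- The letters of the second alphabet in the group, without the last. -/
def pf (qg : ℕ → G) (s : ℕ) : G := ev qg (lQ.getD s [])

/-- The common subgroup read in the model. -/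
structure LConf (t : G) (H R M : Subgroup G) (p : ℕ → G) (D : RData) : Prop where
  sq : ∀ s, p s * p s = 1
  iff : ∀ v w : List ℕ, (∀ s ∈ v, s < 5) → (∀ s ∈ w, s < 5) → (ev p v = ev p w ↔ ev l0 v = ev l0 w)
  tval : ev p tL = t
  comm : ∀ s < 4, p s ∈ H
  surj : ∀ y ∈ M, y ∈ H → ∃ i < 1536, ev p (decWord 24 (blU.at i)) = y
  mM : ∀ s < 5, p s ∈ M
  mH : p 4 ∉ H
  Rmem : ∀ i < 64, ev p (D.wd i) ∈ R
  Rsurj : ∀ r ∈ R, ∃ i < 64, ev p (D.wd i) = r

theorem small_lt {w : List ℕ} (h : RData.small w = true) : ∀ s ∈ w, s < 4 :=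
  fun s hs => Nat.le_of_ble_eq_true (List.all_eq_true.1 h s hs)

theorem five_of_four {w : List ℕ} (h : ∀ s ∈ w, s < 4) : ∀ s ∈ w, s < 5 := fun s hs => (h s hs).trans (by norm_num)

theorem lQ_small : ∀ s : ℕ, ∀ x ∈ lQ.getD s [], x < 4 := by
  intro s x hx
  rcases Nat.lt_or_ge s lQ.length with h | h
  · rw [List.getD_eq_getElem _ _ h] at hx
    exact Nat.le_of_ble_eq_true (List.all_eq_true.1
      (List.all_eq_true.1 (show lQ.all (fun v => v.all fun x => Nat.blt x 4) = true by decide) _
        (List.getElem_mem h)) x hx)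
  · rw [List.getD_eq_default _ _ h] at hx
    simp at hx

theorem subW_small (w : List ℕ) : ∀ x ∈ subW lQ w, x < 4 := by
  intro x hx
  obtain ⟨l, hl, hxl⟩ := List.mem_flatten.1 hx
  obtain ⟨s, -, rfl⟩ := List.mem_map.1 hl
  exact lQ_small s x hxl

theorem subW_model {w : List ℕ} (h : ∀ s ∈ w, s < 5) : ev q0 (subW lQ w) = ev l0 w := by
  induction w with
  | nil => rfl
  | cons s w ih =>
    rw [show subW lQ (s :: w) = lQ.getD s [] ++ subW lQ w from rfl, ev_append, lQ_eval s (h s (List.mem_cons_self ..)),
      ih fun x hx => h x (List.mem_cons_of_mem _ hx)]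
    rfl

theorem subW_group (qg : ℕ → G) (w : List ℕ) : ev qg (subW lQ w) = ev (pf qg) w := ev_subW lQ w

variable [Finite G] {t : G} {H R V M K : Subgroup G} {qg : ℕ → G}

/-- The data of the common subgroup. -/
theorem exists_lconf (hy : Hyp t H R V M K) {D : RData} (C : Conf t R M qg D.aW) (ok : D.Ok) :
    LConf t H R M (pf qg) D := by
  classical
  have psq : ∀ s, pf qg s * pf qg s = 1 := by
    intro s
    rcases Nat.lt_or_ge s 5 with h | h
    · rw [pf, ← ev_append]
      exact (C.iff _ [] (fun x hx => (List.mem_append.1 hx).elim (lQ_small s x) (lQ_small s x)) (by simp)).2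
        (by rw [ev_append, lQ_eval s h, l0_sq]; rfl)
    · rw [pf, List.getD_eq_default _ _ (show lQ.length ≤ s from h)]
      exact mul_one 1
  have iff : ∀ v w : List ℕ, (∀ s ∈ v, s < 5) → (∀ s ∈ w, s < 5) →
      (ev (pf qg) v = ev (pf qg) w ↔ ev l0 v = ev l0 w) := by
    intro v w hv hw
    rw [← subW_group, ← subW_group, C.iff _ _ (subW_small v) (subW_small w), subW_model hv, subW_model hw]
  have inM : ∀ w, (∀ s ∈ w, s < 4) → ev qg w ∈ M := fun w hw => C.top ▸ ev_mem_val _ fun s hs => mem_four.2 (hw s hs)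
  have mM : ∀ s < 5, pf qg s ∈ M := fun s _ => inM _ (lQ_small s)
  have cross : ∀ {v w : List ℕ}, crossW v w = true → (∀ s ∈ w, s < 5) → ev qg v = ev (pf qg) w := by
    intro v w h hw
    rw [← subW_group]
    refine (C.iff _ _ ?_ (subW_small w)).2 (by rw [cross_eq h, subW_model hw])
    simp only [crossW, Bool.and_eq_true, List.all_eq_true] at h
    exact fun x hx => Nat.le_of_ble_eq_true (h.1.1 x hx)
  have tval : ev (pf qg) tL = t := by
    rw [← cross tL_cross (by decide)]
    exact C.tval
  have comm : ∀ s < 4, pf qg s ∈ H := by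
    intro s hs
    rw [hy.memH, ← tval]
    have e := (iff ([s] ++ tL) (tL ++ [s]) ?_ ?_).2 (eqL (bl_comm s hs))
    · simpa [ev_append, ev] using e
    · intro x hx
      rcases List.mem_append.1 hx with h | h
      · simp only [List.mem_singleton] at h; omega
      · exact (show ∀ y ∈ tL, y < 5 by decide) x h
    · intro x hx
      rcases List.mem_append.1 hx with h | h
      · exact (show ∀ y ∈ tL, y < 5 by decide) x h
      · simp only [List.mem_singleton] at h; omega
  have mH : pf qg 4 ∉ H := by
    intro h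
    rw [hy.memH, ← tval] at h
    have e := agreeL (v := [4] ++ tL) (w := tL ++ [4]) (by decide) (by decide)
      ((iff ([4] ++ tL) (tL ++ [4]) (by decide) (by decide)).1 (by simpa [ev_append, ev] using h))
    rw [m_moves] at e
    exact Bool.noConfusion e
  -- the common subgroup
  have hBle : val (pf qg) (singles four) ≤ M ⊓ H := by
    refine (Subgroup.closure_le _).2 ?_
    rintro _ ⟨w, hw, rfl⟩
    obtain ⟨s, hs, rfl⟩ := List.mem_map.1 hw
    rw [show ev (pf qg) [s] = pf qg s by simp [ev]]
    have := mem_four.1 hs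
    exact ⟨mM s (by omega), comm s this⟩
  have hinjB : ∀ i < 1536, ∀ j < 1536, ev (pf qg) (decWord 24 (blU.at i)) = ev (pf qg) (decWord 24 (blU.at j)) → i = j := by
    intro i hi j hj e
    have hl : ∀ k < 1536, ∀ s ∈ decWord 24 (blU.at k), s < 5 := fun k hk => five_of_four
      (fun s hs => Nat.le_of_ble_eq_true (List.all_eq_true.1 (bl_letters k hk) s hs))
    have e0 := (iff _ _ (hl i hi) (hl j hj)).1 e
    have key : ∀ k < 1536, imKey actL (decWord 24 (blU.at k)) pts = blK.at k ∧
        (k + 1 < 1536 → blK.at k < blK.at (k + 1)) := by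
      intro k hk
      have := bl_chk k hk
      simp only [blOk, chkClosedList, force_eq, Bool.and_eq_true, Bool.or_eq_true] at this
      exact ⟨Nat.eq_of_beq_eq_true this.1.1.2, fun h =>
        this.1.2.elim (fun a => absurd (Nat.le_of_ble_eq_true a) (by omega)) Nat.le_of_ble_eq_true⟩
    have hk : imKey actL (decWord 24 (blU.at i)) pts = imKey actL (decWord 24 (blU.at j)) pts := imKey_congr fun p hp =>
      Nat.eq_of_beq_eq_true (by
        have := List.all_eq_true.1 (agreeL (fun s hs => by have := hl i hi s hs; omega)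
          (fun s hs => by have := hl j hj s hs; omega) e0) p hp
        rwa [force_eq] at this)
    rw [(key i hi).1, (key j hj).1] at hk
    have mono : ∀ b, b < 1536 → ∀ a < b, blK.at a < blK.at b := by
      intro b
      induction b with
      | zero => intro _ a ha; omega
      | succ b ih =>
        intro hb a ha
        rcases Nat.lt_or_ge a b with h | h
        · exact (ih (by omega) a h).trans ((key b (by omega)).2 hb)
        · obtain rfl : a = b := by omega
          exact (key a (by omega)).2 hb
    rcases Nat.lt_trichotomy i j with h | h | h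
    · exact absurd hk (mono j hj i h).ne
    · exact h
    · exact absurd hk (mono i hi j h).ne'
  have hupper : Nat.card ↥(M ⊓ H) ≤ 1536 := by
    have hlen : orbitW.length = 7 := rfl
    have hs : ∀ k, ∀ x ∈ orbitW.getD k [], x < 4 := by
      intro k x hx
      rcases Nat.lt_or_ge k orbitW.length with h | h
      · rw [List.getD_eq_getElem _ _ h] at hx
        exact Nat.le_of_ble_eq_true (List.all_eq_true.1 (List.all_eq_true.1 orbit_small _ (List.getElem_mem h)) x hx)
      · rw [List.getD_eq_default _ _ h] at hx; simp at hx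
    let f : Fin 7 × ↥(M ⊓ H) → M := fun p =>
      ⟨p.2 * ev qg (orbitW.getD p.1 []), mul_mem p.2.2.1 (inM _ (hs _))⟩
    have hf : Function.Injective f := by
      rintro ⟨k, x⟩ ⟨l, y⟩ e
      have e' : (x : G) * ev qg (orbitW.getD k []) = y * ev qg (orbitW.getD l []) := congrArg Subtype.val e
      have conj : ∀ (k : Fin 7) (x : ↥(M ⊓ H)), ev qg ((orbitW.getD k []).reverse ++ (tW1 ++ orbitW.getD k [])) =
          ((x : G) * ev qg (orbitW.getD k []))⁻¹ * t * (x * ev qg (orbitW.getD k [])) := by
        intro k x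
        rw [ev_append, ev_append, ev_rev C.sq, show ev qg tW1 = t from C.tval, mul_inv_rev]
        have hx := (hy.memH x).1 x.2.2
        calc _ = (ev qg (orbitW.getD k []))⁻¹ * ((x : G)⁻¹ * (x * t)) * ev qg (orbitW.getD k []) := by group
          _ = _ := by rw [hx]; group
      have hw : ∀ k : Fin 7, ∀ z ∈ (orbitW.getD k []).reverse ++ (tW1 ++ orbitW.getD k []), z < 4 := by
        intro k z hz
        simp only [List.mem_append, List.mem_reverse] at hz
        rcases hz with h | h | h
        · exact hs _ z h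
        · exact (show ∀ y ∈ tW1, y < 4 by decide) z h
        · exact hs _ z h
      have em := (C.iff _ _ (hw k) (hw l)).1 (by rw [conj k x, conj l y, e'])
      have hkey : imKey actQ ((orbitW.getD k []).reverse ++ (tW1 ++ orbitW.getD k [])) pts =
          imKey actQ ((orbitW.getD l []).reverse ++ (tW1 ++ orbitW.getD l [])) pts := imKey_congr fun p hp =>
        Nat.eq_of_beq_eq_true (by
          have := List.all_eq_true.1 (agreeQ (hw k) (hw l) em) p hp
          rwa [force_eq] at this)
      have hkl : (k : ℕ) = l := by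
        refine (List.Nodup.getElem_inj_iff orbit_nodup (hi := by simp [hlen]) (hj := by simp [hlen])).1 ?_
        simp only [List.getElem_map]
        rw [← List.getD_eq_getElem _ [] (by omega), ← List.getD_eq_getElem _ [] (by omega)]
        exact hkey
      obtain rfl : k = l := Fin.ext hkl
      exact Prod.ext rfl (Subtype.ext (mul_right_cancel e'))
    have := Nat.card_le_card_of_injective f hf
    rw [Nat.card_prod, Nat.card_fin, hy.cardM] at this
    omega
  have surj : ∀ y ∈ M, y ∈ H → ∃ i < 1536, ev (pf qg) (decWord 24 (blU.at i)) = y := by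
    intro y hyM hyH
    let f : Fin 1536 → ↥(M ⊓ H) := fun i => ⟨ev (pf qg) (decWord 24 (blU.at i)),
      hBle (ev_mem_val _ fun s hs => mem_four.2 (Nat.le_of_ble_eq_true (List.all_eq_true.1 (bl_letters i i.2) s hs)))⟩
    have hf : Function.Injective f := fun i j e => Fin.ext (hinjB i i.2 j j.2 (congrArg Subtype.val e))
    obtain ⟨i, hi⟩ := (hf.bijective_of_nat_card_le (by rw [Nat.card_fin]; exact hupper)).2 ⟨y, hyM, hyH⟩
    exact ⟨i, i.2, congrArg Subtype.val hi⟩
  -- the subgroup of order 64
  have top := ok.top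
  simp only [RData.chkTop, Bool.and_eq_true, List.all_eq_true] at top
  have hgen : ∀ o ∈ D.gens, ev (pf qg) o.2 ∈ R := by
    intro o ho
    obtain ⟨⟨⟨h2, h1⟩, hc⟩, ht⟩ := top.2 o ho
    rw [← cross hc (five_of_four (small_lt h2)), ev_append, ev_append, ev_rev C.sq]
    have h1' : ∀ x ∈ o.1, x < 4 := fun x hx => Nat.le_of_ble_eq_true (h1 x hx)
    have hH : ev qg o.1 ∈ H := by
      rw [hy.memH, ← show ev qg tW1 = t from C.tval, ← ev_append, ← ev_append]
      refine (C.iff _ _ ?_ ?_).2 (eqQ ht) <;> intro x hx <;> rcases List.mem_append.1 hx with h | h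
      exacts [h1' x h, (show ∀ y ∈ tW1, y < 4 by decide) x h, (show ∀ y ∈ tW1, y < 4 by decide) x h, h1' x h]
    have := hy.Rn _ (inv_mem hH) _ C.alpha
    rwa [inv_inv, mul_assoc] at this
  have hel : ∀ i < 64, RData.small (D.wd i) = true ∧ imKey actL (D.wd i) pts = D.K.at i ∧
      (i + 1 < 64 → D.K.at i < D.K.at (i + 1)) ∧ ev (pf qg) (D.wd i) ∈ R := by
    intro i hi
    have h := ok.el i hi
    simp only [RData.chkEl, Bool.and_eq_true, Bool.or_eq_true, List.all_eq_true] at h
    obtain ⟨⟨⟨⟨⟨⟨⟨⟨⟨⟨hs, hk⟩, hm⟩, hP, hsame⟩, -⟩, -⟩, -⟩, -⟩, -⟩, -⟩, -⟩ := h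
    refine ⟨hs, Nat.eq_of_beq_eq_true hk, fun hlt => hm.elim
      (fun a => absurd (Nat.le_of_ble_eq_true a) (by omega)) Nat.le_of_ble_eq_true, ?_⟩
    have hsub : ∀ x ∈ subW (D.gens.map Prod.snd) (decWord 16 (D.path.at i)), x < 4 := by
      intro x hx
      obtain ⟨l, hl, hxl⟩ := List.mem_flatten.1 hx
      obtain ⟨k, hk', rfl⟩ := List.mem_map.1 hl
      have hlt : k < D.gens.length := Nat.le_of_ble_eq_true (hP k hk')
      rw [List.getD_eq_getElem _ _ (by simpa using hlt), List.getElem_map] at hxl
      exact small_lt (top.2 _ (List.getElem_mem hlt)).1.1.1 x hxl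
    rw [← (iff _ _ (five_of_four hsub) (five_of_four (small_lt hs))).2 (eqL hsame), ev_subW]
    refine ev_mem _ fun k hk' => ?_
    have hlt : k < D.gens.length := Nat.le_of_ble_eq_true (hP k hk')
    rw [List.getD_eq_getElem _ _ (by simpa using hlt), List.getElem_map]
    exact hgen _ (List.getElem_mem hlt)
  refine ⟨psq, iff, tval, comm, surj, mM, mH, fun i hi => (hel i hi).2.2.2, fun r hr => ?_⟩
  let f : Fin 64 → R := fun i => ⟨_, (hel i i.2).2.2.2⟩
  have hf : Function.Injective f := by
    intro i j e
    have e' : ev (pf qg) (D.wd i) = ev (pf qg) (D.wd j) := congrArg Subtype.val e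
    have hi' := small_lt (hel i i.2).1
    have hj' := small_lt (hel j j.2).1
    have e0 := (iff _ _ (five_of_four hi') (five_of_four hj')).1 e'
    have hk : D.K.at i = D.K.at j := by
      rw [← (hel i i.2).2.1, ← (hel j j.2).2.1]
      exact imKey_congr fun p hp => Nat.eq_of_beq_eq_true (by
        have := List.all_eq_true.1 (agreeL (fun s hs => by have := hi' s hs; omega)
          (fun s hs => by have := hj' s hs; omega) e0) p hp
        rwa [force_eq] at this)
    have mono : ∀ b, b < 64 → ∀ a < b, D.K.at a < D.K.at b := by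
      intro b
      induction b with
      | zero => intro _ a ha; omega
      | succ b ih =>
        intro hb a ha
        rcases Nat.lt_or_ge a b with h | h
        · exact (ih (by omega) a h).trans ((hel b (by omega)).2.2.1 hb)
        · obtain rfl : a = b := by omega
          exact (hel a (by omega)).2.2.1 hb
    rcases Nat.lt_trichotomy (i : ℕ) j with h | h | h
    · exact absurd hk (mono j j.2 i h).ne
    · exact Fin.ext h
    · exact absurd hk (mono i i.2 j h).ne'
  obtain ⟨i, hi⟩ := (hf.bijective_of_nat_card_le (by rw [Nat.card_fin, hy.cardR])).2 ⟨r, hr⟩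
  exact ⟨i, i.2, congrArg Subtype.val hi⟩

end Cfsg.Agent.Grp.HSCent
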