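import Cfsg.Agent.Lib.Spor.Cos.HSOut.Main
import Cfsg.Agent.Lib.Grp.HSCent.Data
import Cfsg.Agent.Lib.Grp.HSCent.Lists

/-!
# The configuration inside the group on 100 points
-/

set_option autoImplicit false
set_option maxRecDepth 100000
set_option maxHeartbeats 4000000

open Cfsg.Agent.Spor.Cos Cfsg.Agent.Spor.Cos.Triple

namespace Cfsg.Agent.Grp.HSCent

/-- The group on 100 points. -/
abbrev HS := ↥HSOut.H

/-- The first alphabet. -/
noncomputable def q0 (s : ℕ) : HS := ev HSOut.g (qG.getD s [])

/-- The second alphabet. -/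
noncomputable def l0 (s : ℕ) : HS := ev HSOut.g (lG.getD s [])

/-- The generators of `A` are given by words of the large action. -/
noncomputable def chkLetters (A : Act) (W : List (List ℕ)) (p : ℕ) : Bool :=
  A.chkInv p && (List.range A.n).all fun s =>
    (W.getD s []).all (fun x => Nat.blt x 3) && Nat.beq (HSOut.actA.go (W.getD s []) p) (A.im p s)

theorem hom_of (n : ℕ) (T : Tab) (W : List (List ℕ)) (hW : W.length = n)
    (h : ∀ p < 100, chkLetters ⟨n, 100, T⟩ W p = true) :
    Act.Hom ⟨n, 100, T⟩ (fun s => ev HSOut.g (W.getD s []))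
      (show HS →* Equiv.Perm (Fin (Act.mk n 100 T).N) from HSOut.pi) := by
  simp only [chkLetters, Bool.and_eq_true, List.all_eq_true, List.mem_range] at h
  have hinv : ∀ p < 100, Act.chkInv ⟨n, 100, T⟩ p = true := fun p hp => (h p hp).1
  refine ⟨hinv, fun s => ?_⟩
  by_cases hs : s < n
  · refine Equiv.ext fun p => Fin.ext ?_
    rw [Act.perm_apply _ hinv hs]
    have := (h p p.2).2 s hs
    rw [← Nat.eq_of_beq_eq_true this.2]
    exact HSOut.homA.apply_ev _ (fun x hx => Nat.le_of_ble_eq_true (this.1 x hx)) p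
  · rw [List.getD_eq_default _ _ (by simpa [hW] using Nat.le_of_not_lt hs), Act.perm_out _ _ (Nat.le_of_not_lt hs)]
    exact map_one _

theorem lettersQ : ∀ p < 100, chkLetters actQ qG p = true := by
  refine of_blocks (size := 10) (b := 10) (by decide) (by decide) fun j hj => ?_
  interval_cases j <;> decide +kernel

theorem lettersL : ∀ p < 100, chkLetters actL lG p = true := by
  refine of_blocks (size := 5) (b := 20) (by decide) (by decide) fun j hj => ?_
  interval_cases j <;> decide +kernel

theorem homQ : actQ.Hom q0 (show HS →* Equiv.Perm (Fin actQ.N) from HSOut.pi) :=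
  hom_of 4 actQT qG rfl lettersQ

theorem homL : actL.Hom l0 (show HS →* Equiv.Perm (Fin actL.N) from HSOut.pi) :=
  hom_of 6 actLT lG rfl lettersL

theorem pts_ltQ : ∀ p ∈ pts, p < actQ.N := by decide +kernel

theorem pts_ltL : ∀ p ∈ pts, p < actL.N := by decide +kernel

theorem detQ (y : HS) (h : ∀ q : Fin actQ.N, (q : ℕ) ∈ pts → (show HS →* Equiv.Perm (Fin actQ.N) from HSOut.pi) y q = q) :
    y = 1 :=
  HSOut.det y h

theorem detL (y : HS) (h : ∀ q : Fin actL.N, (q : ℕ) ∈ pts → (show HS →* Equiv.Perm (Fin actL.N) from HSOut.pi) y q = q) :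
    y = 1 :=
  HSOut.det y h

theorem eqQ {v w : List ℕ} (h : sameW actQ pts v w = true) : ev q0 v = ev q0 w := eq_of_sameW homQ detQ h

theorem eqL {v w : List ℕ} (h : sameW actL pts v w = true) : ev l0 v = ev l0 w := eq_of_sameW homL detL h

theorem agreeQ {v w : List ℕ} (hv : ∀ s ∈ v, s < 4) (hw : ∀ s ∈ w, s < 4) (e : ev q0 v = ev q0 w) :
    agree actQ pts v w = true :=
  agree_of_eq (g := q0) homQ pts_ltQ hv hw e

theorem agreeL {v w : List ℕ} (hv : ∀ s ∈ v, s < 6) (hw : ∀ s ∈ w, s < 6) (e : ev l0 v = ev l0 w) :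
    agree actL pts v w = true :=
  agree_of_eq (g := l0) homL pts_ltL hv hw e

theorem q0_sq (s : ℕ) : q0 s * q0 s = 1 :=
  HSOut.pi_injective (by
    rw [map_mul, map_one]
    exact (congrArg₂ (· * ·) (homQ.gen s) (homQ.gen s)).trans (actQ.perm_sq s))

theorem l0_sq (s : ℕ) : l0 s * l0 s = 1 :=
  HSOut.pi_injective (by
    rw [map_mul, map_one]
    exact (congrArg₂ (· * ·) (homL.gen s) (homL.gen s)).trans (actL.perm_sq s))

theorem lQ_eval (s : ℕ) (hs : s < 5) : ev q0 (lQ.getD s []) = l0 s := by
  have hc : ∀ w v : List ℕ, (∀ x ∈ w, x < 4) → (∀ x ∈ v, x < 6) →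
      pts.all (fun p => Nat.beq (actQ.go w p) (actL.go v p)) = true → ev q0 w = ev l0 v := by
    intro w v hw hv h
    refine (inv_mul_eq_one.1 (HSOut.det _ fun p hp => ?_)).symm
    rw [map_mul, map_inv, Equiv.Perm.mul_apply, Equiv.Perm.inv_eq_iff_eq]
    refine Fin.ext ?_
    exact (homQ.apply_ev w hw p).trans
      ((Nat.eq_of_beq_eq_true (List.all_eq_true.1 h _ hp)).trans (homL.apply_ev v hv p).symm)
  have hd : ∀ j < 5, (∀ x ∈ lQ.getD j [], x < 4) ∧
      pts.all (fun p => Nat.beq (actQ.go (lQ.getD j []) p) (actL.go [j] p)) = true := by decide +kernel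
  rw [hc _ [s] (hd s hs).1 (by intro x hx; simp only [List.mem_singleton] at hx; omega) (hd s hs).2]
  simp [ev]

/-- The check of a listed subgroup at an index. -/
noncomputable def stgOk (i : ℕ) : Bool := chkClosedList actQ pts 24 stgU stgK stgStep stgG 168 i

theorem stg_chk : ∀ i < 168, stgOk i = true := by
  refine of_blocks (size := 168) (b := 1) (by decide) (by decide) fun j hj => ?_
  interval_cases j; decide +kernel

/-- The check of the first list of 64 at an index. -/
noncomputable def rl0Ok (i : ℕ) : Bool := chkClosedList actQ pts 24 rl0U rl0K rl0Step rl0G 64 i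

theorem rl0_chk : ∀ i < 64, rl0Ok i = true := by
  refine of_blocks (size := 64) (b := 1) (by decide) (by decide) fun j hj => ?_
  interval_cases j; decide +kernel

/-- The check of the second list of 64 at an index. -/
noncomputable def rl1Ok (i : ℕ) : Bool := chkClosedList actQ pts 24 rl1U rl1K rl1Step rl1G 64 i

theorem rl1_chk : ∀ i < 64, rl1Ok i = true := by
  refine of_blocks (size := 64) (b := 1) (by decide) (by decide) fun j hj => ?_
  interval_cases j; decide +kernel

/-- The check of the list of 1536 at an index. -/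
noncomputable def blOk (i : ℕ) : Bool := chkClosedList actL pts 24 blU blK blStep blG 1536 i

theorem bl_chk : ∀ i < 1536, blOk i = true := by
  refine of_blocks (size := 256) (b := 6) (by decide) (by decide) fun j hj => ?_
  interval_cases j <;> decide +kernel

/-- The check of the list of 7680 at an index. -/
noncomputable def hlOk (i : ℕ) : Bool := chkClosedList actL pts 24 hlU hlK hlStep hlG 7680 i

theorem hl_chk : ∀ i < 7680, hlOk i = true := by
  refine of_blocks (size := 512) (b := 15) (by decide) (by decide) fun j hj => ?_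
  interval_cases j <;> decide +kernel

end Cfsg.Agent.Grp.HSCent
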