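import Cfsg.Agent.Lib.Grp.HSCent.MStep
import Cfsg.Agent.Lib.Grp.HSCent.Model
import Cfsg.Agent.Lib.Grp.HSCent.Cert.StgCosCert
import Cfsg.Agent.Lib.Grp.HSCent.Cert.QCosCert

/-!
# The two-local subgroup has the relations of the model
-/

set_option autoImplicit false
set_option maxRecDepth 100000

open Cfsg.Agent.Spor.Cos Cfsg.Agent.Spor.Cos.Triple

namespace Cfsg.Agent.Grp.HSCent

universe u

/-- The involution as a word. -/
def tQ : List ℕ := [1, 0, 3, 0, 3, 1]

/-- The four letters. -/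
def four : List ℕ := [0, 1, 2, 3]

/-- The letters read in the model. -/
structure Conf {G : Type u} [Group G] (t : G) (R M : Subgroup G) (qf : ℕ → G) (aW : List ℕ) : Prop where
  sq : ∀ s, qf s * qf s = 1
  iff : ∀ v w : List ℕ, (∀ s ∈ v, s < 4) → (∀ s ∈ w, s < 4) → (ev qf v = ev qf w ↔ ev q0 v = ev q0 w)
  top : val qf (singles four) = M
  tval : ev qf tQ = t
  alpha : ev qf aW ∈ R

theorem mem_four {s : ℕ} : s ∈ four ↔ s < 4 := by
  simp only [four, List.mem_cons, List.not_mem_nil, or_false]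
  omega

/-- The matrix of a letter. -/
def letM : ℕ → M3
  | 0 => Am
  | 1 => mm (mm (mm Bm Bm) Am) Bm
  | 2 => mm (mm Bm Am) (mm Bm Bm)
  | 3 => Am
  | _ => one3

/-- The matrix of a word. -/
def matW : List ℕ → M3
  | [] => one3
  | s :: w => mm (letM s) (matW w)

/-- The shift of a word. -/
def vecW : List ℕ → Z3
  | [] => 0
  | s :: w => (if s = 3 then vm (1, 0, 0) (matW w) else 0) + vecW w

/-- The third letter dropped. -/
def down (w : List ℕ) : List ℕ := w.map fun s => if s = 3 then 0 else s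

/-- A code of a vector. -/
def codeZ (x : Z3) : ℕ := x.1.val + 4 * x.2.1.val + 16 * x.2.2.val

/-- The code of the action on the four-group of a listed element. -/
noncomputable def stgCode (i : ℕ) : ℕ :=
  (fun A : M3 => codeZ (A.1 + A.1) + 64 * codeZ (A.2.1 + A.2.1) + 4096 * codeZ (A.2.2 + A.2.2))
    (matW (decWord 24 (stgU.at i)))

theorem stg_nodup : ((List.range 168).map stgCode).Nodup := by decide +kernel

theorem stg_letters : ∀ i < 168, (decWord 24 (stgU.at i)).all (fun s => Nat.blt s 3) = true := by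
  refine of_blocks (size := 168) (b := 1) (by decide) (by decide) fun j hj => ?_
  interval_cases j; decide +kernel

theorem base_vec : qCosBase.all (fun w => (w.all fun s => Nat.blt s 4) && decide (vecW w = 0) &&
    sameW actQ pts (down w) []) = true := by decide +kernel

theorem card_stg : Nat.card (val q0 (singles [0, 1, 2])) = 168 := by
  obtain ⟨-, hc⟩ := closedList (g := q0) homQ pts_ltQ detQ stg_chk (i0 := stgOne) (by decide)
    (eqQ (w := []) (by decide +kernel))
  have e : stgG = singles [0, 1, 2] := rfl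
  rw [← e]
  refine hc fun i hi => ?_
  rw [e]
  refine ev_mem_val _ fun s hs => ?_
  have := Nat.le_of_ble_eq_true (List.all_eq_true.1 (stg_letters i hi) s hs)
  simp only [List.mem_cons, List.not_mem_nil, or_false]
  omega

theorem bl_letters : ∀ i < 1536, (decWord 24 (blU.at i)).all (fun s => Nat.blt s 4) = true := by
  refine of_blocks (size := 512) (b := 3) (by decide) (by decide) fun j hj => ?_
  interval_cases j <;> decide +kernel

theorem card_bl : Nat.card (val l0 (singles four)) = 1536 := by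
  obtain ⟨-, hc⟩ := closedList (g := l0) homL pts_ltL detL bl_chk (i0 := blOne) (by decide)
    (eqL (w := []) (by decide +kernel))
  have e : blG = singles four := rfl
  rw [← e]
  refine hc fun i hi => ?_
  rw [e]
  exact ev_mem_val _ fun s hs => mem_four.2 (Nat.le_of_ble_eq_true (List.all_eq_true.1 (bl_letters i hi) s hs))

theorem val_l0_le : val l0 (singles four) ≤ val q0 (singles four) := by
  refine (Subgroup.closure_le _).2 ?_
  rintro _ ⟨w, hw, rfl⟩
  obtain ⟨s, hs, rfl⟩ := List.mem_map.1 hw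
  show ev l0 [s] ∈ val q0 (singles four)
  rw [show ev l0 [s] = l0 s by simp [ev], ← lQ_eval s (by have := mem_four.1 hs; omega)]
  have hl : lQ.all (fun v => v.all fun x => Nat.blt x 4) = true := by decide
  refine ev_mem_val _ fun x hx => mem_four.2 ?_
  have hsl : s < lQ.length := by have := mem_four.1 hs; simp [lQ]; omega
  rw [List.getD_eq_getElem _ _ hsl] at hx
  exact Nat.le_of_ble_eq_true (List.all_eq_true.1 (List.all_eq_true.1 hl _ (List.getElem_mem hsl)) x hx)

theorem card_four : 10752 ≤ Nat.card (val q0 (singles four)) := by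
  have hmem : ev q0 [0, 1, 2] ∈ val q0 (singles four) :=
    ev_mem_val _ fun s hs => mem_four.2 ((show ∀ x ∈ [0, 1, 2], x < 4 by decide) s hs)
  have h7 : orderOf (ev q0 [0, 1, 2]) = 7 := by
    haveI : Fact (Nat.Prime 7) := ⟨by norm_num⟩
    refine orderOf_eq_prime ?_ fun e => ?_
    · rw [← ev_power]; exact eqQ (w := []) (by decide +kernel)
    · have := agreeQ (v := [0, 1, 2]) (w := []) (by decide) (by simp) e
      revert this
      decide +kernel
  have d1 : 7 ∣ Nat.card (val q0 (singles four)) := by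
    have := orderOf_dvd_natCard (⟨_, hmem⟩ : val q0 (singles four))
    rwa [← Subgroup.orderOf_coe, h7] at this
  have d2 : 1536 ∣ Nat.card (val q0 (singles four)) := card_bl ▸ Subgroup.card_dvd_of_le val_l0_le
  exact Nat.le_of_dvd Nat.card_pos (Nat.Coprime.mul_dvd_of_dvd_of_dvd (by norm_num) d2 d1)

variable {G : Type u} [Group G] {t : G} {H R V M K : Subgroup G} {a b k0 k1 k2 : G}

/-- The letters in the group. -/
def qf (a b k0 : G) : ℕ → G
  | 0 => a
  | 1 => b⁻¹ * a * b
  | 2 => b * a * b⁻¹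
  | 3 => a * k0
  | _ => 1

theorem qf_sq (D : MData t R V M K a b k0 k1 k2) : ∀ s, qf a b k0 s * qf a b k0 s = 1
  | 0 => D.ha
  | 1 => by show b⁻¹ * a * b * (b⁻¹ * a * b) = 1; rw [conj_sq, D.ha]; group
  | 2 => by
    show b * a * b⁻¹ * (b * a * b⁻¹) = 1
    rw [show b * a * b⁻¹ * (b * a * b⁻¹) = b * (a * a) * b⁻¹ by group, D.ha]; group
  | 3 => by
    show a * k0 * (a * k0) = 1
    have e := D.actA (1, 0, 0)
    rw [inv_eq_of_mul_eq_one_right D.ha, kel_e0, show vm (1, 0, 0) Am = -(1, 0, 0) by decide, kel_neg D.crd.tri,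
      kel_e0] at e
    rw [← mul_assoc, e, inv_mul_cancel]
  | _ + 4 => mul_one 1

theorem binv_eq (D : MData t R V M K a b k0 k1 k2) :
    ev (qf a b k0) [0, 0, 1, 2, 0, 1, 2, 0, 1, 2, 0, 1, 2, 0, 1, 2] = b⁻¹ ∧ (a * b⁻¹) ^ 7 = 1 := by
  have bi : b⁻¹ = b * b := inv_eq_of_mul_eq_one_right (by rw [← D.hb, pow_succ', pow_two])
  have h7 : (a * b⁻¹) ^ 7 = 1 := by
    have e : a * b⁻¹ = a * (a * b)⁻¹ * a⁻¹ := by rw [mul_inv_rev, inv_eq_of_mul_eq_one_right D.ha]; simp [mul_assoc, D.ha]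
    rw [e, conj_pow, inv_pow, D.hab, inv_one, mul_one, mul_inv_cancel]
  have h3 : a * (b⁻¹ * a * b) * (b * a * b⁻¹) = (a * b⁻¹) ^ 3 := by
    rw [bi]; simp only [pow_succ, pow_zero, one_mul, mul_assoc]
  refine ⟨?_, h7⟩
  rw [show [0, 0, 1, 2, 0, 1, 2, 0, 1, 2, 0, 1, 2, 0, 1, 2] = [0] ++ (List.replicate 5 [0, 1, 2]).flatten from rfl,
    ev_append, ev_power]
  show a * 1 * (a * (b⁻¹ * a * b * (b * a * b⁻¹ * 1))) ^ 5 = b⁻¹
  rw [mul_one, mul_one, ← mul_assoc a, h3, ← pow_mul, show 3 * 5 = 7 + 7 + 1 from rfl, pow_succ, pow_add, h7, one_mul,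
    one_mul, ← mul_assoc, D.ha, one_mul]

theorem letM_act (D : MData t R V M K a b k0 k1 k2) :
    ∀ s x, (qf a b k0 s)⁻¹ * kel k0 k1 k2 x * qf a b k0 s = kel k0 k1 k2 (vm x (letM s))
  | 0, x => D.actA x
  | 1, x => by
    show (b⁻¹ * a * b)⁻¹ * kel k0 k1 k2 x * (b⁻¹ * a * b) = _
    rw [show b⁻¹ = b * b from inv_eq_of_mul_eq_one_right (by rw [← D.hb, pow_succ', pow_two])]
    exact conj_comp (conj_comp (conj_comp D.actB D.actB) D.actA) D.actB x
  | 2, x => by
    show (b * a * b⁻¹)⁻¹ * kel k0 k1 k2 x * (b * a * b⁻¹) = _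
    rw [show b⁻¹ = b * b from inv_eq_of_mul_eq_one_right (by rw [← D.hb, pow_succ', pow_two])]
    exact conj_comp (conj_comp D.actB D.actA) (conj_comp D.actB D.actB) x
  | 3, x => by
    show (a * k0)⁻¹ * kel k0 k1 k2 x * (a * k0) = _
    have e : (a * k0)⁻¹ * kel k0 k1 k2 x * (a * k0) = k0⁻¹ * (a⁻¹ * kel k0 k1 k2 x * a) * k0 := by group
    have c := (kel_comm D.crd.tri (vm x Am) (1, 0, 0)).eq
    rw [kel_e0] at c
    rw [e, D.actA, mul_assoc, c, inv_mul_cancel_left]
    rfl
  | _ + 4, x => by simp [qf, letM, vm_one]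

theorem matW_act (D : MData t R V M K a b k0 k1 k2) :
    ∀ w x, (ev (qf a b k0) w)⁻¹ * kel k0 k1 k2 x * ev (qf a b k0) w = kel k0 k1 k2 (vm x (matW w))
  | [], x => by simp [ev, matW, vm_one]
  | s :: w, x => conj_comp (letM_act D s) (matW_act D w) x

theorem down_eval (D : MData t R V M K a b k0 k1 k2) :
    ∀ w, ev (qf a b k0) w = ev (qf a b k0) (down w) * kel k0 k1 k2 (vecW w)
  | [] => by simp [ev, down, vecW, kel_zero]
  | s :: w => by
    have hm : ∀ x, (ev (qf a b k0) (down w))⁻¹ * kel k0 k1 k2 x * ev (qf a b k0) (down w) =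
        kel k0 k1 k2 (vm x (matW w)) := fun x => by
      rw [← matW_act D w x, down_eval D w]
      have := kel_comm D.crd.tri (vm x (matW (down w))) (vecW w)
      rw [mul_inv_rev, show (kel k0 k1 k2 (vecW w))⁻¹ * (ev (qf a b k0) (down w))⁻¹ * kel k0 k1 k2 x *
        (ev (qf a b k0) (down w) * kel k0 k1 k2 (vecW w)) = (kel k0 k1 k2 (vecW w))⁻¹ *
          ((ev (qf a b k0) (down w))⁻¹ * kel k0 k1 k2 x * ev (qf a b k0) (down w)) * kel k0 k1 k2 (vecW w) by group,
        matW_act D (down w) x, mul_assoc, this.eq, inv_mul_cancel_left]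
    show qf a b k0 s * ev (qf a b k0) w = qf a b k0 (if s = 3 then 0 else s) * ev (qf a b k0) (down w) *
      kel k0 k1 k2 ((if s = 3 then vm (1, 0, 0) (matW w) else 0) + vecW w)
    rw [down_eval D w]
    by_cases h : s = 3
    · subst h
      rw [if_pos rfl, if_pos rfl, kel_add D.crd.tri, ← hm, kel_e0]
      show a * k0 * _ = a * _ * _
      group
    · rw [if_neg h, if_neg h, zero_add, mul_assoc]

theorem base_one (D : MData t R V M K a b k0 k1 k2) : ∀ w ∈ stgCosBase, ev (qf a b k0) w = 1 := by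
  obtain ⟨hb, h7⟩ := binv_eq D
  have bi : b⁻¹ = b * b := inv_eq_of_mul_eq_one_right (by rw [← D.hb, pow_succ', pow_two])
  intro w hw
  simp only [stgCosBase, List.mem_cons, List.not_mem_nil, or_false] at hw
  rcases hw with rfl | rfl | rfl | rfl
  · rw [show [0, 2, 0, 2, 0, 2, 0, 2] = (List.replicate 4 [0, 2]).flatten from rfl, ev_power]
    show (a * (b * a * b⁻¹ * 1)) ^ 4 = 1
    have e : a * (b * a * b⁻¹ * 1) = b * (a * b⁻¹ * a * b)⁻¹ * b⁻¹ := by
      rw [mul_one]
      simp only [mul_inv_rev, inv_inv, inv_eq_of_mul_eq_one_right D.ha]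
      group
    rw [e, conj_pow, inv_pow, D.hc, inv_one, mul_one, mul_inv_cancel]
  · rw [show [0, 1, 2, 0, 1, 2, 0, 1, 2, 0, 1, 2, 0, 1, 2, 0, 1, 2, 0, 1, 2] =
      (List.replicate 7 [0, 1, 2]).flatten from rfl, ev_power]
    show (a * (b⁻¹ * a * b * (b * a * b⁻¹ * 1))) ^ 7 = 1
    have h3 : a * (b⁻¹ * a * b * (b * a * b⁻¹ * 1)) = (a * b⁻¹) ^ 3 := by
      rw [bi]; simp only [pow_succ, pow_zero, one_mul, mul_one, mul_assoc]
    rw [h3, ← pow_mul, show 3 * 7 = 7 * 3 from rfl, pow_mul, h7, one_pow]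
  · rw [show [0, 0, 1, 2, 0, 1, 2, 0, 1, 2, 0, 1, 2, 0, 1, 2, 0, 0, 1, 2, 0, 1, 2, 0, 1, 2, 0, 1, 2, 0, 1, 2, 0, 0, 1,
      2, 0, 1, 2, 0, 1, 2, 0, 1, 2, 0, 1, 2] =
      (List.replicate 3 [0, 0, 1, 2, 0, 1, 2, 0, 1, 2, 0, 1, 2, 0, 1, 2]).flatten from rfl, ev_power, hb, inv_pow,
      D.hb, inv_one]
  · rw [show [0, 0, 1, 2, 0, 1, 2, 0, 1, 2, 0, 1, 2, 0, 1, 2, 0, 2, 1, 0, 2, 1, 0, 2, 1, 0, 2, 1, 0, 2, 1, 0, 0, 1] =
      [0, 0, 1, 2, 0, 1, 2, 0, 1, 2, 0, 1, 2, 0, 1, 2] ++ ([0] ++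
        ([0, 0, 1, 2, 0, 1, 2, 0, 1, 2, 0, 1, 2, 0, 1, 2].reverse ++ [1])) from rfl, ev_append, ev_append,
      ev_append, ev_rev (qf_sq D), hb, inv_inv]
    show b⁻¹ * (a * 1 * (b * (b⁻¹ * a * b * 1))) = 1
    rw [mul_one, mul_one, show b * (b⁻¹ * a * b) = a * b by group, ← mul_assoc a, D.ha, one_mul, inv_mul_cancel]

theorem faith_stage (D : MData t R V M K a b k0 k1 k2) {v w : List ℕ} (hv : ∀ s ∈ v, s < 3) (hw : ∀ s ∈ w, s < 3)
    (e : ev q0 v = ev q0 w) : ev (qf a b k0) v = ev (qf a b k0) w := by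
  have hb : Bound (fun i => (qf a b k0 i, q0 i)) [0, 1, 2] 168 := by
    refine Bound.step (d := 7) (fun s => Prod.ext (qf_sq D s) (q0_sq s)) Bound.nil stgCos stgCos_checks rfl
      (by decide +kernel) (base := stgCosBase) ?_ stgCos_derived
    intro r hr
    have hid : r.map (fun i => [0, 1, 2].getD i 7) = r :=
      (show ∀ x ∈ stgCosBase, x.map (fun i => [0, 1, 2].getD i 7) = x by decide) r hr
    rw [hid, ev_pair]
    refine Prod.ext (base_one D r hr) ?_
    exact eqQ (w := []) ((show ∀ x ∈ stgCosBase, sameW actQ pts x [] = true by decide +kernel) r hr)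
  refine faith hb card_stg.ge (fun s hs => ?_) (fun s hs => ?_) e
  · have := hv s hs; simp only [List.mem_cons, List.not_mem_nil, or_false]; omega
  · have := hw s hs; simp only [List.mem_cons, List.not_mem_nil, or_false]; omega

/-- The configuration from normalised data. -/
theorem exists_conf [Finite G] (hy : Hyp t H R V M K) (D : MData t R V M K a b k0 k1 k2) :
    ∃ qf, Conf t R M qf [0] ∨ Conf t R M qf [3] := by
  classical
  have hlet := List.all_eq_true.1 base_vec
  have hp : ∀ s, (qf a b k0 s, q0 s) * (qf a b k0 s, q0 s) = 1 := fun s => Prod.ext (qf_sq D s) (q0_sq s)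
  have base : ∀ w ∈ qCosBase, ev (qf a b k0) w = 1 ∧ ev q0 w = 1 := by
    intro w hw
    obtain ⟨⟨hl, hv⟩, hs⟩ := (by simpa only [Bool.and_eq_true, decide_eq_true_eq] using hlet w hw :
      ((w.all fun s => Nat.blt s 4) = true ∧ vecW w = 0) ∧ sameW actQ pts (down w) [] = true)
    refine ⟨?_, eqQ (w := []) ((show ∀ x ∈ qCosBase, sameW actQ pts x [] = true by decide +kernel) w hw)⟩
    rw [down_eval D w, hv, kel_zero, mul_one]
    refine faith_stage D (w := []) (fun s hs' => ?_) (by simp) (eqQ hs)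
    obtain ⟨x, hx, rfl⟩ := List.mem_map.1 hs'
    have := Nat.le_of_ble_eq_true (List.all_eq_true.1 hl x hx)
    split_ifs <;> omega
  have hb1 : Bound (fun i => (qf a b k0 i, q0 i)) [0, 1, 2] 168 := by
    refine Bound.step (d := 7) hp Bound.nil stgCos stgCos_checks rfl (by decide +kernel) (base := stgCosBase) ?_
      stgCos_derived
    intro r hr
    rw [(show ∀ x ∈ stgCosBase, x.map (fun i => [0, 1, 2].getD i 7) = x by decide) r hr, ev_pair]
    exact Prod.ext (base_one D r hr)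
      (eqQ (w := []) ((show ∀ x ∈ stgCosBase, sameW actQ pts x [] = true by decide +kernel) r hr))
  have hb : Bound (fun i => (qf a b k0 i, q0 i)) four (64 * 168) := by
    refine Bound.step (d := 7) hp hb1 qCos qCos_checks rfl (by decide +kernel) (base := qCosBase) ?_ qCos_derived
    intro r hr
    rw [(show ∀ x ∈ qCosBase, x.map (fun i => four.getD i 7) = x by decide) r hr, ev_pair]
    exact Prod.ext (base r hr).1 (base r hr).2
  have inval : ∀ w : List ℕ, (∀ s ∈ w, s < 4) → ev (qf a b k0) w ∈ val (qf a b k0) (singles four) :=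
    fun w hw => ev_mem_val _ fun s hs => mem_four.2 (hw s hs)
  have hle : val (qf a b k0) (singles four) ≤ M := by
    refine (Subgroup.closure_le _).2 ?_
    rintro _ ⟨w, -, rfl⟩
    refine ev_mem w fun s _ => ?_
    match s with
    | 0 => exact D.aM
    | 1 => exact mul_mem (mul_mem (inv_mem D.bM) D.aM) D.bM
    | 2 => exact mul_mem (mul_mem D.bM D.aM) (inv_mem D.bM)
    | 3 => exact mul_mem D.aM (hy.KM (kel_e0 (k0 := k0) (k1 := k1) (k2 := k2) ▸ D.crd.mem (1, 0, 0)))
    | _ + 4 => exact one_mem _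
  have qa : a ∈ val (qf a b k0) (singles four) := by simpa [ev, qf] using inval [0] (by decide)
  have qb : b ∈ val (qf a b k0) (singles four) := by
    have := inval [0, 0, 1, 2, 0, 1, 2, 0, 1, 2, 0, 1, 2, 0, 1, 2] (by decide)
    rw [(binv_eq D).1] at this
    simpa using this
  have qk0 : k0 ∈ val (qf a b k0) (singles four) := by
    have := inval [0, 3] (by decide)
    simpa [ev, qf, ← mul_assoc, D.ha] using this
  have actF := conj_comp D.actA D.actB
  have qk1 : k1 ∈ val (qf a b k0) (singles four) := by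
    have := actF (1, 0, 0)
    rw [show vm (1, 0, 0) (mm Am Bm) = (0, 1, 0) by decide +kernel, kel_e0, kel_e1] at this
    exact this ▸ mul_mem (mul_mem (inv_mem (mul_mem qa qb)) qk0) (mul_mem qa qb)
  have qk2 : k2 ∈ val (qf a b k0) (singles four) := by
    have := actF (0, 1, 0)
    rw [show vm (0, 1, 0) (mm Am Bm) = (0, 0, 1) by decide +kernel, kel_e1, kel_e2] at this
    exact this ▸ mul_mem (mul_mem (inv_mem (mul_mem qa qb)) qk1) (mul_mem qa qb)
  have qkel : ∀ x, kel k0 k1 k2 x ∈ val (qf a b k0) (singles four) := fun x =>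
    mul_mem (mul_mem (pow_mem qk0 _) (pow_mem qk1 _)) (pow_mem qk2 _)
  have hinj : Function.Injective fun p : Fin 168 × Z3 =>
      (⟨ev (qf a b k0) (decWord 24 (stgU.at p.1)) * kel k0 k1 k2 p.2, mul_mem (inval _ fun s hs => by
        have := Nat.le_of_ble_eq_true (List.all_eq_true.1 (stg_letters p.1 p.1.2) s hs); omega) (qkel _)⟩ :
        val (qf a b k0) (singles four)) := by
    rintro ⟨i, x⟩ ⟨j, y⟩ e
    have e' : ev (qf a b k0) (decWord 24 (stgU.at i)) * kel k0 k1 k2 x =
        ev (qf a b k0) (decWord 24 (stgU.at j)) * kel k0 k1 k2 y := congrArg Subtype.val e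
    have act : ∀ (w : List ℕ) (x z : Z3), (ev (qf a b k0) w * kel k0 k1 k2 x)⁻¹ * kel k0 k1 k2 z *
        (ev (qf a b k0) w * kel k0 k1 k2 x) = kel k0 k1 k2 (vm z (matW w)) := fun w x z => by
      rw [show (ev (qf a b k0) w * kel k0 k1 k2 x)⁻¹ * kel k0 k1 k2 z * (ev (qf a b k0) w * kel k0 k1 k2 x) =
        (kel k0 k1 k2 x)⁻¹ * ((ev (qf a b k0) w)⁻¹ * kel k0 k1 k2 z * ev (qf a b k0) w) * kel k0 k1 k2 x by group,
        matW_act D, mul_assoc, (kel_comm D.crd.tri _ _).eq, inv_mul_cancel_left]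
    have hm : ∀ z, vm z (matW (decWord 24 (stgU.at i))) = vm z (matW (decWord 24 (stgU.at j))) := fun z =>
      D.crd.inj (by rw [← act _ x z, e', act])
    have hA : matW (decWord 24 (stgU.at i)) = matW (decWord 24 (stgU.at j)) := by
      refine Prod.ext ?_ (Prod.ext ?_ ?_)
      · simpa [vm] using hm (1, 0, 0)
      · simpa [vm] using hm (0, 1, 0)
      · simpa [vm] using hm (0, 0, 1)
    have hij : (i : ℕ) = j := by
      have := (List.Nodup.getElem_inj_iff stg_nodup (i := i) (j := j) (hi := by simp) (hj := by simp)).1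
        (by simp only [List.getElem_map, List.getElem_range, stgCode, hA])
      exact this
    obtain rfl : i = j := Fin.ext hij
    rw [D.crd.inj (mul_left_cancel e')]
  have hcard : 64 * 168 ≤ Nat.card (val (qf a b k0) (singles four)) :=
    le_trans (by simp [Nat.card_prod]) (Nat.card_le_card_of_injective _ hinj)
  have htop : val (qf a b k0) (singles four) = M :=
    Subgroup.eq_of_le_of_card_ge hle (by rw [hy.cardM]; exact hcard)
  have hiff : ∀ v w : List ℕ, (∀ s ∈ v, s < 4) → (∀ s ∈ w, s < 4) →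
      (ev (qf a b k0) v = ev (qf a b k0) w ↔ ev q0 v = ev q0 w) := fun v w hv hw =>
    ⟨faith' hb hcard (fun s hs => mem_four.2 (hv s hs)) (fun s hs => mem_four.2 (hw s hs)),
      faith hb (by norm_num; exact card_four) (fun s hs => mem_four.2 (hv s hs)) (fun s hs => mem_four.2 (hw s hs))⟩
  have hvec : vecW tQ = (0, 2, 2) := by decide +kernel
  have ht : ev (qf a b k0) tQ = t := by
    rw [down_eval D tQ, hvec, D.tval, faith_stage D (v := down tQ) (w := []) (by decide) (by simp)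
      (eqQ (by decide +kernel))]
    simp [ev]
  refine ⟨qf a b k0, D.alpha.imp (fun h => ?_) fun h => ?_⟩
  · exact ⟨qf_sq D, hiff, htop, ht, by simpa [ev, qf] using h⟩
  · exact ⟨qf_sq D, hiff, htop, ht, by simpa [ev, qf] using h⟩

end Cfsg.Agent.Grp.HSCent
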