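import Cfsg.Agent.Lib.Grp.HSCent.Basic
import Cfsg.Agent.Lib.Grp.HSCent.Coord

/-!
# Standard coordinates of the two-local subgroup
-/

set_option autoImplicit false
set_option maxRecDepth 10000

namespace Cfsg.Agent.Grp.HSCent

universe u

variable {G : Type u} [Group G]

/-- Coordinates. -/
structure Crd (V M K : Subgroup G) (k0 k1 k2 : G) : Prop where
  tri : Tri k0 k1 k2
  inj : Function.Injective (kel k0 k1 k2)
  mem : ∀ x, kel k0 k1 k2 x ∈ K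
  surj : ∀ y ∈ K, ∃ x, kel k0 k1 k2 x = y
  cen : ∀ m ∈ M, (∀ x, m⁻¹ * kel k0 k1 k2 (x + x) * m = kel k0 k1 k2 (x + x)) → ∃ y, kel k0 k1 k2 y = m

/-- The normalised data. -/
structure MData (t : G) (R V M K : Subgroup G) (a b k0 k1 k2 : G) : Prop where
  crd : Crd V M K k0 k1 k2
  aM : a ∈ M
  bM : b ∈ M
  ha : a * a = 1
  hb : b ^ 3 = 1
  hab : (a * b) ^ 7 = 1
  hc : (a * b⁻¹ * a * b) ^ 4 = 1
  actA : ∀ x, a⁻¹ * kel k0 k1 k2 x * a = kel k0 k1 k2 (vm x Am)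
  actB : ∀ x, b⁻¹ * kel k0 k1 k2 x * b = kel k0 k1 k2 (vm x Bm)
  tval : kel k0 k1 k2 (0, 2, 2) = t
  alpha : a ∈ R ∨ a * k0 ∈ R

/-- A parity. -/
def par (x : ZMod 4) : Fin 2 := ⟨x.val % 2, Nat.mod_lt _ (by norm_num)⟩

theorem par_val : ∀ x : ZMod 4, (x + x).val = 2 * (par x : ℕ) := by decide

theorem par_zero : ∀ x : ZMod 4, par x = 0 → ∃ y, x = y + y := by decide

theorem even_of_par {x : Z3} (h : (par x.1, par x.2.1, par x.2.2) = 0) : ∃ y : Z3, x = y + y := by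
  simp only [Prod.mk_eq_zero] at h
  obtain ⟨a, ha⟩ := par_zero _ h.1
  obtain ⟨b, hb⟩ := par_zero _ h.2.1
  obtain ⟨c, hc⟩ := par_zero _ h.2.2
  exact ⟨(a, b, c), Prod.ext ha (Prod.ext hb hc)⟩

theorem conj_sq (g k : G) : g⁻¹ * k * g * (g⁻¹ * k * g) = g⁻¹ * (k * k) * g := by group

theorem kel_two {k0 k1 k2 v0 v1 v2 : G} (h0 : k0 * k0 = v0) (h1 : k1 * k1 = v1) (h2 : k2 * k2 = v2) (x : Z3) :
    kel k0 k1 k2 (x + x) = tri v0 v1 v2 (par x.1, par x.2.1, par x.2.2) := by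
  simp only [kel, tri, Prod.fst_add, Prod.snd_add, par_val, pow_mul, pow_two, h0, h1, h2]

theorem ind_shift {V : Subgroup G} (hsq : ∀ v ∈ V, v * v = 1) (hc : ∀ v ∈ V, ∀ w ∈ V, v * w = w * v)
    {v0 v1 v2 : G} (h0 : v0 ∈ V) (h1 : v1 ∈ V) (h2 : v2 ∈ V) (h : Ind v0 v1 v2) : Ind v1 (v0 * v1) v2 := by
  intro i j l e
  have e' : v1 ^ (i : ℕ) * (v0 * v1) ^ (j : ℕ) * v2 ^ (l : ℕ) =
      tri v0 v1 v2 (0, i, 0) * tri v0 v1 v2 (j, j, 0) * tri v0 v1 v2 (0, 0, l) := by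
    simp [tri, (show Commute v0 v1 from hc v0 h0 v1 h1).mul_pow]
  rw [e', tri_mul hsq hc h0 h1 h2, tri_mul hsq hc h0 h1 h2] at e
  obtain ⟨a, b, c⟩ := h _ _ _ e
  simp only [zero_add, add_zero] at a b c
  subst a c
  exact ⟨by simpa using b, rfl, rfl⟩

variable {t : G} {H R V M K : Subgroup G}

/-- Coordinates from a square root. -/
theorem crd_of (hy : Hyp t H R V M K) {v0 v1 v2 f k0 : G} (h0 : v0 ∈ V) (h1 : v1 ∈ V) (h2 : v2 ∈ V)
    (hind : Ind v0 v1 v2) (fM : f ∈ M) (f0 : f⁻¹ * v0 * f = v1) (f1 : f⁻¹ * v1 * f = v2)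
    (f2 : f⁻¹ * v2 * f = v0 * v1) (hk : k0 ∈ K) (hks : k0 * k0 = v0) :
    Crd V M K k0 (f⁻¹ * k0 * f) (f⁻¹ * (f⁻¹ * k0 * f) * f) ∧
      (∀ x, f⁻¹ * kel k0 (f⁻¹ * k0 * f) (f⁻¹ * (f⁻¹ * k0 * f) * f) x * f =
        kel k0 (f⁻¹ * k0 * f) (f⁻¹ * (f⁻¹ * k0 * f) * f) (vm x Fm)) ∧
      kel k0 (f⁻¹ * k0 * f) (f⁻¹ * (f⁻¹ * k0 * f) * f) (2, 0, 0) = v0 ∧
      kel k0 (f⁻¹ * k0 * f) (f⁻¹ * (f⁻¹ * k0 * f) * f) (0, 2, 0) = v1 ∧
      kel k0 (f⁻¹ * k0 * f) (f⁻¹ * (f⁻¹ * k0 * f) * f) (0, 0, 2) = v2 := by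
  set k1 := f⁻¹ * k0 * f with hk1
  set k2 := f⁻¹ * k1 * f with hk2
  have m1 : k1 ∈ K := hy.Knormal f fM k0 hk
  have m2 : k2 ∈ K := hy.Knormal f fM k1 m1
  have s1 : k1 * k1 = v1 := by rw [conj_sq, hks, f0]
  have s2 : k2 * k2 = v2 := by rw [hk2, conj_sq, s1, f1]
  have T : Tri k0 k1 k2 := ⟨hy.Kcomm _ hk _ m1, hy.Kcomm _ hk _ m2, hy.Kcomm _ m1 _ m2, hy.Kexp _ hk,
    hy.Kexp _ m1, hy.Kexp _ m2⟩
  have mem : ∀ x, kel k0 k1 k2 x ∈ K := fun x => mul_mem (mul_mem (pow_mem hk _) (pow_mem m1 _)) (pow_mem m2 _)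
  have inj : Function.Injective (kel k0 k1 k2) := by
    intro x y e
    have hd : kel k0 k1 k2 (x - y) = 1 := by
      rw [sub_eq_add_neg, kel_add T, kel_neg T, e, mul_inv_cancel]
    have h' : kel k0 k1 k2 ((x - y) + (x - y)) = 1 := by rw [kel_add T, hd, mul_one]
    rw [kel_two hks s1 s2] at h'
    obtain ⟨a, b, c⟩ := hind _ _ _ h'
    obtain ⟨z, hz⟩ := even_of_par (x := x - y) (Prod.ext a (Prod.ext b c))
    rw [hz, kel_two hks s1 s2] at hd
    obtain ⟨a', b', c'⟩ := hind _ _ _ hd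
    obtain ⟨w, hw⟩ := even_of_par (x := z) (Prod.ext a' (Prod.ext b' c'))
    have : x - y = 0 := by
      rw [hz, hw]
      have four : ∀ w : ZMod 4, w + w + (w + w) = 0 := by decide
      exact Prod.ext (four _) (Prod.ext (four _) (four _))
    exact sub_eq_zero.1 this
  have surj : ∀ y ∈ K, ∃ x, kel k0 k1 k2 x = y := by
    intro y hy'
    haveI : Finite K := Nat.finite_of_card_ne_zero (by rw [hy.cardK]; norm_num)
    have hb : Function.Bijective fun x => (⟨kel k0 k1 k2 x, mem x⟩ : K) :=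
      Function.Injective.bijective_of_nat_card_le (fun a b e => inj (congrArg Subtype.val e))
        (by rw [hy.cardK]; simp [Nat.card_prod])
    obtain ⟨x, hx⟩ := hb.2 ⟨y, hy'⟩
    exact ⟨x, congrArg Subtype.val hx⟩
  have e0 : kel k0 k1 k2 (2, 0, 0) = v0 := by
    rw [show ((2, 0, 0) : Z3) = (1, 0, 0) + (1, 0, 0) by decide, kel_add T, kel_e0, hks]
  have e1 : kel k0 k1 k2 (0, 2, 0) = v1 := by
    rw [show ((0, 2, 0) : Z3) = (0, 1, 0) + (0, 1, 0) by decide, kel_add T, kel_e1, s1]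
  have e2 : kel k0 k1 k2 (0, 0, 2) = v2 := by
    rw [show ((0, 0, 2) : Z3) = (0, 0, 1) + (0, 0, 1) by decide, kel_add T, kel_e2, s2]
  have cen : ∀ m ∈ M, (∀ x, m⁻¹ * kel k0 k1 k2 (x + x) * m = kel k0 k1 k2 (x + x)) →
      ∃ y, kel k0 k1 k2 y = m := by
    intro m hm h
    refine surj m (hy.cen m hm fun v hv => ?_)
    obtain ⟨⟨i, j, l⟩, hp⟩ := (tri_bij hy.Vsq hy.Vcomm hy.cardV h0 h1 h2 hind).2 ⟨v, hv⟩
    have g0 := h (1, 0, 0)
    have g1 := h (0, 1, 0)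
    have g2 := h (0, 0, 1)
    rw [kel_add T, kel_e0, hks] at g0
    rw [kel_add T, kel_e1, s1] at g1
    rw [kel_add T, kel_e2, s2] at g2
    rw [← show tri v0 v1 v2 (i, j, l) = v from congrArg Subtype.val hp, conj_tri g0 g1 g2]
  obtain ⟨r, hr⟩ := surj _ (hy.Knormal f fM k2 m2)
  have hr2 : r + r = (2, 2, 0) := inj (by
    rw [kel_add T, hr, conj_sq, s2, f2, show ((2, 2, 0) : Z3) = (2, 0, 0) + (0, 2, 0) by decide, kel_add T, e0, e1])
  have act : ∀ x, f⁻¹ * kel k0 k1 k2 x * f = kel k0 k1 k2 (vm x ((0, 1, 0), (0, 0, 1), r)) :=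
    conj_kel T kel_e1.symm kel_e2.symm hr.symm
  have h7 := conj_power act 7
  have hF7 : pw3 ((0, 1, 0), (0, 0, 1), r) 7 = one3 := by
    have step : ∀ {g : G} {x y : G}, g⁻¹ * x * g = y → ∀ n : ℕ, (g ^ (n + 1))⁻¹ * x * g ^ (n + 1) =
        (g ^ n)⁻¹ * y * g ^ n := fun {g x y} h n => by rw [← h, pow_succ']; group
    have add01 : ∀ (n : ℕ) (x y : G), (f ^ n)⁻¹ * (x * y) * f ^ n = (f ^ n)⁻¹ * x * f ^ n * ((f ^ n)⁻¹ * y * f ^ n) :=
      fun n x y => by group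
    have c01 : v0 * v1 = v1 * v0 := hy.Vcomm _ h0 _ h1
    have p3 : ∀ n, (f ^ (n + 3))⁻¹ * v0 * f ^ (n + 3) = (f ^ n)⁻¹ * v0 * f ^ n * ((f ^ n)⁻¹ * v1 * f ^ n) := fun n => by
      rw [step f0, step f1, step f2, add01]
    have w1 : ∀ n, (f ^ n)⁻¹ * v1 * f ^ n = (f ^ (n + 1))⁻¹ * v0 * f ^ (n + 1) := fun n => (step f0 n).symm
    have q0 : (f ^ 0)⁻¹ * v0 * f ^ 0 = v0 := by simp
    have q1 : (f ^ 1)⁻¹ * v0 * f ^ 1 = v1 := by simpa using f0
    have q2 : (f ^ 2)⁻¹ * v0 * f ^ 2 = v2 := by rw [step f0, pow_one, f1]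
    have q3 : (f ^ 3)⁻¹ * v0 * f ^ 3 = v0 * v1 := by rw [p3 0, w1, q0, q1]
    have q4 : (f ^ 4)⁻¹ * v0 * f ^ 4 = v1 * v2 := by rw [p3 1, w1, q1, q2]
    have q5 : (f ^ 5)⁻¹ * v0 * f ^ 5 = v2 * (v0 * v1) := by rw [p3 2, w1, q2, q3]
    have q6 : (f ^ 6)⁻¹ * v0 * f ^ 6 = v0 * v1 * (v1 * v2) := by rw [p3 3, w1, q3, q4]
    have q7 : (f ^ 7)⁻¹ * v0 * f ^ 7 = v0 := by
      rw [p3 4, w1, q4, q5, mul_assoc, ← mul_assoc v2, hy.Vsq _ h2, one_mul, ← mul_assoc, ← c01, mul_assoc,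
        hy.Vsq _ h1, mul_one]
    have q8 : (f ^ 8)⁻¹ * v0 * f ^ 8 = v1 := by
      rw [p3 5, w1, q5, q6]
      have i2 : v2 * (v0 * v1) = (v0 * v1) * v2 := hy.Vcomm _ h2 _ (mul_mem h0 h1)
      rw [i2]
      calc v0 * v1 * v2 * (v0 * v1 * (v1 * v2)) = v0 * v1 * v2 * (v0 * (v1 * v1) * v2) := by simp only [mul_assoc]
        _ = v0 * v1 * (v2 * v0) * v2 := by rw [hy.Vsq _ h1, mul_one]; simp only [mul_assoc]
        _ = (v0 * v0) * v1 * (v2 * v2) := by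
          rw [hy.Vcomm _ h2 _ h0, c01]
          simp only [mul_assoc]
          rw [← mul_assoc v0 v0, hy.Vsq _ h0, one_mul, ← mul_assoc v0 v0, hy.Vsq _ h0, one_mul]
        _ = v1 := by rw [hy.Vsq _ h0, hy.Vsq _ h2, one_mul, mul_one]
    have q9 : (f ^ 9)⁻¹ * v0 * f ^ 9 = v2 := by
      rw [p3 6, w1, q6, q7]
      calc v0 * v1 * (v1 * v2) * v0 = v0 * (v1 * v1) * (v2 * v0) := by simp only [mul_assoc]
        _ = v2 := by rw [hy.Vsq _ h1, mul_one, hy.Vcomm _ h2 _ h0, ← mul_assoc, hy.Vsq _ h0, one_mul]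
    have hK : f ^ 7 ∈ K := hy.cen _ (pow_mem fM 7) (fix_of_basis hy.Vsq hy.Vcomm hy.cardV h0 h1 h2 hind q7
      (by rw [w1, q8]) (by rw [← q2, show (f ^ 7)⁻¹ * ((f ^ 2)⁻¹ * v0 * f ^ 2) * f ^ 7 = (f ^ 9)⁻¹ * v0 * f ^ 9 by
        group, q9, q2]))
    have key : ∀ x, vm x (pw3 ((0, 1, 0), (0, 0, 1), r) 7) = x := fun x => inj (by
      rw [← h7 x, mul_assoc, hy.Kcomm _ (mem x) _ hK, inv_mul_cancel_left])
    have hvm : ∀ A : M3, vm (1, 0, 0) A = A.1 ∧ vm (0, 1, 0) A = A.2.1 ∧ vm (0, 0, 1) A = A.2.2 := fun A =>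
      ⟨by simp [vm], by simp [vm], by simp [vm]⟩
    exact Prod.ext ((hvm _).1.symm.trans (key _))
      (Prod.ext ((hvm _).2.1.symm.trans (key _)) ((hvm _).2.2.symm.trans (key _)))
  obtain rfl : r = (1, 3, 2) := f_row r hr2 hF7
  exact ⟨⟨T, inj, mem, surj, cen⟩, act, e0, e1, e2⟩

theorem Crd.mem_of_mat {k0 k1 k2 : G} (C : Crd V M K k0 k1 k2) {m : G} {A : M3} (hm : m ∈ M)
    (act : ∀ x, m⁻¹ * kel k0 k1 k2 x * m = kel k0 k1 k2 (vm x A)) (hA : A = one3) :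
    ∃ y, kel k0 k1 k2 y = m := C.cen m hm fun x => by rw [act, hA, vm_one]

theorem Crd.seven {k0 k1 k2 f : G} (C : Crd V M K k0 k1 k2) (fM : f ∈ M)
    (act : ∀ x, f⁻¹ * kel k0 k1 k2 x * f = kel k0 k1 k2 (vm x Fm)) : f ^ 7 = 1 := by
  obtain ⟨y, hy⟩ := C.mem_of_mat (pow_mem fM 7) (conj_power act 7) f_seven
  have : vm y Fm = y := C.inj (by rw [← act, hy]; group)
  rw [← hy, f_fixed y this, kel_zero]

/-- The normalised data exist. -/
theorem exists_mdata [Finite G] (hy : Hyp t H R V M K) : ∃ a b k0 k1 k2, MData t R V M K a b k0 k1 k2 := by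
  classical
  obtain ⟨c, hcR, hct, hcc, hcen⟩ := hy.Rc
  have hVM : V ≤ M := fun v hv => (hy.MV v).2 fun w =>
    ⟨fun hw => mul_mem (mul_mem (inv_mem hv) hw) hv, fun hw => by
      have := mul_mem (mul_mem hv hw) (inv_mem hv); rwa [show v * (v⁻¹ * w * v) * v⁻¹ = w by group] at this⟩
  have hVK : V ≤ K := fun v hv => hy.cen v (hVM hv) fun w hw => by
    rw [mul_assoc, hy.Vcomm w hw v hv, inv_mul_cancel_left]
  obtain ⟨v, hv, r, hr, hvr⟩ : ∃ v ∈ V, ∃ r ∈ R, v * r ≠ r * v := by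
    by_contra hh
    push Not at hh
    let f : V → ({1, c, t, c * t} : Finset G) := fun v => ⟨v, by
      rcases hcen v (hy.VR v.2) (hh v v.2) with e | e | e | e <;> simp [e]⟩
    have hle := Nat.card_le_card_of_injective f fun a b e =>
      Subtype.ext (congrArg (fun s : ({1, c, t, c * t} : Finset G) => (s : G)) e)
    rw [hy.cardV, Nat.card_eq_fintype_card, Fintype.card_coe] at hle
    exact absurd (hle.trans Finset.card_le_four) (by norm_num)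
  obtain ⟨a, haR, haa, hva⟩ : ∃ a ∈ R, a * a = 1 ∧ v * a ≠ a * v := by
    rcases hy.Rsq r hr with e | e
    · exact ⟨r, hr, e, hvr⟩
    · refine ⟨r * c, mul_mem hr hcR, ?_, fun h => hvr ?_⟩
      · rw [mul_assoc, ← mul_assoc c r c, ← hcc r hr, mul_assoc r c c, hct, ← mul_assoc, e, hy.tt]
      · rw [← mul_assoc, mul_assoc r c v, ← hcc v (hy.VR hv), ← mul_assoc] at h
        exact mul_right_cancel h
  have ai : a⁻¹ = a := inv_eq_of_mul_eq_one_right haa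
  have hmove : ∀ w ∈ V, a * w * a = w ∨ a * w * a = w * t := fun w hw => by
    have e1 : a * w * a = w * (w * a * (w * a)) := by
      rw [show w * (w * a * (w * a)) = w * w * (a * w * a) by group, hy.Vsq w hw, one_mul]
    rw [e1]
    rcases hy.Rsq _ (mul_mem (hy.VR hw) haR) with e | e <;> rw [e]
    · exact Or.inl (mul_one w)
    · exact Or.inr rfl
  have hav : a * v * a = v * t := (hmove v hv).resolve_left fun e => hva (by
    calc v * a = a * v * a * a := by rw [e]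
      _ = a * v := by rw [mul_assoc, haa, mul_one])
  have hat : a * t * a = t := by rw [(hy.memH a).1 (hy.RH haR), mul_assoc, haa, mul_one]
  have hmul : ∀ x y : G, a * (x * y) * a = a * x * a * (a * y * a) := fun x y => by
    rw [show a * x * a * (a * y * a) = a * x * (a * a) * (y * a) by group, haa]; group
  have havt : a * (v * t) * a = v := by rw [hmul, hav, hat, mul_assoc, hy.tt, mul_one]
  have hv1 : v ≠ 1 := fun e => hva (by rw [e, one_mul, mul_one])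
  have hvt : v ≠ t := fun e => hva (e ▸ ((hy.memH a).1 (hy.RH haR)).symm)
  have hvvt : v ≠ v * t := fun e => hy.tne (mul_left_cancel (a := v) (by rw [mul_one]; exact e.symm))
  have hvt1 : v * t ≠ 1 := fun e => hvt (mul_right_cancel (e.trans hy.tt.symm))
  obtain ⟨v0, h0, hfix, hind⟩ : ∃ v0 ∈ V, a * v0 * a = v0 ∧ Ind v0 v (v * t) := by
    obtain ⟨w, hw, n1, n2, n3, n4, hi⟩ := exists_ind hy.Vsq hy.Vcomm hy.cardV hv (mul_mem hv hy.tV) hv1 hvt1 hvvt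
    rw [← mul_assoc, hy.Vsq v hv, one_mul] at n4
    rcases hmove w hw with e | e
    · exact ⟨w, hw, e, hi⟩
    · refine ⟨w * v, mul_mem hw hv, ?_, ind_of hy.Vsq hv (mul_mem hv hy.tV) (mul_mem hw hv) hv1 hvt1 hvvt ?_ ?_ ?_ ?_⟩
      · rw [hmul, e, hav, ← hy.Vcomm t hy.tV v hv, mul_assoc, ← mul_assoc t t, hy.tt, one_mul]
      · exact fun h => n2 (mul_right_cancel (h.trans (hy.Vsq v hv).symm))
      · exact fun h => n1 (mul_right_cancel (h.trans (one_mul v).symm))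
      · exact fun h => n4 (mul_right_cancel (h.trans (hy.Vcomm v hv t hy.tV)))
      · intro h
        rw [← mul_assoc, hy.Vsq v hv, one_mul] at h
        exact n3 (by
          calc w = w * v * v := by rw [mul_assoc, hy.Vsq v hv, mul_one]
            _ = v * t := by rw [h, hy.Vcomm t hy.tV v hv])
  have aM : a ∈ M := (hy.MV a).2 fun w => by
    rw [ai]
    refine ⟨fun hw => ?_, fun hw => ?_⟩
    · rcases hmove w hw with e | e <;> rw [e]
      exacts [hw, mul_mem hw hy.tV]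
    · have : w = a * (a * w * a) * a := by
        rw [show a * (a * w * a) * a = a * a * w * (a * a) by group, haa, one_mul, mul_one]
      rw [this]
      rcases hmove _ hw with e | e <;> rw [e]
      exacts [hw, mul_mem hw hy.tV]
  set v2 := v * t with hv2
  have h2 : v2 ∈ V := mul_mem hv hy.tV
  obtain ⟨m, mM, m0, m1, m2⟩ := hy.aut h0 hv h2 hv (mul_mem h0 hv) h2 hind (ind_shift hy.Vsq hy.Vcomm h0 hv h2 hind)
  have m01 : m⁻¹ * (v0 * v) * m = v0 := by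
    rw [show m⁻¹ * (v0 * v) * m = m⁻¹ * v0 * m * (m⁻¹ * v * m) by group, m0, m1, ← mul_assoc, hy.Vcomm v hv v0 h0,
      mul_assoc, hy.Vsq v hv, mul_one]
  have cube : ∀ w, (m ^ 3)⁻¹ * w * m ^ 3 = m⁻¹ * (m⁻¹ * (m⁻¹ * w * m) * m) * m := fun w => by
    simp only [pow_succ, pow_zero, one_mul, mul_inv_rev, mul_assoc]
  have hm3 : m ^ 3 ∈ K := hy.cen _ (pow_mem mM 3) (fix_of_basis hy.Vsq hy.Vcomm hy.cardV h0 hv h2 hind
    (by rw [cube, m0, m1, m01]) (by rw [cube, m1, m01, m0]) (by rw [cube, m2, m2, m2]))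
  set b := m ^ 4 with hb
  have bM : b ∈ M := pow_mem mM 4
  have hb3 : b ^ 3 = 1 := by rw [hb, ← pow_mul, show 4 * 3 = 3 * 4 from rfl, pow_mul]; exact hy.Kexp _ hm3
  have bact : ∀ w ∈ V, m⁻¹ * w * m ∈ V → b⁻¹ * w * b = m⁻¹ * w * m := fun w _ hw => by
    rw [hb, show (m ^ 4)⁻¹ * w * m ^ 4 = (m ^ 3)⁻¹ * (m⁻¹ * w * m) * m ^ 3 by group, mul_assoc,
      hy.Kcomm _ (hVK hw) _ hm3, inv_mul_cancel_left]
  set f := a * b with hf
  have fM : f ∈ M := mul_mem aM bM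
  have fconj : ∀ w, f⁻¹ * w * f = b⁻¹ * (a * w * a) * b := fun w => by
    rw [hf, mul_inv_rev, ai]; group
  have f0 : f⁻¹ * v0 * f = v := by rw [fconj, hfix, bact v0 h0 (by rw [m0]; exact hv), m0]
  have f1 : f⁻¹ * v * f = v2 := by rw [fconj, hav, bact v2 h2 (by rw [m2]; exact h2), m2]
  have f2 : f⁻¹ * v2 * f = v0 * v := by rw [fconj, havt, bact v hv (by rw [m1]; exact mul_mem h0 hv), m1]
  obtain ⟨k0, hk0, hks⟩ := hy.Vroot v0 h0
  obtain ⟨C, Fact, e0, e1, e2⟩ := crd_of hy h0 hv h2 hind fM f0 f1 f2 hk0 hks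
  set k1 := f⁻¹ * k0 * f
  set k2 := f⁻¹ * k1 * f
  -- the rows of the involution
  obtain ⟨r0, hr0⟩ := C.surj _ (hy.Knormal a aM k0 hk0)
  obtain ⟨r1, hr1⟩ := C.surj _ (hy.Knormal a aM k1 (hy.Knormal f fM k0 hk0))
  obtain ⟨r2, hr2⟩ := C.surj _ (hy.Knormal a aM k2 (hy.Knormal f fM k1 (hy.Knormal f fM k0 hk0)))
  have aact : ∀ x, a⁻¹ * kel k0 k1 k2 x * a = kel k0 k1 k2 (vm x (r0, r1, r2)) :=
    conj_kel C.tri hr0.symm hr1.symm hr2.symm
  have q0 : r0 + r0 = (2, 0, 0) := C.inj (by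
    rw [kel_add C.tri, hr0, conj_sq, ai, hks, hfix, e0])
  have sq1 : k1 * k1 = v := by
    rw [← e1, show ((0, 2, 0) : Z3) = (0, 1, 0) + (0, 1, 0) by decide, kel_add C.tri, kel_e1]
  have sq2 : k2 * k2 = v2 := by
    rw [← e2, show ((0, 0, 2) : Z3) = (0, 0, 1) + (0, 0, 1) by decide, kel_add C.tri, kel_e2]
  have q1 : r1 + r1 = (0, 0, 2) := C.inj (by rw [kel_add C.tri, hr1, conj_sq, ai, sq1, hav, e2])
  have q2 : r2 + r2 = (0, 2, 0) := C.inj (by rw [kel_add C.tri, hr2, conj_sq, ai, sq2, havt, e1])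
  set A : M3 := (r0, r1, r2)
  have vm_inj : ∀ {B B' : M3}, (∀ x, kel k0 k1 k2 (vm x B) = kel k0 k1 k2 (vm x B')) → B = B' := fun {B B'} h => by
    refine Prod.ext ?_ (Prod.ext ?_ ?_)
    · simpa [vm] using C.inj (h (1, 0, 0))
    · simpa [vm] using C.inj (h (0, 1, 0))
    · simpa [vm] using C.inj (h (0, 0, 1))
  have qa : mm A A = one3 := vm_inj fun x => by rw [← conj_comp aact aact, haa, vm_one]; group
  have qb : pw3 (mm A Fm) 3 = one3 := by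
    refine vm_inj fun x => ?_
    have hbact : ∀ x, b⁻¹ * kel k0 k1 k2 x * b = kel k0 k1 k2 (vm x (mm A Fm)) := fun x => by
      rw [← conj_comp aact Fact, hf, ← mul_assoc a a b, haa, one_mul]
    rw [← conj_power hbact 3, hb3, vm_one]; group
  obtain ⟨u, hu⟩ := a_rows r0 q0 r1 q1 r2 q2 qa qb
  -- the new basis
  have hk0' : kel k0 k1 k2 ((1, 0, 0) + (u + u)) * kel k0 k1 k2 ((1, 0, 0) + (u + u)) = v0 := by
    have four : ∀ w : ZMod 4, w + w + (w + w) = 0 := by decide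
    rw [← kel_add C.tri, add_add_add_comm, show u + u + (u + u) = 0 from Prod.ext (four _) (Prod.ext (four _) (four _)),
      add_zero, kel_add C.tri, kel_e0, hks]
  obtain ⟨C', Fact', e0', e1', e2'⟩ := crd_of hy h0 hv h2 hind fM f0 f1 f2 (C.mem _) hk0'
  set K0 := kel k0 k1 k2 ((1, 0, 0) + (u + u)) with hK0
  set K1 := f⁻¹ * K0 * f with hK1
  set K2 := f⁻¹ * K1 * f with hK2
  have eK1 : K1 = kel k0 k1 k2 (baseChange u).2.1 := by rw [hK1, hK0, Fact]; rfl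
  have eK2 : K2 = kel k0 k1 k2 (baseChange u).2.2 := by rw [hK2, eK1, Fact]; rfl
  have base : ∀ x, kel K0 K1 K2 x = kel k0 k1 k2 (vm x (baseChange u)) := by
    intro x
    rw [← vm_eq_smul, kel_add C.tri, kel_add C.tri, kel_nsmul C.tri, kel_nsmul C.tri, kel_nsmul C.tri, ← eK1, ← eK2]
    rfl
  have actA : ∀ x, a⁻¹ * kel K0 K1 K2 x * a = kel K0 K1 K2 (vm x Am) := fun x => by
    rw [base, base, aact, vm_assoc, vm_assoc, hu]
  have actB : ∀ x, b⁻¹ * kel K0 K1 K2 x * b = kel K0 K1 K2 (vm x Bm) := fun x => by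
    rw [show Bm = mm Am Fm from rfl, ← conj_comp actA Fact', hf, ← mul_assoc a a b, haa, one_mul]
  have tval : kel K0 K1 K2 (0, 2, 2) = t := by
    rw [show ((0, 2, 2) : Z3) = (0, 2, 0) + (0, 0, 2) by decide, kel_add C'.tri, e1', e2', hv2, ← mul_assoc,
      hy.Vsq v hv, one_mul]
  have hab : (a * b) ^ 7 = 1 := C'.seven fM Fact'
  set cc := a * b⁻¹ * a * b with hcdef
  have bi : b⁻¹ = b * b := by
    refine inv_eq_of_mul_eq_one_right ?_
    rw [← hb3, pow_succ', pow_two]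
  have cact : ∀ x, cc⁻¹ * kel K0 K1 K2 x * cc = kel K0 K1 K2 (vm x Cm) := fun x => by
    rw [hcdef, bi, show Cm = mm (mm (mm Am (mm Bm Bm)) Am) Bm from rfl]
    exact conj_comp (conj_comp (conj_comp actA (conj_comp actB actB)) actA) actB x
  have ccM : cc ∈ M := mul_mem (mul_mem (mul_mem aM (inv_mem bM)) aM) bM
  obtain ⟨k, hk⟩ := C'.mem_of_mat (pow_mem ccM 4) (conj_power cact 4) c_four
  have kC : vm k Cm = k := C'.inj (by rw [← cact, hk]; group)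
  have acA : a * cc * a = cc⁻¹ := by
    have : a * cc * a * cc = 1 := by
      rw [hcdef, show a * (a * b⁻¹ * a * b) * a * (a * b⁻¹ * a * b) = (a * a) * b⁻¹ * a * b * (a * a) * b⁻¹ * a * b by
        group, haa]
      rw [show (1 : G) * b⁻¹ * a * b * 1 * b⁻¹ * a * b = b⁻¹ * (a * a) * b by group, haa]
      group
    exact eq_inv_of_mul_eq_one_left this
  have kA : vm k Am = -k := C'.inj (by
    rw [← actA, kel_neg C'.tri, hk, ai, ← inv_pow, ← acA]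
    have := (conj_pow (a := a) (b := cc) (i := 4)).symm
    rw [ai] at this
    exact this)
  have kR : kel K0 K1 K2 k ∈ R := by
    have hc2 : cc ^ 2 ∈ H := by
      rw [hy.memH]
      have h' := conj_power cact 2 (0, 2, 2)
      rw [show vm ((0, 2, 2) : Z3) (pw3 Cm 2) = (0, 2, 2) by decide +kernel, tval] at h'
      calc cc ^ 2 * t = cc ^ 2 * ((cc ^ 2)⁻¹ * t * cc ^ 2) := by rw [h']
        _ = t * cc ^ 2 := by group
    have e : a * ((cc ^ 2)⁻¹ * a * cc ^ 2) = cc ^ 4 := by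
      have : a * (cc ^ 2)⁻¹ * a = cc ^ 2 := by
        rw [← inv_pow, ← acA]
        have h' := conj_pow (a := a) (b := cc) (i := 2)
        rw [ai] at h'
        rw [h', show a * (a * cc ^ 2 * a) * a = a * a * cc ^ 2 * (a * a) by group, haa]
        group
      rw [show a * ((cc ^ 2)⁻¹ * a * cc ^ 2) = a * (cc ^ 2)⁻¹ * a * cc ^ 2 by group, this, ← pow_add]
    rw [hk, ← e]
    exact mul_mem haR (hy.Rn _ hc2 a haR)
  have k2c : k + k = 0 ∨ k + k = (0, 2, 2) := by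
    rcases hy.Rsq _ kR with e | e
    · exact Or.inl (C'.inj (by rw [kel_add C'.tri, e, kel_zero]))
    · exact Or.inr (C'.inj (by rw [kel_add C'.tri, e, tval]))
  rcases k_cases k kC kA k2c with hk' | hk' <;> subst hk'
  · exact ⟨a, b, K0, K1, K2, ⟨C', aM, bM, haa, hb3, hab, by rw [← hcdef, ← hk, kel_zero], actA, actB, tval,
      Or.inl haR⟩⟩
  · -- change the involution
    set e : Z3 := (3, 0, 0) with he
    set a' := a * kel K0 K1 K2 e with ha'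
    have a'M : a' ∈ M := mul_mem aM (hy.KM (C'.mem e))
    have a'A : ∀ x, a'⁻¹ * kel K0 K1 K2 x * a' = kel K0 K1 K2 (vm x Am) := fun x => by
      rw [ha', show (a * kel K0 K1 K2 e)⁻¹ * kel K0 K1 K2 x * (a * kel K0 K1 K2 e) =
        (kel K0 K1 K2 e)⁻¹ * (a⁻¹ * kel K0 K1 K2 x * a) * kel K0 K1 K2 e by group, actA, mul_assoc,
        (kel_comm C'.tri _ _).eq, inv_mul_cancel_left]
    have a'a : a' * a' = 1 := by
      calc a' * a' = a * a * (a⁻¹ * kel K0 K1 K2 e * a) * kel K0 K1 K2 e := by rw [ha']; group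
        _ = 1 := by
          rw [haa, one_mul, actA, ← kel_add C'.tri, show vm e Am + e = 0 by rw [he]; decide, kel_zero]
    refine ⟨a', b, K0, K1, K2, ⟨C', a'M, bM, a'a, hb3, C'.seven (mul_mem a'M bM) (fun x => ?_), ?_, a'A, actB, tval,
      Or.inr ?_⟩⟩
    · rw [show Fm = mm Am Bm by decide +kernel]
      exact conj_comp a'A actB x
    · have hG : ∀ x, (b⁻¹ * a * b)⁻¹ * kel K0 K1 K2 x * (b⁻¹ * a * b) =
          kel K0 K1 K2 (vm x (mm (mm Bm Bm) (mm Am Bm))) := fun x => by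
        rw [show b⁻¹ * a * b = b * b * (a * b) by rw [bi]; group]
        exact conj_comp (conj_comp actB actB) (conj_comp actA actB) x
      have hc' : a' * b⁻¹ * a' * b = cc * kel K0 K1 K2 (vm e (mm (mm Bm Bm) (mm Am Bm)) + vm e Bm) := by
        rw [kel_add C'.tri, ← hG, ← actB, ha', hcdef]
        group
      obtain ⟨w, hw⟩ : ∃ w, w = vm e (mm (mm Bm Bm) (mm Am Bm)) + vm e Bm := ⟨_, rfl⟩
      rw [← hw] at hc'
      have p2 : (cc * kel K0 K1 K2 w) ^ 2 = cc ^ 2 * kel K0 K1 K2 (vm w Cm + w) := by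
        rw [kel_add C'.tri, ← cact, pow_two]; group
      obtain ⟨w2, hw2⟩ : ∃ w2, w2 = vm w Cm + w := ⟨_, rfl⟩
      rw [← hw2] at p2
      have p4 : (cc * kel K0 K1 K2 w) ^ 4 = cc ^ 4 * kel K0 K1 K2 (vm w2 (pw3 Cm 2) + w2) := by
        rw [show (cc * kel K0 K1 K2 w) ^ 4 = ((cc * kel K0 K1 K2 w) ^ 2) ^ 2 by rw [← pow_mul], p2, kel_add C'.tri,
          ← conj_power cact 2, show cc ^ 4 = cc ^ 2 * cc ^ 2 by rw [← pow_add]]
        rw [pow_two (cc ^ 2 * kel K0 K1 K2 w2)]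
        group
      rw [hc', p4, ← hk, ← kel_add C'.tri, show ((2, 2, 2) : Z3) + (vm w2 (pw3 Cm 2) + w2) = 0 by
        rw [hw2, hw, he]; decide +kernel, kel_zero]
    · have h0' : kel K0 K1 K2 e * kel K0 K1 K2 (1, 0, 0) = 1 := by
        rw [← kel_add C'.tri, show e + (1, 0, 0) = 0 by rw [he]; decide, kel_zero]
      rw [kel_e0] at h0'
      rw [ha', mul_assoc, h0', mul_one]
      exact haR

end Cfsg.Agent.Grp.HSCent
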