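import Cfsg.Agent.Lib.Grp.HSCent.HStep
import Cfsg.Agent.Lib.Grp.HSCent.Cert.HCosCert

/-!
# The centraliser has the relations of the model
-/

set_option autoImplicit false
set_option maxRecDepth 100000

open Cfsg.Agent.Spor.Cos Cfsg.Agent.Spor.Cos.Triple

namespace Cfsg.Agent.Grp.HSCent

universe u

/-- The six letters in the group. -/
def g6 {G : Type u} (p : ℕ → G) (h : G) (s : ℕ) : G := if s = 5 then h else p s

/-- The letters of the centraliser. -/
def hLet : List ℕ := [0, 1, 2, 3, 5]

theorem hl_letters : ∀ i < 7680, (decWord 24 (hlU.at i)).all (fun s => hLet.contains s) = true := by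
  refine of_blocks (size := 512) (b := 15) (by decide) (by decide) fun j hj => ?_
  interval_cases j <;> decide +kernel

theorem hbase_model : hCosBase.all (fun w =>
    (w.all fun s => Nat.blt s 5) && sameW actL pts (w.map fun i => hLet.getD i 7) []) = true := by
  decide +kernel

theorem card_hl : Nat.card (val l0 (singles hLet)) = 7680 := by
  obtain ⟨-, hc⟩ := closedList (g := l0) homL pts_ltL detL hl_chk (i0 := hlOne) (by decide)
    (eqL (w := []) (by decide +kernel))
  have e : hlG = singles hLet := rfl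
  rw [← e]
  refine hc fun i hi => ?_
  rw [e]
  exact ev_mem_val _ fun s hs => List.contains_iff_mem.1 (List.all_eq_true.1 (hl_letters i hi) s hs)

/-- Words trivial in the second group and trivial in the first give a comparison of orders. -/
theorem card_ge_of_iff {A B : Type*} [Group A] [Group B] {f : ℕ → A} {g : ℕ → B} (hf : ∀ s, f s * f s = 1)
    (hg : ∀ s, g s * g s = 1) {L : List ℕ} [Finite (val f (singles L))]
    (h : ∀ w : List ℕ, (∀ s ∈ w, s ∈ L) → ev f w = 1 → ev g w = 1) :
    Nat.card (val g (singles L)) ≤ Nat.card (val f (singles L)) := by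
  classical
  let F : val g (singles L) → val f (singles L) := fun y =>
    ⟨ev f (exists_word hg y.2).choose, ev_mem_val _ (exists_word hg y.2).choose_spec.1⟩
  refine Nat.card_le_card_of_injective F fun x y e => Subtype.ext ?_
  have e' : ev f (exists_word hg x.2).choose = ev f (exists_word hg y.2).choose := congrArg Subtype.val e
  obtain ⟨hx, ex⟩ := (exists_word hg x.2).choose_spec
  obtain ⟨hy, ey⟩ := (exists_word hg y.2).choose_spec
  have := h ((exists_word hg x.2).choose.reverse ++ (exists_word hg y.2).choose) (fun s hs => by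
    rcases List.mem_append.1 hs with a | a
    exacts [hx s (List.mem_reverse.1 a), hy s a]) (by rw [ev_append, ev_rev hf, e', inv_mul_cancel])
  rw [ev_append, ev_rev hg, inv_mul_eq_one] at this
  rw [← ex, ← ey, this]

variable {G : Type u} [Group G]

theorem ev_g6_low (p : ℕ → G) (h : G) : ∀ w : List ℕ, (∀ s ∈ w, s < 5) → ev (g6 p h) w = ev p w
  | [], _ => rfl
  | s :: w, hw => by
    show g6 p h s * _ = p s * _
    rw [g6, if_neg (by have := hw s (List.mem_cons_self ..); omega),
      ev_g6_low p h w fun x hx => hw x (List.mem_cons_of_mem _ hx)]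

theorem ev_g6_hLet (p : ℕ → G) (h : G) : ∀ w : List ℕ, (∀ s ∈ w, s < 5) →
    ev (g6 p h) (w.map fun i => hLet.getD i 7) = ev (ext p h) w
  | [], _ => rfl
  | s :: w, hw => by
    have hs : g6 p h (hLet.getD s 7) = ext p h s := by
      have := hw s (List.mem_cons_self ..)
      interval_cases s <;> rfl
    show g6 p h (hLet.getD s 7) * _ = ext p h s * _
    rw [hs, ev_g6_hLet p h w fun x hx => hw x (List.mem_cons_of_mem _ hx)]

variable [Finite G] {t : G} {H R V M K : Subgroup G} {qg : ℕ → G} {h : G}

/-- The centraliser in the letters. -/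
structure Slice (t : G) (H R M : Subgroup G) (g : ℕ → G) : Prop where
  sq : ∀ s, g s * g s = 1
  iffM : ∀ v w : List ℕ, (∀ s ∈ v, s < 5) → (∀ s ∈ w, s < 5) → (ev g v = ev g w ↔ ev l0 v = ev l0 w)
  iffH : ∀ v w : List ℕ, (∀ s ∈ v, s ∈ hLet) → (∀ s ∈ w, s ∈ hLet) → (ev g v = ev g w ↔ ev l0 v = ev l0 w)
  bound : Bound (fun i => (g i, l0 i)) hLet 7680
  tval : ev g tL = t
  memH : ∀ w, (∀ s ∈ w, s ∈ hLet) → ev g w ∈ H
  surjH : ∀ y ∈ H, ∃ i < 7680, ev g (decWord 24 (hlU.at i)) = y
  four_notMem : g 4 ∉ H

theorem exists_slice (hy : Hyp t H R V M K) (C : HConf t H R M qg h) : Slice t H R M (g6 (pf qg) h) := by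
  set p := pf qg
  set g := g6 p h with hg
  have L := C.lconf
  have gsq : ∀ s, g s * g s = 1 := fun s => by
    rw [hg, g6]; split_ifs <;> first | exact C.sq | exact L.sq s
  have low := ev_g6_low p h
  have iffM : ∀ v w : List ℕ, (∀ s ∈ v, s < 5) → (∀ s ∈ w, s < 5) → (ev g v = ev g w ↔ ev l0 v = ev l0 w) :=
    fun v w hv hw => by rw [low v hv, low w hw]; exact L.iff v w hv hw
  have four5 : ∀ {w : List ℕ}, (∀ s ∈ w, s ∈ four) → ∀ s ∈ w, s < 5 := fun {w} hw s hs => by
    have := mem_four.1 (hw s hs); omega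
  have hb0 : Bound (fun i => (g i, l0 i)) four 1536 := bound_of_iff gsq l0_sq card_bl.le fun w hw e =>
    (iffM w [] (four5 hw) (by simp)).2 e
  have hp : ∀ s, (g s, l0 s) * (g s, l0 s) = 1 := fun s => Prod.ext (gsq s) (l0_sq s)
  have hb : Bound (fun i => (g i, l0 i)) hLet (5 * 1536) := by
    refine Bound.step (d := 7) hp hb0 hCos hCos_checks rfl (by decide +kernel) (base := hCosBase) ?_ hCos_derived
    intro r hr
    have := List.all_eq_true.1 hbase_model r hr
    simp only [Bool.and_eq_true, List.all_eq_true] at this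
    have hl : ∀ s ∈ r, s < 5 := fun s hs => Nat.le_of_ble_eq_true (this.1 s hs)
    rw [ev_pair]
    exact Prod.ext ((ev_g6_hLet p h r hl).trans (C.base r hr)) (eqL (w := []) this.2)
  have memH : ∀ w, (∀ s ∈ w, s ∈ hLet) → ev g w ∈ H := fun w hw => ev_mem w fun s hs => by
    have := hw s hs
    simp only [hLet, List.mem_cons, List.not_mem_nil, or_false] at this
    rw [hg, g6]
    split_ifs
    · exact C.hH
    · exact L.comm s (by omega)
  haveI := (card_le_of_bound hb).1
  have hle : val g (singles hLet) ≤ H := by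
    refine (Subgroup.closure_le _).2 ?_
    rintro _ ⟨w, hw, rfl⟩
    obtain ⟨s, hs, rfl⟩ := List.mem_map.1 hw
    exact memH [s] (by simpa using hs)
  have h4 : val g (singles four) < val g (singles hLet) := by
    refine lt_of_le_of_ne ((Subgroup.closure_le _).2 ?_) fun e => C.hM ?_
    · rintro _ ⟨w, hw, rfl⟩
      obtain ⟨s, hs, rfl⟩ := List.mem_map.1 hw
      refine ev_mem_val _ fun x hx => ?_
      simp only [List.mem_singleton] at hx
      have := mem_four.1 hs
      simp only [hLet, List.mem_cons, List.not_mem_nil, or_false]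
      omega
    · have hh : h ∈ val g (singles four) := e ▸ (show g 5 ∈ val g (singles hLet) from mem_single (by decide))
      refine (Subgroup.closure_le _).2 ?_ hh
      rintro _ ⟨w, hw, rfl⟩
      obtain ⟨s, hs, rfl⟩ := List.mem_map.1 hw
      have := mem_four.1 hs
      rw [show ev g [s] = p s by simp [ev, hg, g6, show s ≠ 5 by omega]]
      exact L.mM s (by omega)
  have c4 : 1536 ≤ Nat.card (val g (singles four)) :=
    card_bl ▸ card_ge_of_iff gsq l0_sq fun w hw e => (iffM w [] (four5 hw) (by simp)).1 e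
  have htop : val g (singles hLet) = H := by
    refine Subgroup.eq_of_le_of_card_ge hle ?_
    rw [hy.cardH]
    obtain ⟨a, ha⟩ := Subgroup.card_dvd_of_le hle
    obtain ⟨b, hb'⟩ := Subgroup.card_dvd_of_le h4.le
    rw [hy.cardH] at ha
    have c4' : Nat.card (val g (singles four)) = 1536 := by
      haveI := (card_le_of_bound hb0).1
      exact le_antisymm (card_le_of_bound hb0).2 c4
    rw [c4'] at hb'
    have hb1 : b ≠ 1 := fun e => by
      rw [e, mul_one] at hb'
      exact h4.ne (Subgroup.eq_of_le_of_card_ge h4.le (by rw [hb', c4']))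
    have h5 : b * a = 5 := by
      rw [hb', mul_assoc] at ha
      omega
    have : b = 5 := ((Nat.dvd_prime (by norm_num : Nat.Prime 5)).1 ⟨a, h5.symm⟩).resolve_left hb1
    rw [hb', this]
  have hcard : 5 * 1536 ≤ Nat.card (val g (singles hLet)) := by rw [htop, hy.cardH]
  have iffH : ∀ v w : List ℕ, (∀ s ∈ v, s ∈ hLet) → (∀ s ∈ w, s ∈ hLet) →
      (ev g v = ev g w ↔ ev l0 v = ev l0 w) := fun v w hv hw =>
    ⟨faith' hb hcard hv hw, faith hb (by rw [card_hl]) hv hw⟩
  refine ⟨gsq, iffM, iffH, hb, ?_, memH, fun y hy' => ?_, ?_⟩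
  · rw [low tL (by decide), L.tval]
  · rw [← htop] at hy'
    obtain ⟨w, hw, rfl⟩ := exists_word gsq hy'
    have em : ev l0 w ∈ val l0 (singles hLet) := ev_mem_val _ hw
    rw [← show hlG = singles hLet from rfl] at em
    obtain ⟨i, hi, e⟩ := (closedList (g := l0) homL pts_ltL detL hl_chk (i0 := hlOne) (by decide)
      (eqL (w := []) (by decide +kernel))).1 _ em
    exact ⟨i, hi, (iffH _ _ (fun s hs => List.contains_iff_mem.1 (List.all_eq_true.1 (hl_letters i hi) s hs)) hw).2 e⟩
  · rw [hg, g6, if_neg (by norm_num)]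
    exact L.mH

end Cfsg.Agent.Grp.HSCent
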