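import Cfsg.Agent.Lib.Spor.Cos.Bound
import Cfsg.Agent.Lib.Spor.Cos.Act

/-!
# Two groups with the same relations on involutions
-/

set_option autoImplicit false

open Cfsg.Agent.Spor.Cos

namespace Cfsg.Agent.Grp.HSCent

section

variable {A : Type*} [Group A] {B : Type*} [Group B] (f : ℕ → A) (g : ℕ → B)

theorem ev_pair (w : List ℕ) : ev (fun i => (f i, g i)) w = (ev f w, ev g w) :=
  Prod.ext (ev_map (MonoidHom.fst A B) _ w) (ev_map (MonoidHom.snd A B) _ w)

theorem ev_rev {f : ℕ → A} (hinv : ∀ s, f s * f s = 1) : ∀ w : List ℕ, ev f w.reverse = (ev f w)⁻¹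
  | [] => by simp [ev]
  | s :: w => by
    rw [List.reverse_cons, ev_append, ev_rev hinv w]
    have hi : (f s)⁻¹ = f s := inv_eq_of_mul_eq_one_left (hinv s)
    simp [ev, hi]

theorem ev_mem_val {L : List ℕ} {w : List ℕ} (hw : ∀ s ∈ w, s ∈ L) : ev f w ∈ val f (singles L) :=
  ev_mem w fun s hs => mem_single (hw s hs)

theorem exists_word {f : ℕ → A} (hinv : ∀ s, f s * f s = 1) {L : List ℕ} {y : A}
    (hy : y ∈ val f (singles L)) : ∃ w : List ℕ, (∀ s ∈ w, s ∈ L) ∧ ev f w = y := by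
  refine Subgroup.closure_induction (p := fun y _ => ∃ w : List ℕ, (∀ s ∈ w, s ∈ L) ∧ ev f w = y) ?_ ?_ ?_ ?_ hy
  · rintro _ ⟨v, hv, rfl⟩
    obtain ⟨s, hs, rfl⟩ := List.mem_map.1 hv
    exact ⟨[s], by simpa using hs, rfl⟩
  · exact ⟨[], by simp, rfl⟩
  · rintro _ _ _ _ ⟨v, hv, rfl⟩ ⟨w, hw, rfl⟩
    exact ⟨v ++ w, fun s hs => (List.mem_append.1 hs).elim (hv s) (hw s), ev_append f v w⟩
  · rintro _ _ ⟨v, hv, rfl⟩
    exact ⟨v.reverse, fun s hs => hv s (List.mem_reverse.1 hs), ev_rev hinv v⟩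

theorem map_val (φ : A →* B) (L : List ℕ) (h : ∀ s, φ (f s) = g s) :
    (val f (singles L)).map φ = val g (singles L) := by
  rw [val, val, MonoidHom.map_closure]
  congr 1
  ext y
  simp only [Set.mem_image, Set.mem_setOf_eq, singles, List.mem_map]
  constructor
  · rintro ⟨_, ⟨w, ⟨s, hs, rfl⟩, rfl⟩, rfl⟩
    exact ⟨[s], ⟨s, hs, rfl⟩, by simp [ev, h]⟩
  · rintro ⟨w, ⟨s, hs, rfl⟩, rfl⟩
    exact ⟨f s, ⟨[s], ⟨s, hs, rfl⟩, by simp [ev]⟩, by simp [ev, h]⟩

end

section

variable {A : Type*} [Group A] {B : Type*} [Group B] {f : ℕ → A} {g : ℕ → B} {L : List ℕ} {k : ℕ}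

/-- A surjection from a finite group of at most the order of its image is injective. -/
theorem injOn_of_card {D : Subgroup A} [Finite D] (φ : A →* B) (hk : Nat.card D ≤ Nat.card (D.map φ))
    {x y : A} (hx : x ∈ D) (hy : y ∈ D) (e : φ x = φ y) : x = y := by
  let r : D → D.map φ := fun d => ⟨φ d, Subgroup.mem_map_of_mem φ d.2⟩
  have hs : Function.Surjective r := by
    rintro ⟨_, d, hd, rfl⟩
    exact ⟨⟨d, hd⟩, rfl⟩
  have hb := hs.bijective_of_nat_card_le hk
  exact congrArg Subtype.val (hb.1 (a₁ := ⟨x, hx⟩) (a₂ := ⟨y, hy⟩) (Subtype.ext e))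

/-- Words equal in the second group are equal in the first. -/
theorem faith (hb : Bound (fun i => (f i, g i)) L k) (hk : k ≤ Nat.card (val g (singles L))) {v w : List ℕ}
    (hv : ∀ s ∈ v, s ∈ L) (hw : ∀ s ∈ w, s ∈ L) (e : ev g v = ev g w) : ev f v = ev f w := by
  haveI := hb.1
  have h := injOn_of_card (MonoidHom.snd A B) (hb.2.trans (by rwa [map_val _ g _ L fun s => rfl]))
    (ev_mem_val _ hv) (ev_mem_val _ hw) (by simpa [ev_pair] using e)
  simpa [ev_pair] using congrArg Prod.fst h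

/-- Words equal in the first group are equal in the second. -/
theorem faith' (hb : Bound (fun i => (f i, g i)) L k) (hk : k ≤ Nat.card (val f (singles L))) {v w : List ℕ}
    (hv : ∀ s ∈ v, s ∈ L) (hw : ∀ s ∈ w, s ∈ L) (e : ev f v = ev f w) : ev g v = ev g w := by
  haveI := hb.1
  have h := injOn_of_card (MonoidHom.fst A B) (hb.2.trans (by rwa [map_val _ f _ L fun s => rfl]))
    (ev_mem_val _ hv) (ev_mem_val _ hw) (by simpa [ev_pair] using e)
  simpa [ev_pair] using congrArg Prod.snd h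

/-- The order in the first group is at most the bound. -/
theorem card_le_of_bound (hb : Bound (fun i => (f i, g i)) L k) :
    Finite (val f (singles L)) ∧ Nat.card (val f (singles L)) ≤ k := by
  haveI := hb.1
  have e := map_val (fun i => (f i, g i)) f (MonoidHom.fst A B) L fun s => rfl
  let r : val (fun i => (f i, g i)) (singles L) → val f (singles L) := fun d =>
    ⟨d.1.1, e ▸ Subgroup.mem_map_of_mem (MonoidHom.fst A B) d.2⟩
  have hs : Function.Surjective r := by
    rintro ⟨y, hy⟩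
    have hy' := hy
    rw [← e] at hy'
    obtain ⟨d, hd, rfl⟩ := hy'
    exact ⟨⟨d, hd⟩, rfl⟩
  exact ⟨Finite.of_surjective r hs, (Nat.card_le_card_of_surjective r hs).trans hb.2⟩

/-- A bound for the pairs from one of the two groups. -/
theorem bound_of_iff (hf : ∀ s, f s * f s = 1) (hg : ∀ s, g s * g s = 1) [Finite (val g (singles L))]
    (hk : Nat.card (val g (singles L)) ≤ k)
    (h : ∀ w : List ℕ, (∀ s ∈ w, s ∈ L) → ev g w = 1 → ev f w = 1) : Bound (fun i => (f i, g i)) L k := by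
  set p : ℕ → A × B := fun i => (f i, g i) with hp
  have e := map_val p g (MonoidHom.snd A B) L fun s => rfl
  have hinj : ∀ x ∈ val p (singles L), x.2 = 1 → x = 1 := by
    intro x hx h1
    obtain ⟨w, hw, rfl⟩ := exists_word (f := p) (fun s => Prod.ext (hf s) (hg s)) hx
    rw [ev_pair] at h1 ⊢
    exact Prod.ext (h w hw h1) h1
  let r : val p (singles L) → val g (singles L) := fun d =>
    ⟨d.1.2, e ▸ Subgroup.mem_map_of_mem (MonoidHom.snd A B) d.2⟩
  have hr : Function.Injective r := fun x y exy => by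
    have hv : x.1.2 = y.1.2 := congrArg Subtype.val exy
    have := hinj _ (mul_mem (inv_mem x.2) y.2) (by simp [hv])
    exact Subtype.ext (inv_mul_eq_one.1 this)
  exact ⟨Finite.of_injective r hr, (Nat.card_le_card_of_injective r hr).trans hk⟩

end

end Cfsg.Agent.Grp.HSCent
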