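import Mathlib.Data.Nat.Notation

/-! Words for the generation of the whole group. -/

set_option autoImplicit false

namespace Cfsg.Agent.Grp.HSCent

/-- The segments of the word leaving and returning to the centraliser. -/
def segW : List (List ℕ) := [[4], [5], [4], [5], [3, 4, 3, 2], [5], [4]]

/-- The sixteen chains of elements of the common subgroup along the segments. -/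
def chainW : List (List (List ℕ)) := [
  [[], [], [], [], [], [], [], []],
  [[0, 3, 0, 2, 0, 2, 3], [0, 2, 3, 1, 3, 1, 3], [3, 0, 2, 0, 2, 3], [0, 3, 0, 3, 0, 3, 0, 3], [0, 3, 0, 3, 0, 3, 0, 3], [0, 2, 0, 2], [0, 1, 3, 1, 2], [0]],
  [[3, 0, 2, 0, 2, 3], [0, 3, 0, 3, 0, 3, 0, 3], [0, 3, 0, 3, 0, 3, 0, 3], [3, 0, 2, 0, 2, 3], [0, 2, 3, 1, 3, 1, 3], [1, 3, 1, 2], [2, 0, 2], [1, 3, 1, 0, 2]],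
  [[0], [0, 1, 3, 1, 2], [0, 2, 0, 2], [0, 2, 0, 2], [0, 1, 3, 1, 2], [0, 1, 3, 1, 0, 2], [0, 1, 3, 1, 0, 2], [0, 1, 3, 1, 0, 2]],
  [[3, 0, 3, 0, 3, 0, 3], [2, 0, 3, 1, 3, 1, 3], [2, 0, 3, 1, 3, 1, 3], [3, 0, 3, 0, 3, 0, 3], [3, 0, 3, 0, 3, 0, 3], [0, 3, 0, 2, 0, 2, 3], [2, 3, 1, 3, 1, 3], [1, 0, 3, 0, 1, 3, 2]],
  [[0, 2, 0, 2], [0, 2, 0, 2], [0, 1, 3, 1, 2], [0], [0], [3, 0, 3, 0, 3, 0, 3], [3, 0, 3, 0, 3, 0, 3], [2, 0, 3, 1, 3, 1, 3]],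
  [[2, 0, 2], [1, 3, 1, 0, 2], [1, 3, 1, 0, 2], [2, 0, 2], [1, 3, 1, 2], [2, 0, 3, 1, 3, 1, 3], [2, 0, 3, 1, 3, 1, 3], [3, 0, 3, 0, 3, 0, 3]],
  [[0, 3, 0, 3, 0, 3, 0, 3], [3, 0, 2, 0, 2, 3], [0, 2, 3, 1, 3, 1, 3], [0, 3, 0, 2, 0, 2, 3], [2, 3, 1, 3, 1, 3], [0, 2, 3, 1, 3, 1, 3], [3, 0, 2, 0, 2, 3], [0, 3, 0, 3, 0, 3, 0, 3]],
  [[0, 2, 3, 1, 3, 1, 3], [0, 3, 0, 2, 0, 2, 3], [2, 3, 1, 3, 1, 3], [1, 0, 3, 0, 1, 3, 2], [1, 0, 3, 0, 1, 3, 2], [0, 1, 3, 1, 2], [0, 2, 0, 2], [0, 2, 0, 2]],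
  [[0, 1, 3, 1, 0, 2], [0, 1, 3, 1, 0, 2], [0, 1, 3, 1, 0, 2], [0, 1, 3, 1, 0, 2], [0, 1, 3, 1, 0, 2], [1, 3, 1, 0, 2], [1, 3, 1, 0, 2], [2, 0, 2]],
  [[1, 3, 1, 0, 2], [2, 0, 2], [1, 3, 1, 2], [1, 3, 1, 2], [2, 0, 2], [0], [0], [0, 1, 3, 1, 2]],
  [[2, 3, 1, 3, 1, 3], [1, 0, 3, 0, 1, 3, 2], [1, 0, 3, 0, 1, 3, 2], [2, 3, 1, 3, 1, 3], [0, 3, 0, 2, 0, 2, 3], [2, 0, 2], [1, 3, 1, 2], [1, 3, 1, 2]],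
  [[1, 3, 1, 2], [1, 3, 1, 2], [2, 0, 2], [1, 3, 1, 0, 2], [1, 3, 1, 0, 2], [1, 0, 3, 0, 1, 3, 2], [1, 0, 3, 0, 1, 3, 2], [2, 3, 1, 3, 1, 3]],
  [[2, 0, 3, 1, 3, 1, 3], [3, 0, 3, 0, 3, 0, 3], [3, 0, 3, 0, 3, 0, 3], [2, 0, 3, 1, 3, 1, 3], [2, 0, 3, 1, 3, 1, 3], [2, 3, 1, 3, 1, 3], [0, 3, 0, 2, 0, 2, 3], [0, 2, 3, 1, 3, 1, 3]],
  [[1, 0, 3, 0, 1, 3, 2], [2, 3, 1, 3, 1, 3], [0, 3, 0, 2, 0, 2, 3], [0, 2, 3, 1, 3, 1, 3], [3, 0, 2, 0, 2, 3], [3, 0, 2, 0, 2, 3], [0, 2, 3, 1, 3, 1, 3], [0, 3, 0, 2, 0, 2, 3]],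
  [[0, 1, 3, 1, 2], [0], [0], [0, 1, 3, 1, 2], [0, 2, 0, 2], [0, 3, 0, 3, 0, 3, 0, 3], [0, 3, 0, 3, 0, 3, 0, 3], [3, 0, 2, 0, 2, 3]]]

/-- The candidates for the value of the word. -/
def candW : List (List ℕ) := [[1, 2, 0, 1, 3, 5, 2], [1, 2, 1, 5, 2, 1], [5, 1, 2, 3, 0, 1], [0, 1, 2, 1, 5, 2, 1], [0, 5, 1, 2, 3, 0, 1], [1, 2, 0, 3, 5, 1, 3], [1, 2, 0, 5, 1, 3, 5], [1, 2, 1, 5, 2, 1, 0], [2, 0, 5, 3, 0, 3, 5], [3, 5, 1, 2, 3, 5, 1], [5, 1, 2, 0, 1, 3, 2], [5, 1, 2, 0, 3, 1, 3], [0, 1, 2, 0, 3, 5, 1, 3], [0, 1, 2, 0, 5, 1, 3, 5], [0, 1, 2, 1, 5, 2, 1, 0], [0, 5, 1, 2, 0, 3, 1, 3]]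

/-- The generators of the group on 100 points in the second alphabet. -/
def genW : List (List ℕ) := [[3, 0, 3, 2, 3, 0, 3], [1, 5, 3, 4, 1, 2, 5, 4, 0, 3, 5, 0, 1], [0, 3, 0, 3, 0, 3, 0, 3]]

end Cfsg.Agent.Grp.HSCent
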