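import Cfsg.Agent.Lib.Grp.HSCent.Slice
import Cfsg.Agent.Lib.Grp.HSCent.TopData
import Cfsg.Agent.Lib.Grp.HSCent.Cert.TopCosCert
import Cfsg.Agent.Lib.Grp.HSCent.Cert.Off0Cert
import Cfsg.Agent.Lib.Grp.HSCent.Cert.Off1Cert
import Cfsg.Agent.Lib.Grp.HSCent.Cert.Off2Cert
import Cfsg.Agent.Lib.Grp.HSCent.Cert.Off3Cert
import Cfsg.Agent.Lib.Grp.HSCent.Cert.Off4Cert
import Cfsg.Agent.Lib.Grp.HSCent.Cert.Off5Cert
import Cfsg.Agent.Lib.Grp.HSCent.Cert.Off6Cert
import Cfsg.Agent.Lib.Grp.HSCent.Cert.Off7Cert
import Cfsg.Agent.Lib.Grp.HSCent.Cert.Off8Cert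
import Cfsg.Agent.Lib.Grp.HSCent.Cert.Off9Cert
import Cfsg.Agent.Lib.Grp.HSCent.Cert.Off10Cert
import Cfsg.Agent.Lib.Grp.HSCent.Cert.Off11Cert
import Cfsg.Agent.Lib.Grp.HSCent.Cert.Off12Cert
import Cfsg.Agent.Lib.Grp.HSCent.Cert.Off13Cert
import Cfsg.Agent.Lib.Grp.HSCent.Cert.Off14Cert

/-!
# A copy of the group on 100 points
-/

set_option autoImplicit false
set_option maxRecDepth 100000

open Cfsg.Agent.Spor.Cos Cfsg.Agent.Spor.Cos.Triple

namespace Cfsg.Agent.Grp.HSCent

universe u

/-- A segment carries one word to the next. -/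
noncomputable def stepOk (s x y : List ℕ) : Bool :=
  sameW actL pts (x ++ s) (s ++ y) &&
    (((x ++ (s ++ y)).all fun a => Nat.blt a 5) || (x ++ (s ++ y)).all fun a => hLet.contains a)

/-- The segments carry a chain along. -/
noncomputable def chainOk : List (List ℕ) → List (List ℕ) → Bool
  | s :: ss, x :: y :: r => stepOk s x y && chainOk ss (y :: r)
  | [], [_] => true
  | _, _ => false

theorem chains_ok : chainW.all (fun c => chainOk segW c) = true := by decide +kernel

/-- The candidate condition on an element of the centraliser. -/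
noncomputable def candOk (i : ℕ) : Bool :=
  (fun w : List ℕ =>
    !(chainW.all fun c => agree actL pts (c.headD [] ++ w) (w ++ c.getLastD [])) ||
      candW.any fun k => sameW actL pts w k) (decWord 24 (hlU.at i))

theorem cand_chk : ∀ i < 7680, candOk i = true := by
  refine of_blocks (size := 512) (b := 15) (by decide) (by decide) fun j hj => ?_
  interval_cases j <;> decide +kernel

theorem chain_ends : chainW.all (fun c => ((c.headD []).all fun a => Nat.blt a 4) &&
    (c.getLastD []).all fun a => Nat.blt a 4) = true := by decide +kernel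

theorem cand_letters : candW.all (fun w => w.all fun a => hLet.contains a) = true := by decide +kernel

theorem t_chain : sameW actL pts ((chainW.getD 7 []).headD []) tL = true ∧
    sameW actL pts ((chainW.getD 7 []).getLastD []) tL = true := by decide +kernel

theorem rel_chk : (topCosBase.take 10).all (fun w => sameW actL pts w [] &&
    ((w.all fun a => Nat.blt a 5) || w.all fun a => hLet.contains a)) = true := by decide +kernel

theorem topCosBase_eq : topCosBase = topCosBase.take 10 ++ [segW.flatten ++ (candW.getD 0 []).reverse] := by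
  decide +kernel

theorem topCosBase_model : topCosBase.all (fun w => (w.all fun a => Nat.blt a 6) && sameW actL pts w []) = true := by
  decide +kernel

theorem off0Base_eq : off0Base = topCosBase.take 10 ++ [segW.flatten ++ (candW.getD 1 []).reverse] := by
  decide +kernel

theorem off1Base_eq : off1Base = topCosBase.take 10 ++ [segW.flatten ++ (candW.getD 2 []).reverse] := by
  decide +kernel

theorem off2Base_eq : off2Base = topCosBase.take 10 ++ [segW.flatten ++ (candW.getD 3 []).reverse] := by
  decide +kernel

theorem off3Base_eq : off3Base = topCosBase.take 10 ++ [segW.flatten ++ (candW.getD 4 []).reverse] := by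
  decide +kernel

theorem off4Base_eq : off4Base = topCosBase.take 10 ++ [segW.flatten ++ (candW.getD 5 []).reverse] := by
  decide +kernel

theorem off5Base_eq : off5Base = topCosBase.take 10 ++ [segW.flatten ++ (candW.getD 6 []).reverse] := by
  decide +kernel

theorem off6Base_eq : off6Base = topCosBase.take 10 ++ [segW.flatten ++ (candW.getD 7 []).reverse] := by
  decide +kernel

theorem off7Base_eq : off7Base = topCosBase.take 10 ++ [segW.flatten ++ (candW.getD 8 []).reverse] := by
  decide +kernel

theorem off8Base_eq : off8Base = topCosBase.take 10 ++ [segW.flatten ++ (candW.getD 9 []).reverse] := by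
  decide +kernel

theorem off9Base_eq : off9Base = topCosBase.take 10 ++ [segW.flatten ++ (candW.getD 10 []).reverse] := by
  decide +kernel

theorem off10Base_eq : off10Base = topCosBase.take 10 ++ [segW.flatten ++ (candW.getD 11 []).reverse] := by
  decide +kernel

theorem off11Base_eq : off11Base = topCosBase.take 10 ++ [segW.flatten ++ (candW.getD 12 []).reverse] := by
  decide +kernel

theorem off12Base_eq : off12Base = topCosBase.take 10 ++ [segW.flatten ++ (candW.getD 13 []).reverse] := by
  decide +kernel

theorem off13Base_eq : off13Base = topCosBase.take 10 ++ [segW.flatten ++ (candW.getD 14 []).reverse] := by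
  decide +kernel

theorem off14Base_eq : off14Base = topCosBase.take 10 ++ [segW.flatten ++ (candW.getD 15 []).reverse] := by
  decide +kernel

theorem genW_ok : ∀ s < 3, (genW.getD s []).all (fun a => Nat.blt a 6) = true ∧
    pts.all (fun p => Nat.beq (actL.go (genW.getD s []) p) (HSOut.actA.go [s] p)) = true := by decide +kernel

theorem genW_eval (s : ℕ) (hs : s < 3) : ev l0 (genW.getD s []) = HSOut.g s := by
  obtain ⟨hl, he⟩ := genW_ok s hs
  refine (inv_mul_eq_one.1 (HSOut.det _ fun p hp => ?_)).symm
  rw [map_mul, map_inv, Equiv.Perm.mul_apply, Equiv.Perm.inv_eq_iff_eq]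
  refine Fin.ext ?_
  have h1 := homL.apply_ev (genW.getD s []) (fun a ha => Nat.le_of_ble_eq_true (List.all_eq_true.1 hl a ha)) p
  have h2 := HSOut.homA.apply_ev [s] (fun a ha => by simp only [List.mem_singleton] at ha; exact ha ▸ hs) p
  have h3 : ev HSOut.g [s] = HSOut.g s := by simp [ev]
  rw [h3] at h2
  exact h1.trans ((Nat.eq_of_beq_eq_true (List.all_eq_true.1 he _ hp)).trans h2.symm)

theorem val_six : val l0 (singles (List.range 6)) = ⊤ := by
  refine top_le_iff.1 (HSOut.g_gen ▸ (Subgroup.closure_le _).2 ?_)
  rintro _ ⟨s, hs, rfl⟩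
  rw [SetLike.mem_coe, ← genW_eval s hs]
  exact ev_mem_val _ fun a ha =>
    List.mem_range.2 (Nat.le_of_ble_eq_true (List.all_eq_true.1 (genW_ok s hs).1 a ha))

variable {G : Type u} [Group G] {t : G} {H R V M K : Subgroup G} {g : ℕ → G}

theorem both (S : Slice t H R M g) {v w : List ℕ} (e : ev l0 v = ev l0 w)
    (h : ((v ++ w).all fun a => Nat.blt a 5) = true ∨ ((v ++ w).all fun a => hLet.contains a) = true) :
    ev g v = ev g w := by
  rcases h with h | h
  · exact (S.iffM v w (fun a ha => Nat.le_of_ble_eq_true (List.all_eq_true.1 h a (List.mem_append_left _ ha)))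
      fun a ha => Nat.le_of_ble_eq_true (List.all_eq_true.1 h a (List.mem_append_right _ ha))).2 e
  · exact (S.iffH v w (fun a ha => List.contains_iff_mem.1 (List.all_eq_true.1 h a (List.mem_append_left _ ha)))
      fun a ha => List.contains_iff_mem.1 (List.all_eq_true.1 h a (List.mem_append_right _ ha))).2 e

theorem chain_moves (S : Slice t H R M g) : ∀ (ss c : List (List ℕ)), chainOk ss c = true →
    ev g (c.headD []) * ev g ss.flatten = ev g ss.flatten * ev g (c.getLastD [])
  | s :: ss, x :: y :: r, h => by
    simp only [chainOk, Bool.and_eq_true, stepOk, Bool.or_eq_true] at h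
    have ih := chain_moves S ss (y :: r) h.2
    have hall : ∀ q : ℕ → Bool, (x ++ (s ++ y)).all q = true → ((x ++ s) ++ (s ++ y)).all q = true := by
      intro q hq
      simp only [List.all_append, Bool.and_eq_true] at hq ⊢
      exact ⟨⟨hq.1, hq.2.1⟩, hq.2⟩
    have e : ev g x * ev g s = ev g s * ev g y := by
      rw [← ev_append, ← ev_append]
      exact both S (eqL h.1.1) (h.1.2.imp (hall _) (hall _))
    have last : (x :: y :: r).getLastD [] = (y :: r).getLastD [] := by simp [List.getLastD_eq_getLast?]
    simp only [List.headD_cons] at ih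
    rw [List.flatten_cons, List.headD_cons, last, ev_append, ← mul_assoc, e, mul_assoc, ih, mul_assoc]
  | [], [x], _ => by simp [ev]
  | [], [], h => by simp [chainOk] at h
  | [], _ :: _ :: _, h => by simp [chainOk] at h
  | _ :: _, [], h => by simp [chainOk] at h
  | _ :: _, [_], h => by simp [chainOk] at h

theorem rel_one (S : Slice t H R M g) : ∀ w ∈ topCosBase.take 10, ev g w = 1 := by
  intro w hw
  have := List.all_eq_true.1 rel_chk w hw
  simp only [Bool.and_eq_true, Bool.or_eq_true] at this
  exact both S (w := []) (eqL this.1) (by rw [List.append_nil]; exact this.2)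

/-- The word is one of the candidates. -/
theorem wd_cand (S : Slice t H R M g) (hy : Hyp t H R V M K) :
    ∃ k ∈ candW, ev g segW.flatten = ev g k := by
  set a := ev g segW.flatten with ha
  have mv : ∀ c ∈ chainW, ev g (c.headD []) * a = a * ev g (c.getLastD []) := fun c hc =>
    chain_moves S segW c (List.all_eq_true.1 chains_ok c hc)
  have low : ∀ c ∈ chainW, (∀ s ∈ c.headD [], s < 4) ∧ ∀ s ∈ c.getLastD [], s < 4 := by
    intro c hc
    have := List.all_eq_true.1 chain_ends c hc
    simp only [Bool.and_eq_true, List.all_eq_true] at this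
    exact ⟨fun s hs => Nat.le_of_ble_eq_true (this.1 s hs), fun s hs => Nat.le_of_ble_eq_true (this.2 s hs)⟩
  have inH : a ∈ H := by
    rw [hy.memH]
    have hm : chainW.getD 7 [] ∈ chainW := by decide
    have := mv _ hm
    have l5 : ∀ {w : List ℕ}, (∀ s ∈ w, s < 4) → ∀ s ∈ w, s < 5 := fun h s hs => (h s hs).trans (by norm_num)
    rw [(S.iffM _ tL (l5 (low _ hm).1) (by decide)).2 (eqL t_chain.1),
      (S.iffM _ tL (l5 (low _ hm).2) (by decide)).2 (eqL t_chain.2), S.tval] at this
    exact this.symm
  obtain ⟨i, hi, e⟩ := S.surjH a inH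
  have hl : ∀ s ∈ decWord 24 (hlU.at i), s ∈ hLet := fun s hs =>
    List.contains_iff_mem.1 (List.all_eq_true.1 (hl_letters i hi) s hs)
  have six : ∀ {w : List ℕ}, (∀ s ∈ w, s ∈ hLet) → ∀ s ∈ w, s < 6 := fun h s hs =>
    (show ∀ x ∈ hLet, x < 6 by decide) s (h s hs)
  have h4 : ∀ {w : List ℕ}, (∀ s ∈ w, s < 4) → ∀ s ∈ w, s ∈ hLet := fun h s hs => by
    have := h s hs
    simp only [hLet, List.mem_cons, List.not_mem_nil, or_false]
    omega
  have hall : (chainW.all fun c => agree actL pts (c.headD [] ++ decWord 24 (hlU.at i))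
      (decWord 24 (hlU.at i) ++ c.getLastD [])) = true := by
    refine List.all_eq_true.2 fun c hc => ?_
    have hv : ∀ s ∈ c.headD [] ++ decWord 24 (hlU.at i), s ∈ hLet := fun s hs =>
      (List.mem_append.1 hs).elim (h4 (low c hc).1 s) (hl s)
    have hw : ∀ s ∈ decWord 24 (hlU.at i) ++ c.getLastD [], s ∈ hLet := fun s hs =>
      (List.mem_append.1 hs).elim (hl s) (h4 (low c hc).2 s)
    exact agreeL (six hv) (six hw) ((S.iffH _ _ hv hw).1 (by rw [ev_append, ev_append, e]; exact mv c hc))
  have hc := cand_chk i hi
  simp only [candOk, hall, Bool.not_true, Bool.false_or, List.any_eq_true] at hc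
  obtain ⟨k, hk, hsame⟩ := hc
  refine ⟨k, hk, e.symm.trans ((S.iffH _ _ hl fun s hs => ?_).2 (eqL hsame))⟩
  exact List.contains_iff_mem.1 (List.all_eq_true.1 (List.all_eq_true.1 cand_letters k hk) s hs)

theorem off_false (S : Slice t H R M g) {L : Log} {base : List (List ℕ)} {i : ℕ} (hn : L.n = 6)
    (hsub : L.sub = [[0], [1], [2], [3], [5]]) (hd : ∀ i, i + 1 < L.M → L.chkDef i = true)
    (hf : ∀ i, L.M ≤ i + 1 → i < L.nF → ∃ J, L.chkFact i J = true)
    (hder : L.rels.all (derivedOk L.n base) = true)
    (hbase : base = topCosBase.take 10 ++ [segW.flatten ++ (candW.getD i []).reverse])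
    (hw : ev g segW.flatten = ev g (candW.getD i [])) {cnt N : ℕ}
    (hloop : L.walk L.nF 0 cnt N 0 [4] = true) : False := by
  refine S.four_notMem ?_
  have := L.loop_mem (g := g) (H := H) (fun s _ => S.sq s) hd hf
    (fun r hr => ev_derived (fun s _ => S.sq s) (fun w hwm => by
      rw [hbase, List.mem_append, List.mem_singleton] at hwm
      rcases hwm with h | rfl
      · exact rel_one S w h
      · rw [ev_append, ev_rev S.sq, hw, mul_inv_cancel]) (List.all_eq_true.1 hder r hr))
    (fun w hwm => by
      rw [hsub] at hwm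
      exact S.memH w ((show ∀ v ∈ ([[0], [1], [2], [3], [5]] : List (List ℕ)), ∀ s ∈ v, s ∈ hLet by decide) w hwm))
    hloop
  simpa [ev] using this

theorem wd_eq (S : Slice t H R M g) (hy : Hyp t H R V M K) : ev g segW.flatten = ev g (candW.getD 0 []) := by
  obtain ⟨k, hk, hw⟩ := wd_cand S hy
  obtain ⟨i, hi, rfl⟩ := List.getElem_of_mem hk
  rw [← List.getD_eq_getElem _ [] hi] at hw
  change i < 16 at hi
  rcases Nat.eq_zero_or_pos i with rfl | hpos
  · exact hw
  exfalso
  interval_cases i
  · exact off_false S rfl rfl off0_defs off0_facts off0_derived off0Base_eq hw off0_loop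
  · exact off_false S rfl rfl off1_defs off1_facts off1_derived off1Base_eq hw off1_loop
  · exact off_false S rfl rfl off2_defs off2_facts off2_derived off2Base_eq hw off2_loop
  · exact off_false S rfl rfl off3_defs off3_facts off3_derived off3Base_eq hw off3_loop
  · exact off_false S rfl rfl off4_defs off4_facts off4_derived off4Base_eq hw off4_loop
  · exact off_false S rfl rfl off5_defs off5_facts off5_derived off5Base_eq hw off5_loop
  · exact off_false S rfl rfl off6_defs off6_facts off6_derived off6Base_eq hw off6_loop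
  · exact off_false S rfl rfl off7_defs off7_facts off7_derived off7Base_eq hw off7_loop
  · exact off_false S rfl rfl off8_defs off8_facts off8_derived off8Base_eq hw off8_loop
  · exact off_false S rfl rfl off9_defs off9_facts off9_derived off9Base_eq hw off9_loop
  · exact off_false S rfl rfl off10_defs off10_facts off10_derived off10Base_eq hw off10_loop
  · exact off_false S rfl rfl off11_defs off11_facts off11_derived off11Base_eq hw off11_loop
  · exact off_false S rfl rfl off12_defs off12_facts off12_derived off12Base_eq hw off12_loop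
  · exact off_false S rfl rfl off13_defs off13_facts off13_derived off13Base_eq hw off13_loop
  · exact off_false S rfl rfl off14_defs off14_facts off14_derived off14Base_eq hw off14_loop

variable [Finite G]

/-- The copy of the group on 100 points. -/
theorem exists_psi (S : Slice t H R M g) (hy : Hyp t H R V M K) :
    ∃ ψ : HS →* G, Function.Injective ψ ∧ ψ (HSOut.g 2) = t ∧ H ≤ ψ.range := by
  have hp : ∀ s, (g s, l0 s) * (g s, l0 s) = 1 := fun s => Prod.ext (S.sq s) (l0_sq s)
  have hw := wd_eq S hy
  have hbase : ∀ w ∈ topCosBase, ev g w = 1 := by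
    intro w hwm
    rw [topCosBase_eq, List.mem_append, List.mem_singleton] at hwm
    rcases hwm with h | rfl
    · exact rel_one S w h
    · rw [ev_append, ev_rev S.sq, hw, mul_inv_cancel]
  have hb : Bound (fun i => (g i, l0 i)) (List.range 6) (5775 * 7680) := by
    refine Bound.step (d := 7) hp S.bound topCos topCos_checks rfl (by decide +kernel) (base := topCosBase) ?_
      topCos_derived
    intro r hr
    have := List.all_eq_true.1 topCosBase_model r hr
    simp only [Bool.and_eq_true, List.all_eq_true] at this
    rw [(show ∀ x ∈ topCosBase, x.map (fun i => (List.range 6).getD i 7) = x by decide +kernel) r hr, ev_pair]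
    exact Prod.ext (hbase r hr) (eqL (w := []) this.2)
  set P : ℕ → G × HS := fun i => (g i, l0 i) with hP
  haveI := hb.1
  set D := val P (singles (List.range 6)) with hD
  let π : D →* HS := (MonoidHom.snd G HS).comp D.subtype
  have hsurj : Function.Surjective π := by
    intro y
    have hy' : y ∈ (val P (singles (List.range 6))).map (MonoidHom.snd G HS) := by
      rw [map_val P l0 _ _ fun s => rfl, val_six]
      exact Subgroup.mem_top y
    obtain ⟨z, hz, e⟩ := hy'
    exact ⟨⟨z, hz⟩, e⟩
  have hbij := hsurj.bijective_of_nat_card_le (by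
    rw [HSOut.card_H]
    exact hb.2.trans (by norm_num))
  let e := MulEquiv.ofBijective π hbij
  let ψ : HS →* G := ((MonoidHom.fst G HS).comp D.subtype).comp e.symm.toMonoidHom
  have key : ∀ w : List ℕ, (∀ a ∈ w, a < 6) → ψ (ev l0 w) = ev g w := by
    intro w hwm
    have hm : ev P w ∈ D := ev_mem_val _ fun a ha => List.mem_range.2 (hwm a ha)
    have e1 : e ⟨ev P w, hm⟩ = ev l0 w := by
      show (ev P w).2 = _
      rw [hP, ev_pair]
    show (e.symm (ev l0 w)).1.1 = _
    rw [← e1, e.symm_apply_apply]
    show (ev P w).1 = _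
    rw [hP, ev_pair]
  have ht : ψ (HSOut.g 2) = t := by
    rw [← genW_eval 2 (by norm_num), show genW.getD 2 [] = tL from rfl, key tL (by decide), S.tval]
  have hrange : H ≤ ψ.range := by
    intro y hy'
    obtain ⟨i, hi, e'⟩ := S.surjH y hy'
    refine ⟨ev l0 (decWord 24 (hlU.at i)), (key _ fun a ha => ?_).trans e'⟩
    exact (show ∀ x ∈ hLet, x < 6 by decide) a
      (List.contains_iff_mem.1 (List.all_eq_true.1 (hl_letters i hi) a ha))
  refine ⟨ψ, (injective_iff_map_eq_one ψ).2 fun y hy' => ?_, ht, hrange⟩
  by_contra hne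
  haveI : IsSimpleGroup HS := HSOut.isSimple
  have hk : ψ.ker = ⊤ := (ψ.normal_ker.eq_bot_or_eq_top).resolve_left fun h0 => hne (by
    have : y ∈ ψ.ker := hy'
    rwa [h0, Subgroup.mem_bot] at this)
  refine hy.tne ?_
  rw [← ht, ← MonoidHom.mem_ker, hk]
  exact Subgroup.mem_top _

end Cfsg.Agent.Grp.HSCent
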